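import Cfsg.Agent.Lib.Maximal.UnTv

/-!
The standard Hermitian form on a coordinate space: isotropic vectors and systems of equations.
-/

set_option autoImplicit false

namespace CfsgLib.TensorMax.Unitary

open scoped Matrix
open CfsgLib.Maximal (un_add_right un_smul_right)

variable {F : Type*} [Field F] {κ : Type} [Fintype κ]

/-- An involution of the field, not the identity. -/
structure Conj (τ : F ≃+* F) : Prop where
  ne : τ ≠ RingEquiv.refl F
  invol : ∀ a, τ (τ a) = a

/-- The standard Hermitian form. -/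
def hd (τ : F ≃+* F) (u v : κ → F) : F := u ⬝ᵥ (⇑τ ∘ v)

variable {τ : F ≃+* F}

theorem hd_apply (u v : κ → F) : hd τ u v = ∑ i, u i * τ (v i) := rfl

theorem hd_add_left (u v w : κ → F) : hd τ (u + v) w = hd τ u w + hd τ v w := add_dotProduct u v _

theorem hd_smul_left (c : F) (u v : κ → F) : hd τ (c • u) v = c * hd τ u v := smul_dotProduct c u _

theorem hd_add_right (u v w : κ → F) : hd τ u (v + w) = hd τ u v + hd τ u w := by
  simp only [hd_apply, Pi.add_apply, map_add, mul_add, Finset.sum_add_distrib]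

theorem hd_smul_right (c : F) (u v : κ → F) : hd τ u (c • v) = τ c * hd τ u v := by
  simp only [hd_apply, Pi.smul_apply, smul_eq_mul, map_mul, Finset.mul_sum]
  exact Finset.sum_congr rfl fun i _ => by ring

theorem hd_zero_left (v : κ → F) : hd τ 0 v = 0 := zero_dotProduct _

theorem hd_zero_right (v : κ → F) : hd τ v 0 = 0 := by simp [hd_apply]

theorem hd_neg_left (u v : κ → F) : hd τ (-u) v = -hd τ u v := neg_dotProduct u _

theorem hd_neg_right (u v : κ → F) : hd τ u (-v) = -hd τ u v := by simp [hd_apply]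

theorem hd_sub_left (u v w : κ → F) : hd τ (u - v) w = hd τ u w - hd τ v w := sub_dotProduct u v _

theorem hd_sub_right (u v w : κ → F) : hd τ u (v - w) = hd τ u v - hd τ u w := by
  simp [hd_apply, mul_sub, Finset.sum_sub_distrib]

theorem hd_sum_left {μ : Type} (s : Finset μ) (u : μ → κ → F) (v : κ → F) :
    hd τ (∑ j ∈ s, u j) v = ∑ j ∈ s, hd τ (u j) v := sum_dotProduct s u _

theorem hd_single_right [DecidableEq κ] (u : κ → F) (i : κ) (c : F) : hd τ u (Pi.single i c) = u i * τ c := by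
  simp [hd_apply, Pi.single_apply, apply_ite τ]

namespace Conj

variable (hτ : Conj τ)

include hτ

theorem hd_conj (u v : κ → F) : τ (hd τ u v) = hd τ v u := by
  simp [hd_apply, map_sum, hτ.invol, mul_comm]

theorem hd_symm_zero {u v : κ → F} (h : hd τ u v = 0) : hd τ v u = 0 := by
  rw [← hτ.hd_conj, h, map_zero]

theorem self_fixed (v : κ → F) : τ (hd τ v v) = hd τ v v := hτ.hd_conj v v

theorem eq_zero_of_forall {v : κ → F} (h : ∀ x, hd τ v x = 0) : v = 0 := by
  classical
  funext i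
  simpa [hd_single_right] using h (Pi.single i 1)

theorem eq_of_forall {u v : κ → F} (h : ∀ x, hd τ u x = hd τ v x) : u = v :=
  sub_eq_zero.1 (hτ.eq_zero_of_forall fun x => by rw [hd_sub_left, h, sub_self])

theorem isUnitaryForm : Cfsg.Geo.IsUnitaryForm τ (hd τ : (κ → F) → (κ → F) → F) where
  ne_refl := hτ.ne
  involutive := hτ.invol
  add_left := hd_add_left
  smul_left := hd_smul_left
  herm v w := (hτ.hd_conj w v).symm
  nondegenerate v hv := by
    obtain ⟨x, hx⟩ : ∃ x, hd τ v x ≠ 0 := by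
      by_contra h
      push Not at h
      exact hv (hτ.eq_zero_of_forall h)
    exact ⟨⟨x, fun e => hx (hτ.hd_symm_zero e)⟩, x, hx⟩

theorem fun_ne : (τ : F →+* F) ≠ RingHom.id F := fun h => hτ.ne (RingEquiv.ext fun a => RingHom.congr_fun h a)

theorem exists_skew : ∃ k : F, k ≠ 0 ∧ τ k = -k := by
  by_contra hcon
  push Not at hcon
  refine hτ.ne (RingEquiv.ext fun c => ?_)
  by_contra hc
  exact hcon (c - τ c) (sub_ne_zero.2 (Ne.symm hc)) (by rw [map_sub, hτ.invol]; ring)

/-- The trace is onto the fixed field. -/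
theorem exists_trace {c : F} (hc : τ c = c) : ∃ l : F, l + τ l = c := by
  obtain ⟨θ, hθ⟩ := CfsgLib.Geometry.exists_trace_one (σ := (τ : F →+* F)) hτ.fun_ne hτ.invol
  refine ⟨c * θ, ?_⟩
  rw [map_mul, hc, ← mul_add]
  exact (congrArg (c * ·) hθ).trans (mul_one c)

variable [Fintype F]

/-- The norm is onto the fixed field. -/
theorem exists_norm {c : F} (hc : τ c = c) : ∃ t : F, t * τ t = c :=
  CfsgLib.Geometry.exists_norm_eq (σ := (τ : F →+* F)) hτ.fun_ne hτ.invol hc

/-- Every subspace of dimension at least two contains an isotropic vector. -/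
theorem exists_isotropic (S : Submodule F (κ → F)) (hS : 2 ≤ Module.finrank F S) :
    ∃ z ∈ S, z ≠ 0 ∧ hd τ z z = 0 := by
  obtain ⟨x, hx, hx0⟩ := S.exists_mem_ne_zero_of_ne_bot fun e => by rw [e, finrank_bot] at hS; omega
  by_cases hxx : hd τ x x = 0
  · exact ⟨x, hx, hx0, hxx⟩
  obtain ⟨y, hy, hyx⟩ : ∃ y ∈ S, y ∉ F ∙ x := by
    by_contra hcon
    push Not at hcon
    have h := (Submodule.finrank_mono (show S ≤ F ∙ x from hcon)).trans (finrank_span_singleton hx0).le
    omega
  set z := y - (hd τ y x / hd τ x x) • x with hzd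
  have hz0 : z ≠ 0 := fun e => hyx (by
    rw [hzd, sub_eq_zero] at e
    exact e ▸ Submodule.smul_mem _ _ (Submodule.mem_span_singleton_self x))
  have hzS : z ∈ S := S.sub_mem hy (S.smul_mem _ hx)
  have hzx : hd τ z x = 0 := by rw [hzd, hd_sub_left, hd_smul_left, div_mul_cancel₀ _ hxx, sub_self]
  by_cases hzz : hd τ z z = 0
  · exact ⟨z, hzS, hz0, hzz⟩
  obtain ⟨t, ht⟩ := hτ.exists_norm (c := -hd τ x x / hd τ z z) (by rw [map_div₀, map_neg, hτ.self_fixed, hτ.self_fixed])
  refine ⟨x + t • z, S.add_mem hx (S.smul_mem _ hzS), fun e => ?_, ?_⟩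
  · have := congrArg (fun v => hd τ v x) e
    simp only [hd_add_left, hd_smul_left, hzx, mul_zero, add_zero, hd_zero_left] at this
    exact hxx this
  · simp only [hd_add_left, hd_add_right, hd_smul_left, hd_smul_right, hzx, hτ.hd_symm_zero hzx]
    linear_combination (congrArg (· * hd τ z z) ht).trans (div_mul_cancel₀ _ hzz)

end Conj

/-- The vectors orthogonal to some given ones. -/
def perp (τ : F ≃+* F) {k : ℕ} (v : Fin k → κ → F) : Submodule F (κ → F) :=
  LinearMap.ker (Matrix.mulVecLin (Matrix.of fun i => ⇑τ ∘ v i))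

theorem mem_perp {k : ℕ} {v : Fin k → κ → F} {x : κ → F} : x ∈ perp τ v ↔ ∀ i, hd τ x (v i) = 0 := by
  simp [perp, funext_iff, hd, Matrix.mulVec, dotProduct_comm x, Function.comp_def]

theorem le_finrank_perp {k : ℕ} (v : Fin k → κ → F) : Fintype.card κ ≤ Module.finrank F (perp τ v) + k := by
  have h := LinearMap.finrank_range_add_finrank_ker (Matrix.mulVecLin (Matrix.of fun i => ⇑τ ∘ v i))
  have h2 := (LinearMap.range (Matrix.mulVecLin (Matrix.of fun i => ⇑τ ∘ v i))).finrank_le
  simp only [Module.finrank_fintype_fun_eq_card, Fintype.card_fin] at h h2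
  have h3 : Module.finrank F (perp τ v) = Module.finrank F (LinearMap.ker (Matrix.mulVecLin (Matrix.of fun i => ⇑τ ∘ v i))) := rfl
  omega

namespace Conj

variable (hτ : Conj τ) [Fintype F]

include hτ

/-- An isotropic vector orthogonal to given ones. -/
theorem exists_isotropic_perp {k : ℕ} (v : Fin k → κ → F) (hk : k + 2 ≤ Fintype.card κ) :
    ∃ z, z ≠ 0 ∧ hd τ z z = 0 ∧ ∀ i, hd τ z (v i) = 0 := by
  obtain ⟨z, hz, hz0, hzz⟩ := hτ.exists_isotropic (perp τ v) (by have := le_finrank_perp (τ := τ) v; omega)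
  exact ⟨z, hz0, hzz, mem_perp.1 hz⟩

omit [Fintype F] in
/-- A hyperbolic partner. -/
theorem exists_partner {w : κ → F} (hw : w ≠ 0) (hww : hd τ w w = 0) :
    ∃ w', hd τ w' w' = 0 ∧ hd τ w w' = 1 := by
  obtain ⟨x, hx⟩ : ∃ x, hd τ w x ≠ 0 := by
    by_contra h
    push Not at h
    exact hw (hτ.eq_zero_of_forall h)
  set y := τ (hd τ w x)⁻¹ • x
  have hy : hd τ w y = 1 := by rw [hd_smul_right, hτ.invol, inv_mul_cancel₀ hx]
  obtain ⟨l, hl⟩ := hτ.exists_trace (c := -hd τ y y) (by rw [map_neg, hτ.self_fixed])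
  refine ⟨y + l • w, ?_, ?_⟩
  · simp only [hd_add_left, hd_add_right, hd_smul_left, hd_smul_right, hww, hy,
      show hd τ y w = 1 by rw [← hτ.hd_conj, hy, map_one]]
    linear_combination hl
  · rw [hd_add_right, hd_smul_right l w w, hww, mul_zero, add_zero, hy]

/-- A vector orthogonal to a hyperbolic pair is a combination of isotropic vectors orthogonal to it. -/
theorem exists_sum_isotropic_pair {w w' v : κ → F} (hn : 4 ≤ Fintype.card κ) (hw : hd τ w w = 0) (hw' : hd τ w' w' = 0)
    (hww' : hd τ w w' = 1) (hv : hd τ v w = 0) (hv' : hd τ v w' = 0) :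
    ∃ (a b : κ → F) (r : F), v = a + r • b ∧ (hd τ a a = 0 ∧ hd τ b b = 0) ∧ (hd τ a w = 0 ∧ hd τ a w' = 0) ∧
      (hd τ b w = 0 ∧ hd τ b w' = 0) := by
  by_cases hvv : hd τ v v = 0
  · exact ⟨v, v, 0, by simp, ⟨hvv, hvv⟩, ⟨hv, hv'⟩, hv, hv'⟩
  -- a non-singular vector orthogonal to all three
  obtain ⟨x, hx, hxx⟩ : ∃ x ∈ perp τ ![w, w', v], hd τ x x ≠ 0 := by
    by_contra hcon
    push Not at hcon
    obtain ⟨x, hx, hx0⟩ := (perp τ ![w, w', v]).exists_mem_ne_zero_of_ne_bot fun e => by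
      have := le_finrank_perp (τ := τ) ![w, w', v]
      rw [e, finrank_bot] at this
      omega
    have hts : ∀ y ∈ perp τ ![w, w', v], hd τ x y = 0 := by
      intro y hy
      by_contra hxy
      obtain ⟨c, hc⟩ : ∃ c : F, c + τ c ≠ 0 := by
        obtain ⟨l, hl⟩ := hτ.exists_trace (c := (1 : F)) (map_one τ)
        exact ⟨l, by rw [hl]; exact one_ne_zero⟩
      refine hc ?_
      have h := hcon _ ((perp τ ![w, w', v]).add_mem hx ((perp τ ![w, w', v]).smul_mem (τ (c / hd τ x y)) hy))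
      simp only [hd_add_left, hd_add_right, hd_smul_left, hd_smul_right, hcon x hx, hcon y hy,
        ← hτ.hd_conj x y] at h
      rw [hτ.invol, ← map_mul, div_mul_cancel₀ _ hxy] at h
      linear_combination h - div_mul_cancel₀ c hxy
    have hxw := (mem_perp.1 hx) 0
    have hxw' := (mem_perp.1 hx) 1
    have hxv := (mem_perp.1 hx) 2
    refine hx0 (hτ.eq_zero_of_forall fun y => ?_)
    have hmem : y - hd τ y w' • w - hd τ y w • w' - (hd τ y v / hd τ v v) • v ∈ perp τ ![w, w', v] := by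
      refine mem_perp.2 fun i => ?_
      fin_cases i <;>
        simp [hd_sub_left, hd_smul_left, hw, hw', hww', show hd τ w' w = 1 by rw [← hτ.hd_conj, hww', map_one],
          hv, hv', hτ.hd_symm_zero hv, hτ.hd_symm_zero hv', div_mul_cancel₀ _ hvv]
    have := hts _ hmem
    simp only [hd_sub_right, hd_smul_right] at this
    simp only [Matrix.cons_val_zero, Matrix.cons_val_one, Matrix.cons_val] at hxw hxw' hxv
    rwa [hxw, hxw', hxv, mul_zero, mul_zero, mul_zero, sub_zero, sub_zero, sub_zero] at this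
  have hxw : hd τ x w = 0 := (mem_perp.1 hx) 0
  have hxw' : hd τ x w' = 0 := (mem_perp.1 hx) 1
  have hxv : hd τ x v = 0 := (mem_perp.1 hx) 2
  obtain ⟨t, ht⟩ := hτ.exists_norm (c := -hd τ v v / hd τ x x) (by rw [map_div₀, map_neg, hτ.self_fixed, hτ.self_fixed])
  have ht0 : t ≠ 0 := fun e => by
    rw [e, zero_mul, eq_comm, div_eq_zero_iff] at ht
    exact hvv (neg_eq_zero.1 (ht.resolve_right hxx))
  obtain ⟨θ, hθ⟩ := hτ.exists_trace (c := (1 : F)) (map_one τ)
  obtain ⟨k, hk0, hk⟩ := hτ.exists_skew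
  obtain ⟨ζ, hζ, hζ1⟩ : ∃ ζ : F, ζ * τ ζ = 1 ∧ ζ ≠ 1 := by
    rcases eq_or_ne θ (τ θ) with e | e
    · refine ⟨-1, by simp, fun h => ?_⟩
      have h2 : (2 : F) = 0 := by linear_combination -h
      rw [← e] at hθ
      exact one_ne_zero (show (1 : F) = 0 by linear_combination θ * h2 - hθ)
    · have h0 : θ ≠ 0 := fun h => e (by rw [h, map_zero])
      refine ⟨θ / τ θ, ?_, fun h => e (eq_of_div_eq_one h)⟩
      rw [map_div₀, hτ.invol, div_mul_div_comm, mul_comm θ (τ θ), div_self (mul_ne_zero (by simpa using h0) h0)]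
  -- two isotropic vectors of the plane
  have hiso : ∀ s, s * τ s = t * τ t → hd τ (v + s • x) (v + s • x) = 0 := fun s hs => by
    simp only [hd_add_left, hd_add_right, hd_smul_left, hd_smul_right, hxv, hτ.hd_symm_zero hxv]
    linear_combination (congrArg (· * hd τ x x) (hs.trans ht)).trans (div_mul_cancel₀ _ hxx)
  have h1 : ζ - 1 ≠ 0 := sub_ne_zero.2 hζ1
  refine ⟨(ζ / (ζ - 1)) • (v + t • x), v + (ζ * t) • x, -(1 / (ζ - 1)), ?_, ⟨?_, hiso _ ?_⟩, ⟨?_, ?_⟩, ⟨?_, ?_⟩⟩
  · rw [smul_add, smul_add, smul_smul, smul_smul, add_add_add_comm, ← add_smul, ← add_smul,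
      show ζ / (ζ - 1) + -(1 / (ζ - 1)) = 1 by rw [← sub_eq_add_neg, ← sub_div, div_self h1],
      show ζ / (ζ - 1) * t + -(1 / (ζ - 1)) * (ζ * t) = 0 by ring, one_smul, zero_smul, add_zero]
  · rw [hd_smul_left, hd_smul_right, hiso t rfl, mul_zero, mul_zero]
  · rw [map_mul]; linear_combination (t * τ t) * hζ
  all_goals simp [hd_add_left, hd_smul_left, hv, hv', hxw, hxw']

/-- Isotropic vectors orthogonal to a hyperbolic pair span the orthogonal space of the pair. -/
theorem induction_pair {w w' : κ → F} (hn : 4 ≤ Fintype.card κ) (hw : hd τ w w = 0) (hw' : hd τ w' w' = 0)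
    (hww' : hd τ w w' = 1) {P : (κ → F) → Prop}
    (hadd : ∀ a b, P a → P b → P (a + b)) (hsmul : ∀ (c : F) a, P a → P (c • a))
    (h : ∀ d, hd τ d d = 0 → hd τ d w = 0 → hd τ d w' = 0 → P d) {v : κ → F} (hv : hd τ v w = 0)
    (hv' : hd τ v w' = 0) : P v := by
  obtain ⟨a, b, r, rfl, ⟨ha, hb⟩, ⟨ha1, ha2⟩, ⟨hb1, hb2⟩⟩ := hτ.exists_sum_isotropic_pair hn hw hw' hww' hv hv'
  exact hadd _ _ (h a ha ha1 ha2) (hsmul r _ (h b hb hb1 hb2))

/-- Isotropic vectors span the orthogonal space of an isotropic one. -/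
theorem induction_perp {w : κ → F} (hn : 4 ≤ Fintype.card κ) (hw0 : w ≠ 0) (hw : hd τ w w = 0) {P : (κ → F) → Prop}
    (hadd : ∀ a b, P a → P b → P (a + b)) (hsmul : ∀ (c : F) a, P a → P (c • a))
    (h : ∀ d, hd τ d d = 0 → hd τ d w = 0 → P d) {v : κ → F} (hv : hd τ v w = 0) : P v := by
  obtain ⟨w', hw', hww'⟩ := hτ.exists_partner hw0 hw
  have key := hτ.induction_pair hn hw hw' hww' hadd hsmul (fun d a b _ => h d a b)
    (v := v - hd τ v w' • w) (by rw [hd_sub_left, hd_smul_left, hw, hv, mul_zero, sub_zero])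
    (by rw [hd_sub_left, hd_smul_left, hww', mul_one, sub_self])
  have := hadd _ _ key (hsmul (hd τ v w') w (h w hw hw))
  rwa [sub_add_cancel] at this

/-- Isotropic vectors span everything. -/
theorem induction_isotropic (hn : 4 ≤ Fintype.card κ) {P : (κ → F) → Prop} (hadd : ∀ a b, P a → P b → P (a + b))
    (hsmul : ∀ (c : F) a, P a → P (c • a)) (h : ∀ d, hd τ d d = 0 → P d) (v : κ → F) : P v := by
  obtain ⟨w, hw0, hw, -⟩ := hτ.exists_isotropic_perp (fun i : Fin 0 => (0 : κ → F)) (by omega)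
  obtain ⟨w', hw', hww'⟩ := hτ.exists_partner hw0 hw
  have key := hτ.induction_perp hn hw0 hw hadd hsmul (fun d a _ => h d a)
    (v := v - hd τ v w • w') (by
      rw [hd_sub_left, hd_smul_left, show hd τ w' w = 1 by rw [← hτ.hd_conj, hww', map_one], mul_one, sub_self])
  have := hadd _ _ key (hsmul (hd τ v w) w' (h w' hw'))
  rwa [sub_add_cancel] at this

/-- Totally isotropic families. -/
theorem exists_ts {w : κ → F} (hw0 : w ≠ 0) (hw : hd τ w w = 0) : ∀ k, 2 * (k + 1) ≤ Fintype.card κ →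
    ∃ W : Fin (k + 1) → κ → F, W 0 = w ∧ LinearIndependent F W ∧ ∀ i j, hd τ (W i) (W j) = 0 := by
  intro k
  induction k with
  | zero =>
    exact fun _ => ⟨fun _ => w, rfl, LinearIndependent.of_subsingleton (ι := Fin 1) 0 hw0, fun _ _ => hw⟩
  | succ k ih =>
    intro hk
    obtain ⟨W, hW0, hli, hts⟩ := ih (by omega)
    set P := perp τ W
    have hWP : Submodule.span F (Set.range W) ≤ P := Submodule.span_le.2 (by
      rintro _ ⟨i, rfl⟩; exact mem_perp.2 fun j => hts i j)
    obtain ⟨C, hC⟩ := Submodule.exists_isCompl ((Submodule.span F (Set.range W)).comap P.subtype)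
    have hr : 2 ≤ Module.finrank F (C.map P.subtype) := by
      have h1 := Submodule.finrank_add_eq_of_isCompl hC
      rw [(Submodule.comapSubtypeEquivOfLe hWP).finrank_eq, finrank_span_eq_card hli, Fintype.card_fin] at h1
      rw [← (Submodule.equivMapOfInjective _ P.subtype_injective C).finrank_eq]
      have : Fintype.card κ ≤ Module.finrank F P + (k + 1) := le_finrank_perp W
      omega
    obtain ⟨_, ⟨z, hz, rfl⟩, hz0, hzz⟩ := hτ.exists_isotropic _ hr
    replace hzz : hd τ (z : κ → F) (z : κ → F) = 0 := hzz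
    refine ⟨Fin.snoc W (z : κ → F), ?_, linearIndependent_fin_snoc.2 ⟨hli, fun hm => hz0 ?_⟩, ?_⟩
    · rw [← hW0]; exact Fin.snoc_castSucc (α := fun _ => κ → F) _ W 0
    · have := Submodule.disjoint_def.1 hC.disjoint z hm hz
      simp [this]
    · have hzW : ∀ i, hd τ (z : κ → F) (W i) = 0 := mem_perp.1 z.2
      intro i j
      induction i using Fin.lastCases <;> induction j using Fin.lastCases <;>
        simp [Fin.snoc_last, Fin.snoc_castSucc, hts, hzz, hzW, fun i => hτ.hd_symm_zero (hzW i)]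

/-- Chevalley's theorem for polynomial functions with values in the fixed field. -/
theorem exists_zero {σ : Type} [Fintype σ] [DecidableEq σ] (f : MvPolynomial σ F) (hdeg : f.totalDegree < Fintype.card σ)
    (h0 : MvPolynomial.eval 0 f = 0) (hreal : ∀ x : σ → F, (∀ i, τ (x i) = x i) → τ (MvPolynomial.eval x f) = MvPolynomial.eval x f) :
    ∃ x : σ → F, (∀ i, τ (x i) = x i) ∧ x ≠ 0 ∧ MvPolynomial.eval x f = 0 := by
  classical
  let K := RingHom.eqLocusField (τ : F →+* F) (RingHom.id F)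
  obtain ⟨θ, hθ⟩ := hτ.exists_trace (c := (1 : F)) (map_one τ)
  let π : F → K := fun a => ⟨θ * a + τ (θ * a), show τ _ = _ by rw [map_add, hτ.invol]; exact add_comm _ _⟩
  have hπ : ∀ (a : F) (s : K), ((π a * s : K) : F) = θ * (a * s) + τ (θ * (a * s)) := fun a s => by
    have hs : τ (s : F) = s := s.2
    simp only [π, MulMemClass.coe_mul, map_mul, hs]
    ring
  let g : MvPolynomial σ K := ∑ d ∈ f.support, MvPolynomial.monomial d (π (f.coeff d))
  have heval : ∀ x : σ → K, ((MvPolynomial.eval x g : K) : F) =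
      θ * MvPolynomial.eval (fun i => (x i : F)) f + τ (θ * MvPolynomial.eval (fun i => (x i : F)) f) := by
    intro x
    rw [map_sum, AddSubmonoidClass.coe_finsetSum, MvPolynomial.eval_eq, Finset.mul_sum, map_sum, ← Finset.sum_add_distrib]
    refine Finset.sum_congr rfl fun d _ => ?_
    rw [MvPolynomial.eval_monomial, hπ, Finsupp.prod]
    simp [SubmonoidClass.coe_finsetProd]
  have hg : g.totalDegree < Fintype.card σ := by
    refine lt_of_le_of_lt ((MvPolynomial.totalDegree_finset_sum _ _).trans (Finset.sup_le fun d hd => ?_)) hdeg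
    exact (MvPolynomial.totalDegree_monomial_le _ _).trans (MvPolynomial.le_totalDegree hd)
  obtain ⟨p, hp⟩ := CharP.exists K
  haveI := Fintype.ofFinite K
  have hdvd := char_dvd_card_solutions p hg
  have h00 : MvPolynomial.eval (0 : σ → K) g = 0 := Subtype.ext (by
    rw [heval]
    simp only [show (fun i => (((0 : σ → K) i : K) : F)) = 0 from rfl, h0, mul_zero, map_zero, add_zero]
    rfl)
  obtain ⟨⟨x, hx⟩, hne⟩ := Fintype.exists_ne_of_one_lt_card
    (lt_of_lt_of_le (CharP.char_is_prime K p).one_lt (Nat.le_of_dvd (Fintype.card_pos_iff.2 ⟨⟨0, h00⟩⟩) hdvd)) ⟨0, h00⟩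
  refine ⟨fun i => (x i : F), fun i => (x i).2, fun e => hne (Subtype.ext (funext fun i => Subtype.ext ?_)), ?_⟩
  · exact congrFun e i
  · have h := congrArg (fun s : K => (s : F)) hx
    simp only [heval, ZeroMemClass.coe_zero] at h
    rw [map_mul, hreal _ (fun i => (x i).2), ← add_mul, hθ, one_mul] at h
    exact h

end Conj

end CfsgLib.TensorMax.Unitary
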