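import Cfsg.Agent.Lib.TensorMax.Touch
import Cfsg.Agent.Lib.TensorMax.Unitary.Herm
import Cfsg.Agent.Lib.Maximal.HermTv

/-!
Tensor products of two Hermitian spaces: singular lines, Siegel elements and elements fixing a line pointwise.
-/

set_option autoImplicit false

namespace CfsgLib.TensorMax.Unitary

open scoped Matrix
open CfsgLib.FieldMax (Mem map_unit_inj inv_apply_apply apply_inv_apply)

variable {F : Type*} [Field F] {α β : Type} [Fintype α] [Fintype β]

local notation "VV" => Matrix α β F

/-- The Hermitian form on the tensor space. -/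
def th (τ : F ≃+* F) (S T : Matrix α β F) : F := ∑ i, hd τ (S i) (T i)

/-- Contraction with a vector of the second factor. -/
def ct (τ : F ≃+* F) (w : β → F) : VV →ₗ[F] (α → F) := contr (⇑τ ∘ w)

/-- The Siegel element of the second factor. -/
def sg (τ : F ≃+* F) (w e : β → F) (c : F) : Module.End F (Matrix α β F) :=
  inj w ∘ₗ (c • ct τ w - ct τ e) + inj e ∘ₗ ct τ w

variable {τ : F ≃+* F}

theorem ct_apply (w : β → F) (T : VV) (i : α) : ct τ w T i = hd τ (T i) w := rfl

theorem ct_inj (w v : β → F) (u : α → F) : ct τ w (inj v u : VV) = hd τ v w • u := contr_inj v _ u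

theorem ct_smul (c : F) (w : β → F) (T : VV) : ct τ (c • w) T = τ c • ct τ w T :=
  funext fun i => by simp [ct_apply, hd_smul_right]

theorem ct_add (v w : β → F) (T : VV) : ct τ (v + w) T = ct τ v T + ct τ w T :=
  funext fun i => by simp [ct_apply, hd_add_right]

theorem inj_smul_left (c : F) (w : β → F) (u : α → F) : (inj (c • w) u : VV) = c • inj w u := by
  ext i j; simp [inj_apply, Matrix.vecMulVec_apply, mul_left_comm]

theorem inj_add_left (v w : β → F) (u : α → F) : (inj (v + w) u : VV) = inj v u + inj w u := by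
  ext i j; simp [inj_apply, Matrix.vecMulVec_apply, mul_add]

theorem inj_zero_left (u : α → F) : (inj (0 : β → F) u : VV) = 0 := by
  ext i j; simp [inj_apply, Matrix.vecMulVec_apply]

theorem sg_apply (w e : β → F) (c : F) (T : VV) :
    (sg τ w e c : Module.End F VV) T = inj w (c • ct τ w T - ct τ e T) + inj e (ct τ w T) := rfl

theorem th_add_left (S S' T : VV) : th τ (S + S') T = th τ S T + th τ S' T := by
  simp only [th, ← Finset.sum_add_distrib]
  exact Finset.sum_congr rfl fun i _ => hd_add_left _ _ _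

theorem th_smul_left (c : F) (S T : VV) : th τ (c • S) T = c * th τ S T := by
  simp only [th, Finset.mul_sum]
  exact Finset.sum_congr rfl fun i _ => hd_smul_left c _ _

theorem th_add_right (S T T' : VV) : th τ S (T + T') = th τ S T + th τ S T' := by
  simp only [th, ← Finset.sum_add_distrib]
  exact Finset.sum_congr rfl fun i _ => hd_add_right _ _ _

theorem th_smul_right (c : F) (S T : VV) : th τ S (c • T) = τ c * th τ S T := by
  simp only [th, Finset.mul_sum]
  exact Finset.sum_congr rfl fun i _ => hd_smul_right c _ _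

theorem th_neg_left (S T : VV) : th τ (-S) T = -th τ S T := by
  rw [← neg_one_smul F S, th_smul_left, neg_one_mul]

theorem th_sub_left (S S' T : VV) : th τ (S - S') T = th τ S T - th τ S' T := by
  rw [sub_eq_add_neg, th_add_left, th_neg_left, ← sub_eq_add_neg]

theorem th_zero_left (T : VV) : th τ 0 T = 0 := by
  rw [← zero_smul F (0 : VV), th_smul_left, zero_mul]

theorem th_zero_right (T : VV) : th τ T 0 = 0 := by
  rw [← zero_smul F (0 : VV), th_smul_right, map_zero, zero_mul]

theorem th_inj_left (hτ : Conj τ) (w : β → F) (u : α → F) (T : VV) : th τ (inj w u) T = hd τ u (ct τ w T) := by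
  simp only [th, hd_apply (u := u), ct_apply, hτ.hd_conj]
  refine Finset.sum_congr rfl fun i _ => ?_
  rw [show (inj w u : VV) i = u i • w from rfl, hd_smul_left]

theorem th_conj (hτ : Conj τ) (S T : VV) : τ (th τ S T) = th τ T S := by
  simp [th, map_sum, hτ.hd_conj]

theorem th_inj_right (hτ : Conj τ) (w : β → F) (u : α → F) (T : VV) : th τ T (inj w u) = hd τ (ct τ w T) u := by
  rw [← th_conj hτ, th_inj_left hτ, hτ.hd_conj]

theorem th_eq_zero_of_forall (hτ : Conj τ) {S : VV} (h : ∀ T, th τ S T = 0) : S = 0 := by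
  classical
  funext i
  refine hτ.eq_zero_of_forall fun x => ?_
  have := h (inj x (Pi.single i 1))
  rwa [th_inj_right hτ, hd_single_right, map_one, mul_one, ct_apply] at this

/-- The group preserves the form and contains the special parts of both factors. -/
structure UBase [DecidableEq α] [DecidableEq β] (τ : F ≃+* F) (M : Subgroup (Module.End F (Matrix α β F))ˣ) : Prop where
  conj : Conj τ
  iso : ∀ g ∈ M, ∀ S T, th τ ((g : Module.End F VV) S) ((g : Module.End F VV) T) = th τ S T
  left : ∀ A : Matrix α α F, (∀ u v, hd τ (A *ᵥ u) (A *ᵥ v) = hd τ u v) → A.det = 1 →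
    ∃ u ∈ M, (u : Module.End F VV) = mulL A
  right : ∀ B : Matrix β β F, (∀ u v, hd τ (u ᵥ* B) (v ᵥ* B) = hd τ u v) → B.det ^ Fintype.card α = 1 →
    ∃ u ∈ M, (u : Module.End F VV) = mulR B
  two_le : 2 ≤ Fintype.card α

/-- The group contains the special part of the stabiliser of the two Hermitian factors. -/
structure UExt [DecidableEq α] [DecidableEq β] (τ : F ≃+* F) (M : Subgroup (Module.End F (Matrix α β F))ˣ) : Prop
    extends UBase τ M where
  lt : Fintype.card α < Fintype.card β
  four : 4 ≤ Fintype.card β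

/-- An element of the radical of a singular line stabiliser outside the root group. -/
def NonRootU (τ : F ≃+* F) (M : Subgroup (Module.End F (Matrix α β F))ˣ) : Prop :=
  ∃ (w : β → F) (E : (α → F) →ₗ[F] (α → F)), w ≠ 0 ∧ hd τ w w = 0 ∧ Mem M (inj w ∘ₗ E ∘ₗ ct τ w) ∧
    ¬ ∃ c : F, ∀ u, E u = c • u

/-- A singular line meets its image in a subspace of at least the given dimension. -/
def TouchU (τ : F ≃+* F) (M : Subgroup (Module.End F (Matrix α β F))ˣ) (k : ℕ) : Prop :=
  ∃ g ∈ M, ∃ w : β → F, w ≠ 0 ∧ hd τ w w = 0 ∧ (line (α := α) w).map (g : Module.End F VV) ≠ line w ∧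
    k ≤ Module.finrank F (line (α := α) w ⊓ (line (α := α) w).map (g : Module.End F VV) : Submodule F VV)

/-- The image of the line is no singular line. -/
def NL (τ : F ≃+* F) (g : Module.End F (Matrix α β F)) (w : β → F) : Prop :=
  ∀ v : β → F, hd τ v v = 0 → (line (α := α) w).map g ≠ line v

/-- A map acting as a scalar. -/
def IsScal (E : (α → F) →ₗ[F] (α → F)) : Prop := ∃ c : F, ∀ u, E u = c • u

theorem IsScal.add {E E' : (α → F) →ₗ[F] (α → F)} (h : IsScal E) (h' : IsScal E') : IsScal (E + E') := by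
  obtain ⟨c, hc⟩ := h; obtain ⟨c', hc'⟩ := h'
  exact ⟨c + c', fun u => by rw [LinearMap.add_apply, hc, hc', add_smul]⟩

theorem IsScal.smul {E : (α → F) →ₗ[F] (α → F)} (h : IsScal E) (r : F) : IsScal (r • E) := by
  obtain ⟨c, hc⟩ := h
  exact ⟨r * c, fun u => by rw [LinearMap.smul_apply, hc, smul_smul]⟩

theorem IsScal.of_smul {E : (α → F) →ₗ[F] (α → F)} {r : F} (hr : r ≠ 0) (h : IsScal (r • E)) : IsScal E := by
  have := h.smul r⁻¹
  rwa [inv_smul_smul₀ hr] at this

/-- If all semilinear combinations are scalar then so are the two terms. -/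
theorem IsScal.of_semilinear (hτ : Conj τ) {P Q : (α → F) →ₗ[F] (α → F)}
    (h : ∀ l : F, IsScal (l • P + τ l • Q)) : IsScal P ∧ IsScal Q := by
  obtain ⟨μ, hμ⟩ : ∃ μ : F, τ μ ≠ μ := by
    by_contra hcon
    push Not at hcon
    exact hτ.ne (RingEquiv.ext hcon)
  have h1 : IsScal (P + Q) := by simpa using h 1
  constructor
  · refine IsScal.of_smul (sub_ne_zero.2 hμ.symm) ?_
    convert (h μ).add (h1.smul (-τ μ)) using 1
    module
  · refine IsScal.of_smul (sub_ne_zero.2 hμ) ?_
    convert (h μ).add (h1.smul (-μ)) using 1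
    module

namespace UBase

variable [DecidableEq α] [DecidableEq β] {M : Subgroup (Module.End F (Matrix α β F))ˣ} (hM : UBase τ M)

include hM

theorem adj {g : (Module.End F VV)ˣ} (hg : g ∈ M) (S T : VV) :
    th τ ((g : Module.End F VV) S) T = th τ S (((g⁻¹ : (Module.End F VV)ˣ) : Module.End F VV) T) := by
  conv_lhs => rw [← apply_inv_apply g T, hM.iso g hg]

theorem adj' {g : (Module.End F VV)ˣ} (hg : g ∈ M) (S T : VV) :
    th τ S ((g : Module.End F VV) T) = th τ (((g⁻¹ : (Module.End F VV)ˣ) : Module.End F VV) S) T := by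
  conv_lhs => rw [← apply_inv_apply g S, hM.iso g hg]

/-- The Siegel elements are in the group. -/
theorem mem_sg {w e : β → F} (hw : hd τ w w = 0) (he : hd τ e w = 0) {c : F} (hc : c + τ c + hd τ e e = 0) :
    Mem M (sg τ w e c) := by
  have hf := hM.conj.isUnitaryForm (κ := β)
  set U := CfsgLib.Maximal.unSiegel hf hw he c
  have hdet : (U : Matrix β β F).det = 1 :=
    (CfsgLib.Maximal.mem_specialLinear_iff _).1 (CfsgLib.Maximal.unSiegel_mem_SL hf hw he c)
  obtain ⟨u, hu, e'⟩ := hM.right (U : Matrix β β F)ᵀ (fun x y => by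
    rw [Matrix.vecMul_transpose, Matrix.vecMul_transpose]
    exact CfsgLib.Maximal.unSiegel_isometry hf hw he hc x y) (by rw [Matrix.det_transpose, hdet, one_pow])
  refine ⟨u, hu, LinearMap.ext fun T => funext fun i => ?_⟩
  rw [e', mulR_apply, show (T * (U : Matrix β β F)ᵀ) i = T i ᵥ* (U : Matrix β β F)ᵀ from rfl, Matrix.vecMul_transpose,
    CfsgLib.Maximal.unSiegel_mulVec]
  ext j
  simp [sg_apply, inj_apply, Matrix.vecMulVec_apply, ct_apply]
  ring

theorem mem_rt {w : β → F} (hw : hd τ w w = 0) {k : F} (hk : τ k = -k) :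
    Mem M (inj w ∘ₗ (k • ct τ w)) := by
  convert hM.mem_sg hw (e := 0) (hd_zero_left w) (c := k) (by rw [hk, hd_zero_left]; ring) using 1
  refine LinearMap.ext fun T => ?_
  rw [sg_apply, inj_zero_left]
  simp [ct, contr_apply]

theorem sg_sq {w d : β → F} (hw : hd τ w w = 0) (hd0 : hd τ d d = 0) (hdw : hd τ d w = 0) :
    (sg τ w d 0 : Module.End F VV) * sg τ w d 0 = 0 := by
  refine LinearMap.ext fun T => ?_
  simp [Module.End.mul_apply, sg_apply, ct_inj, hw, hd0, hdw, hM.conj.hd_symm_zero hdw]

/-- An element fixing a line pointwise preserves the contraction with it. -/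
theorem ct_of_fix {x : (Module.End F VV)ˣ} (hx : x ∈ M) {w : β → F}
    (hfix : ∀ u, (x : Module.End F VV) (inj w u) = inj w u) (T : VV) :
    ct τ w ((x : Module.End F VV) T) = ct τ w T := by
  refine hM.conj.eq_of_forall fun u => ?_
  rw [← th_inj_right hM.conj, ← th_inj_right hM.conj]
  conv_lhs => rw [← hfix u, hM.iso x hx]

end UBase

namespace UExt

variable [DecidableEq α] [DecidableEq β] {M : Subgroup (Module.End F (Matrix α β F))ˣ} (hM : UExt τ M)

include hM

theorem four_le : 4 ≤ Fintype.card β := hM.four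

/-- An element fixing a singular line pointwise acts on the quotient through the second factor, or gives a radical element. -/
theorem scalar_of_fix {x : (Module.End F VV)ˣ} (hx : x ∈ M) {w : β → F} (hw0 : w ≠ 0) (hw : hd τ w w = 0)
    (hfix : ∀ u, (x : Module.End F VV) (inj w u) = inj w u) :
    NonRootU τ M ∨ ∀ d d' : β → F, hd τ d d = 0 → hd τ d w = 0 → hd τ d' d' = 0 → hd τ d' w = 0 →
      IsScal (ct τ d' ∘ₗ (x : Module.End F VV) ∘ₗ inj d) := by
  refine or_iff_not_imp_left.2 fun hN d d' hd0 hdw hd0' hdw' => ?_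
  set xi := ((x⁻¹ : (Module.End F VV)ˣ) : Module.End F VV) with hxi
  have hfix' : ∀ u, xi (inj w u) = inj w u := fun u => by
    conv_lhs => rw [← hfix u, hxi, inv_apply_apply]
  have hctx := hM.ct_of_fix (inv_mem hx) hfix'
  have hctx0 := hM.ct_of_fix hx hfix
  -- the commutator of two Siegel elements, one of them conjugated
  have key : ∀ d d' : β → F, hd τ d d = 0 → hd τ d w = 0 → hd τ d' d' = 0 → hd τ d' w = 0 →
      IsScal (ct τ d' ∘ₗ xi ∘ₗ inj d - ct τ d ∘ₗ (x : Module.End F VV) ∘ₗ inj d') := by
    intro d d' hd0 hdw hd0' hdw'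
    by_contra hE
    refine hN ⟨w, _, hw0, hw, ?_, hE⟩
    have hwd := hM.conj.hd_symm_zero hdw
    have hwd' := hM.conj.hd_symm_zero hdw'
    have hsg := hM.mem_sg hw hdw (c := 0) (by simp [hd0])
    have hsg' := (hM.mem_sg hw hdw' (c := 0) (by simp [hd0'])).conj hx
    have hC' : ∀ T, ((x : Module.End F VV) * sg τ w d' 0 * xi : Module.End F VV) T =
        (x : Module.End F VV) (inj d' (ct τ w T)) - inj w (ct τ d' (xi T)) := by
      intro T
      simp only [Module.End.mul_apply, sg_apply, map_add, hfix, zero_smul, zero_sub, map_neg, hxi, hctx T]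
      module
    have hw2 : ∀ T, ct τ w (((x : Module.End F VV) * sg τ w d' 0 * xi : Module.End F VV) T) = 0 := fun T => by
      rw [hC', map_sub, hctx0, ct_inj, ct_inj, hdw', hw, zero_smul, zero_smul, sub_zero]
    have hd2 : ∀ T, ct τ d (((x : Module.End F VV) * sg τ w d' 0 * xi : Module.End F VV) T) =
        ct τ d ((x : Module.End F VV) (inj d' (ct τ w T))) := fun T => by
      rw [hC', map_sub, ct_inj, hwd, zero_smul, sub_zero]
    have hw1 : ∀ T, ct τ w ((sg τ w d 0 : Module.End F VV) T) = 0 := fun T => by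
      simp [sg_apply, ct_inj, hw, hdw]
    have hA : ∀ T, (sg τ w d 0 : Module.End F VV) (((x : Module.End F VV) * sg τ w d' 0 * xi : Module.End F VV) T) =
        -inj w (ct τ d ((x : Module.End F VV) (inj d' (ct τ w T)))) := fun T => by
      rw [sg_apply, hw2, hd2]; simp
    have hA' : ∀ T, ((x : Module.End F VV) * sg τ w d' 0 * xi : Module.End F VV) ((sg τ w d 0 : Module.End F VV) T) =
        -inj w (ct τ d' (xi (inj d (ct τ w T)))) := fun T => by
      rw [hC', hw1, sg_apply]
      simp [hfix', ct_inj, hwd']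
    convert hsg.commutator hsg' (hM.sg_sq hw hd0 hdw) ?_ ?_ ?_ using 1
    · refine LinearMap.ext fun T => ?_
      simp only [← hxi]
      show _ = (sg τ w d 0 : Module.End F VV) (((x : Module.End F VV) * sg τ w d' 0 * xi : Module.End F VV) T) -
        ((x : Module.End F VV) * sg τ w d' 0 * xi : Module.End F VV) ((sg τ w d 0 : Module.End F VV) T)
      rw [hA, hA']
      simp only [LinearMap.comp_apply, LinearMap.sub_apply, map_sub]
      abel
    · rw [← hxi, show (x : Module.End F VV) * sg τ w d' 0 * xi * ((x : Module.End F VV) * sg τ w d' 0 * xi) =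
        (x : Module.End F VV) * (sg τ w d' 0 * (xi * (x : Module.End F VV)) * sg τ w d' 0) * xi by simp only [mul_assoc],
        hxi, Units.inv_mul, mul_one, hM.sg_sq hw hd0' hdw']
      simp
    · refine LinearMap.ext fun T => ?_
      rw [Module.End.mul_apply, Module.End.mul_apply, ← hxi, hA, hw1]
      simp
    · refine LinearMap.ext fun T => ?_
      rw [Module.End.mul_apply, Module.End.mul_apply, ← hxi, hA', hw2]
      simp
  refine (IsScal.of_semilinear hM.conj (P := ct τ d ∘ₗ xi ∘ₗ inj d') (Q := -(ct τ d' ∘ₗ (x : Module.End F VV) ∘ₗ inj d))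
    fun l => ?_).2.smul (-1) |> fun h => by simpa using h
  have := key (l • d') d (by rw [hd_smul_left, hd_smul_right, hd0', mul_zero, mul_zero])
    (by rw [hd_smul_left, hdw', mul_zero]) hd0 hdw
  convert this using 1
  refine LinearMap.ext fun u => ?_
  simp [inj_smul_left, ct_smul]
  abel

end UExt

end CfsgLib.TensorMax.Unitary
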