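import Cfsg.Agent.Lib.TensorMax.Unitary.Basic

/-!
The abelian family of skew-Hermitian maps with image in a totally singular tensor subspace.
-/

set_option autoImplicit false

namespace CfsgLib.TensorMax.Unitary

open scoped Matrix
open CfsgLib.FieldMax (Mem map_unit_inj inv_apply_apply apply_inv_apply)

variable {F : Type*} [Field F] {α β : Type} [Fintype α] [Fintype β] {k : ℕ}

local notation "VV" => Matrix α β F

/-- The map of a coefficient matrix on a family of vectors of the second factor. -/
def jg (τ : F ≃+* F) (W : Fin k → β → F) (G : Matrix (Fin k) (Fin k) F) : Module.End F (Matrix α β F) :=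
  ∑ i, ∑ j, G i j • (inj (W i) ∘ₗ ct τ (W j))

/-- A scalar for each off-diagonal position. -/
def offc (ω : F) (p : Fin k × Fin k) : F := if p.1 < p.2 then 1 else ω

/-- The basic skew-Hermitian coefficient matrices. -/
def gb (τ : F ≃+* F) (κ ω : F) (p : Fin k × Fin k) : Matrix (Fin k) (Fin k) F :=
  if p.1 = p.2 then Matrix.single p.1 p.1 κ
  else Matrix.single p.2 p.1 (offc ω p) - Matrix.single p.1 p.2 (τ (offc ω p))

/-- The skew-Hermitian coefficient matrix of real coordinates. -/
def gx (τ : F ≃+* F) (κ ω : F) (x : Fin k × Fin k → F) : Matrix (Fin k) (Fin k) F := ∑ p, x p • gb τ κ ω p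

variable {τ : F ≃+* F}

theorem jg_apply (W : Fin k → β → F) (G : Matrix (Fin k) (Fin k) F) (T : VV) :
    (jg τ W G : Module.End F VV) T = ∑ i, inj (W i) (∑ j, G i j • ct τ (W j) T) := by
  simp [jg, LinearMap.sum_apply, map_sum]

theorem jg_add (W : Fin k → β → F) (G G' : Matrix (Fin k) (Fin k) F) :
    (jg τ W (G + G') : Module.End F VV) = jg τ W G + jg τ W G' := by
  simp [jg, add_smul, Finset.sum_add_distrib]

theorem jg_smul (W : Fin k → β → F) (c : F) (G : Matrix (Fin k) (Fin k) F) :
    (jg τ W (c • G) : Module.End F VV) = c • jg τ W G := by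
  simp [jg, Finset.smul_sum, smul_smul]

theorem jg_zero (W : Fin k → β → F) : (jg τ W (0 : Matrix (Fin k) (Fin k) F) : Module.End F VV) = 0 := by
  simp [jg]

theorem jg_sub (W : Fin k → β → F) (G G' : Matrix (Fin k) (Fin k) F) :
    (jg τ W (G - G') : Module.End F VV) = jg τ W G - jg τ W G' := by
  rw [eq_sub_iff_add_eq, ← jg_add, sub_add_cancel]

theorem jg_single (W : Fin k → β → F) (i j : Fin k) (c : F) :
    (jg τ W (Matrix.single i j c) : Module.End F VV) = c • (inj (W i) ∘ₗ ct τ (W j)) := by
  simp [jg, Matrix.single_apply, ite_smul, ite_and, Finset.sum_ite_eq]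

theorem jg_gx (W : Fin k → β → F) (κ ω : F) (x : Fin k × Fin k → F) :
    (jg τ W (gx τ κ ω x) : Module.End F VV) = ∑ p, x p • jg τ W (gb τ κ ω p) := by
  rw [gx]
  induction (Finset.univ : Finset (Fin k × Fin k)) using Finset.induction with
  | empty => simp [jg_zero]
  | @insert a s ha ih => rw [Finset.sum_insert ha, Finset.sum_insert ha, jg_add, jg_smul, ih]

variable {W : Fin k → β → F}

/-- The family kills its image. -/
theorem ct_jg (hts : ∀ i j, hd τ (W i) (W j) = 0) (G : Matrix (Fin k) (Fin k) F) (l : Fin k) (T : VV) :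
    ct τ (W l) ((jg τ W G : Module.End F VV) T) = 0 := by
  simp [jg_apply, map_sum, ct_inj, hts]

theorem jg_mul (hts : ∀ i j, hd τ (W i) (W j) = 0) (G G' : Matrix (Fin k) (Fin k) F) :
    (jg τ W G : Module.End F VV) * jg τ W G' = 0 := by
  refine LinearMap.ext fun T => ?_
  rw [Module.End.mul_apply, jg_apply]
  simp [ct_jg hts]

theorem skew_gx (hτ : Conj τ) {κ : F} (hκ : τ κ = -κ) (ω : F) {x : Fin k × Fin k → F} (hx : ∀ p, τ (x p) = x p)
    (i j : Fin k) : τ (gx τ κ ω x i j) = -gx τ κ ω x j i := by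
  simp only [gx, Matrix.sum_apply, Matrix.smul_apply, smul_eq_mul, map_sum, map_mul, hx, ← Finset.sum_neg_distrib]
  refine Finset.sum_congr rfl fun p _ => ?_
  rw [← mul_neg]
  congr 1
  obtain ⟨a, b⟩ := p
  simp only [gb]
  split_ifs with h
  · simp only [Matrix.single_apply]
    by_cases h1 : a = i <;> by_cases h2 : a = j <;> simp [h1, h2, hκ] <;> simp_all
  · simp only [Matrix.sub_apply, Matrix.single_apply]
    by_cases h1 : a = i <;> by_cases h2 : b = j <;> by_cases h3 : a = j <;> by_cases h4 : b = i <;>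
      simp [h1, h2, h3, h4, hτ.invol] <;> simp_all

theorem th_jg (hτ : Conj τ) {G : Matrix (Fin k) (Fin k) F} (hG : ∀ i j, τ (G i j) = -G j i) (S T : VV) :
    th τ ((jg τ W G : Module.End F VV) S) T = -th τ S ((jg τ W G : Module.End F VV) T) := by
  have h1 : ∀ S T : VV, th τ ((jg τ W G : Module.End F VV) S) T =
      ∑ i, ∑ j, G i j * hd τ (ct τ (W j) S) (ct τ (W i) T) := by
    intro S T
    have e : ∀ (s : Finset (Fin k)) (f : Fin k → VV), th τ (∑ i ∈ s, f i) T = ∑ i ∈ s, th τ (f i) T := by
      intro s f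
      induction s using Finset.induction with
      | empty => simp [th_zero_left]
      | @insert a s ha ih => rw [Finset.sum_insert ha, Finset.sum_insert ha, th_add_left, ih]
    rw [jg_apply, e]
    refine Finset.sum_congr rfl fun i _ => ?_
    rw [th_inj_left hτ, hd_sum_left]
    exact Finset.sum_congr rfl fun j _ => hd_smul_left _ _ _
  rw [h1, ← th_conj hτ ((jg τ W G : Module.End F VV) T) S, h1, map_sum, ← Finset.sum_neg_distrib, Finset.sum_comm]
  refine Finset.sum_congr rfl fun i _ => ?_
  rw [map_sum, ← Finset.sum_neg_distrib]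
  exact Finset.sum_congr rfl fun j _ => by rw [map_mul, hτ.hd_conj, hG, neg_mul, neg_neg]

theorem gx_ne_zero (hτ : Conj τ) {κ ω : F} (hκ : κ ≠ 0) (hω : τ ω ≠ ω) {x : Fin k × Fin k → F}
    (hx : ∀ p, τ (x p) = x p) (h : x ≠ 0) : gx τ κ ω x ≠ 0 := by
  intro h0
  apply h
  funext ⟨a, b⟩
  have hent : ∀ i j, i < j → gx τ κ ω x j i = x (i, j) - τ ω * x (j, i) := by
    intro i j hij
    rw [gx, Matrix.sum_apply, Finset.sum_eq_add (i, j) (j, i) (fun e => hij.ne (congrArg Prod.fst e))]
    · simp [gb, offc, hij, hij.ne, hij.ne', not_lt.2 hij.le]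
      ring
    · rintro ⟨c, d⟩ - ⟨h1, h2⟩
      have e1 : ¬(c = j ∧ d = i) := fun e => h2 (by rw [e.1, e.2])
      have e2 : ¬(d = j ∧ c = i) := fun e => h1 (by rw [e.1, e.2])
      simp only [gb]
      split_ifs with hc
      · have e3 : ¬(c = j ∧ c = i) := fun e => hij.ne (e.2.symm.trans e.1)
        simp [e3]
      · simp [e1, e2]
    · exact fun h => absurd (Finset.mem_univ _) h
    · exact fun h => absurd (Finset.mem_univ _) h
  have hdiag : ∀ i, gx τ κ ω x i i = κ * x (i, i) := by
    intro i
    rw [gx, Matrix.sum_apply, Finset.sum_eq_single (i, i)]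
    · simp [gb, mul_comm]
    · rintro ⟨c, d⟩ - hne
      simp only [gb]
      split_ifs with hc
      · have e1 : ¬ c = i := fun e => hne (Prod.ext e (hc.symm.trans e))
        simp [e1]
      · have e1 : ¬(d = i ∧ c = i) := fun e => hc (e.2.trans e.1.symm)
        have e2 : ¬(c = i ∧ d = i) := fun e => hc (e.1.trans e.2.symm)
        simp [e1, e2]
    · exact fun h => absurd (Finset.mem_univ _) h
  have hoff : ∀ i j, i < j → x (i, j) = 0 ∧ x (j, i) = 0 := by
    intro i j hij
    have h1 := hent i j hij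
    rw [h0, Matrix.zero_apply] at h1
    have h2 := congrArg τ h1
    rw [map_zero, map_sub, map_mul, hx, hx, hτ.invol] at h2
    have h3 : (ω - τ ω) * x (j, i) = 0 := by linear_combination h2 - h1
    have h4 := (mul_eq_zero.1 h3).resolve_left (sub_ne_zero.2 (Ne.symm hω))
    exact ⟨by rw [h4] at h1; linear_combination -h1, h4⟩
  rcases lt_trichotomy a b with hab | rfl | hab
  · exact (hoff a b hab).1
  · have := hdiag a
    rw [h0, Matrix.zero_apply, zero_eq_mul] at this
    exact this.resolve_left hκ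
  · exact (hoff b a hab).2

namespace UExt

variable [DecidableEq α] [DecidableEq β] {M : Subgroup (Module.End F (Matrix α β F))ˣ} (hM : UExt τ M)

include hM

theorem mem_jg (hts : ∀ i j, hd τ (W i) (W j) = 0) {κ : F} (hκ : τ κ = -κ) (ω : F) {x : Fin k × Fin k → F}
    (hx : ∀ p, τ (x p) = x p) : Mem M (jg τ W (gx τ κ ω x) : Module.End F VV) := by
  have hb : ∀ p, Mem M (x p • jg τ W (gb τ κ ω p) : Module.End F VV) := by
    intro p
    simp only [gb]
    split_ifs with h
    · rw [jg_single]
      convert hM.mem_rt (hts p.1 p.1) (k := x p * κ) (by rw [map_mul, hx, hκ, mul_neg]) using 1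
      refine LinearMap.ext fun T => ?_; simp [smul_smul]
    · rw [jg_sub, jg_single, jg_single]
      convert hM.mem_sg (hts p.1 p.1) (e := (x p * offc ω p) • W p.2)
        (by rw [hd_smul_left, hts, mul_zero]) (c := 0) (by simp [hd_smul_left, hd_smul_right, hts]) using 1
      refine LinearMap.ext fun T => ?_
      simp [sg_apply, ct_smul, inj_smul_left, smul_smul, hx]
      module
  rw [jg_gx]
  have key : ∀ s : Finset (Fin k × Fin k), Mem M (∑ p ∈ s, x p • jg τ W (gb τ κ ω p) : Module.End F VV) := by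
    intro s
    induction s using Finset.induction with
    | empty => rw [Finset.sum_empty]; exact Mem.zero
    | @insert a s ha ih =>
      rw [Finset.sum_insert ha]
      refine (hb a).add ih ?_
      rw [smul_mul_assoc, Finset.mul_sum, Finset.sum_eq_zero, smul_zero]
      intro b _
      rw [mul_smul_comm, jg_mul hts, smul_zero]
  exact key _

end UExt

theorem totalDegree_det_le {σ κ : Type} [Fintype κ] [DecidableEq κ] (A : Matrix κ κ (MvPolynomial σ F)) (d : κ → ℕ)
    (h : ∀ i j, (A i j).totalDegree ≤ d i) : A.det.totalDegree ≤ ∑ i, d i := by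
  rw [Matrix.det_apply']
  refine (MvPolynomial.totalDegree_finset_sum _ _).trans (Finset.sup_le fun p _ => ?_)
  refine (MvPolynomial.totalDegree_mul _ _).trans ?_
  rw [show (((Equiv.Perm.sign p : ℤ)) : MvPolynomial σ F) = MvPolynomial.C ((Equiv.Perm.sign p : ℤ) : F) from
    (map_intCast (MvPolynomial.C : F →+* MvPolynomial σ F) _).symm, MvPolynomial.totalDegree_C, zero_add]
  refine (MvPolynomial.totalDegree_finset_prod _ _).trans ?_
  calc ∑ i, (A (p i) i).totalDegree ≤ ∑ i, d (p i) := Finset.sum_le_sum fun i _ => h (p i) i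
    _ = ∑ i, d i := Equiv.sum_comp p d

/-- A linear form in the variables. -/
noncomputable def linPoly {σ : Type} [Fintype σ] (a : σ → F) : MvPolynomial σ F :=
  ∑ p, MvPolynomial.C (a p) * MvPolynomial.X p

theorem eval_linPoly {σ : Type} [Fintype σ] (a x : σ → F) : MvPolynomial.eval x (linPoly a) = ∑ p, a p * x p := by
  simp [linPoly]

theorem totalDegree_linPoly {σ : Type} [Fintype σ] (a : σ → F) : (linPoly a).totalDegree ≤ 1 := by
  refine (MvPolynomial.totalDegree_finset_sum _ _).trans (Finset.sup_le fun p _ => ?_)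
  refine (MvPolynomial.totalDegree_mul _ _).trans ?_
  simp [MvPolynomial.totalDegree_X]

end CfsgLib.TensorMax.Unitary
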