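import Cfsg.Agent.Lib.TensorMax.Unitary.Basic

/-!
An image of a singular line orthogonal to a singular line gives a radical element; so does an element stabilising
a singular line non-trivially.
-/

set_option autoImplicit false

namespace CfsgLib.TensorMax.Unitary

open scoped Matrix
open CfsgLib.FieldMax (Mem map_unit_inj inv_apply_apply apply_inv_apply)

variable {F : Type*} [Field F] {α β : Type} [Fintype α] [Fintype β]

local notation "VV" => Matrix α β F

variable {τ : F ≃+* F}

theorem ct_mulL (A : Matrix α α F) (w : β → F) (T : VV) : ct τ w (mulL A T) = A *ᵥ ct τ w T := by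
  show (A * T) *ᵥ _ = A *ᵥ (T *ᵥ _)
  rw [Matrix.mulVec_mulVec]

/-- Rows killed by the orthogonal space of a vector are multiples of it. -/
theorem eq_inj_of_ct (hτ : Conj τ) {w w' : β → F} (hw : hd τ w w = 0) (hww' : hd τ w w' = 1) {R : VV}
    (h : ∀ d, hd τ d w = 0 → ct τ d R = 0) : R = inj w (ct τ w' R) := by
  funext i
  refine hτ.eq_of_forall fun y => ?_
  have hw'w : hd τ w' w = 1 := by rw [← hτ.hd_conj, hww', map_one]
  have h1 := congrFun (h (y - hd τ y w • w') (by rw [hd_sub_left, hd_smul_left, hw'w, mul_one, sub_self])) i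
  simp only [ct_apply, hd_sub_right, hd_smul_right, hτ.hd_conj, Pi.zero_apply, sub_eq_zero] at h1
  rw [h1, show (inj w (ct τ w' R) : VV) i = ct τ w' R i • w from rfl, hd_smul_left, ct_apply, mul_comm]

theorem pow_char_one_add [Fintype F] {R : Type*} [Ring R] [Algebra F R] (p : ℕ) [CharP F p] {N : R} (h : N * N = 0) :
    (1 + N) ^ p = 1 := by
  have key : ∀ k : ℕ, (1 + N) ^ k = 1 + (k : R) * N := by
    intro k
    induction k with
    | zero => simp
    | succ k ih =>
      rw [pow_succ, ih, mul_add, mul_one, add_mul, one_mul, mul_assoc, h, mul_zero, add_zero, Nat.cast_succ,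
        add_mul, one_mul, add_assoc]
  rw [key, ← map_natCast (algebraMap F R), CharP.cast_eq_zero, map_zero, zero_mul, add_zero]

theorem det_one_add [Fintype F] {κ : Type} [Fintype κ] [DecidableEq κ] {N : Matrix κ κ F} (h : N * N = 0) :
    (1 + N).det = 1 := by
  obtain ⟨p, hp⟩ := CharP.exists F
  haveI : Fact p.Prime := ⟨CharP.char_is_prime F p⟩
  haveI : ExpChar F p := ExpChar.prime Fact.out
  refine frobenius_inj F p ?_
  simp only [frobenius_def]
  rw [← Matrix.det_pow, pow_char_one_add (F := F) p h, Matrix.det_one, one_pow]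

namespace UExt

variable [Fintype F] [DecidableEq α] [DecidableEq β] {M : Subgroup (Module.End F (Matrix α β F))ˣ} (hM : UExt τ M)

include hM

/-- An element fixing the orthogonal space of a singular line pointwise is in the root group. -/
theorem scalar_of_fix_perp {y : (Module.End F VV)ˣ} (hy : y ∈ M) {w w' : β → F} (hw0 : w ≠ 0) (hw : hd τ w w = 0)
    (hww' : hd τ w w' = 1) (hfix : ∀ d u, hd τ d w = 0 → (y : Module.End F VV) (inj d u) = inj d u) :
    NonRootU τ M ∨ (IsScal (ct τ w' ∘ₗ ((y : Module.End F VV) - 1) ∘ₗ inj w') ∧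
      ∀ u, (y : Module.End F VV) (inj w' u) = inj w' u + inj w (ct τ w' (((y : Module.End F VV) - 1) (inj w' u)))) := by
  have hw'w : hd τ w' w = 1 := by rw [← hM.conj.hd_conj, hww', map_one]
  have hR : ∀ u, ((y : Module.End F VV) - 1) (inj w' u) =
      inj w (ct τ w' (((y : Module.End F VV) - 1) (inj w' u))) := by
    refine fun u => eq_inj_of_ct hM.conj hw hww' fun d hdw => ?_
    rw [LinearMap.sub_apply, map_sub, sub_eq_zero, Module.End.one_apply]
    refine hM.conj.eq_of_forall fun a => ?_
    rw [← th_inj_right hM.conj, ← th_inj_right hM.conj]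
    conv_lhs => rw [← hfix d a hdw, hM.iso y hy]
  refine or_iff_not_imp_left.2 fun hN => ⟨?_, fun u => by rw [← hR]; simp⟩
  by_contra hE
  refine hN ⟨w, _, hw0, hw, ⟨y, hy, LinearMap.ext fun T => ?_⟩, hE⟩
  simp only [LinearMap.add_apply, Module.End.one_apply, LinearMap.comp_apply]
  rw [← hR, LinearMap.sub_apply, Module.End.one_apply]
  have h0 : (y : Module.End F VV) (T - inj w' (ct τ w T)) = T - inj w' (ct τ w T) := by
    rw [eq_sum_rows (T - inj w' (ct τ w T)), map_sum]
    refine Finset.sum_congr rfl fun i _ => hfix _ _ ?_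
    rw [show (T - inj w' (ct τ w T) : VV) i = T i - ct τ w T i • w' from rfl, hd_sub_left, hd_smul_left, hw'w,
      mul_one, ct_apply, sub_self]
  rw [map_sub, sub_eq_iff_eq_add] at h0
  rw [h0]; abel

/-- An image of a singular line orthogonal to a singular line, not a singular line itself. -/
theorem nonRoot_of_perp {g : (Module.End F VV)ˣ} (hg : g ∈ M) {v : β → F} (hv : hd τ v v = 0) {w : β → F}
    (hw0 : w ≠ 0) (hw : hd τ w w = 0) (hnl : NL τ (g : Module.End F VV) v)
    (hperp : ∀ a, ct τ w ((g : Module.End F VV) (inj v a)) = 0) : NonRootU τ M := by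
  by_contra hN
  have hτ := hM.conj
  have h4 := hM.four_le
  have hα : 0 < Fintype.card α := by have := hM.two_le; omega
  obtain ⟨i₀⟩ : Nonempty α := Fintype.card_pos_iff.1 hα
  obtain ⟨κ, hκ0, hκ⟩ := hτ.exists_skew
  obtain ⟨w', hw', hww'⟩ := hτ.exists_partner hw0 hw
  have hw'w : hd τ w' w = 1 := by rw [← hτ.hd_conj, hww', map_one]
  set gi := ((g⁻¹ : (Module.End F VV)ˣ) : Module.End F VV) with hgi
  set C : Module.End F VV := (g : Module.End F VV) * (inj v ∘ₗ (κ • ct τ v)) * gi with hC
  have hCm : Mem M C := (hM.mem_rt hv hκ).conj hg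
  have hCv : ∀ T, C T = (g : Module.End F VV) (inj v (κ • ct τ v (gi T))) := fun T => rfl
  have hC2 : C * C = 0 := LinearMap.ext fun T => by
    rw [Module.End.mul_apply, hCv, hCv, hgi, inv_apply_apply, ct_inj, hv, zero_smul, smul_zero, map_zero, map_zero]
    rfl
  have hCw : ∀ T, ct τ w (C T) = 0 := fun T => by rw [hCv, hperp]
  have hCA : ∀ u, C (inj w u) = 0 := fun u => by
    rw [hCv, show ct τ v (gi (inj w u)) = 0 from hτ.eq_zero_of_forall fun a => ?_, smul_zero, map_zero, map_zero]
    rw [← th_inj_right hτ, ← hM.adj' hg, th_inj_left hτ, hperp, hd_zero_right]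
  obtain ⟨x, hx, ex⟩ := hCm
  -- the action on the quotient is scalar
  have hfix : ∀ u, (x : Module.End F VV) (inj w u) = inj w u := fun u => by simp [ex, hCA]
  have hS0 := (hM.scalar_of_fix hx hw0 hw hfix).resolve_left hN
  have hS : ∀ d' : β → F, hd τ d' d' = 0 → hd τ d' w = 0 → ∀ d, hd τ d w = 0 → IsScal (ct τ d' ∘ₗ C ∘ₗ inj d) := by
    intro d' hd1 hd2 d hdw
    refine hτ.induction_perp h4 hw0 hw (P := fun d => IsScal (ct τ d' ∘ₗ C ∘ₗ inj d)) (fun a b ha hb => ?_)
      (fun c a ha => ?_) (fun a ha1 ha2 => ?_) hdw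
    · convert ha.add hb using 1
      refine LinearMap.ext fun u => ?_; simp [inj_add_left]
    · convert ha.smul c using 1
      refine LinearMap.ext fun u => ?_; simp [inj_smul_left]
    · convert (hS0 a d' ha1 ha2 hd1 hd2).add (show IsScal ((-hd τ a d') • (LinearMap.id : (α → F) →ₗ[F] (α → F))) from
        ⟨-hd τ a d', fun u => by simp⟩) using 1
      refine LinearMap.ext fun u => ?_; simp [ex, ct_inj]
  have key : ∀ z : β → F, hd τ z z = 0 → hd τ z w = 0 → hd τ z w' = 0 →
      IsScal (ct τ w' ∘ₗ C ∘ₗ inj z + ct τ z ∘ₗ C ∘ₗ inj w') := by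
    intro z hz hzw hzw'
    let lam : (β → F) →ₗ[F] F :=
      { toFun := fun d => ct τ z (C (inj (d - hd τ d w • w') (Pi.single i₀ 1))) i₀
        map_add' := fun a b => by
          have e : a + b - hd τ (a + b) w • w' = (a - hd τ a w • w') + (b - hd τ b w • w') := by
            rw [hd_add_left, add_smul]; abel
          rw [e, inj_add_left, map_add, map_add, Pi.add_apply]
        map_smul' := fun c a => by
          rw [hd_smul_left, mul_smul, ← smul_sub, inj_smul_left, map_smul, map_smul, Pi.smul_apply, RingHom.id_apply] }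
    obtain ⟨e, he⟩ : ∃ e, ∀ d, hd τ d e = lam d := by
      refine ⟨fun j => τ (lam (Pi.single j 1)), fun d => ?_⟩
      conv_rhs => rw [pi_eq_sum_univ' d, map_sum]
      simp only [hd_apply, hτ.invol, map_smul, smul_eq_mul]
    have hlam : ∀ d u, hd τ d w = 0 → ct τ z (C (inj d u)) = hd τ d e • u := fun d u hdw => by
      obtain ⟨c, hc⟩ := hS z hz hzw d hdw
      have : hd τ d e = c := by
        rw [he]
        show ct τ z (C (inj (d - _ • w') _)) i₀ = c
        rw [hdw, zero_smul, sub_zero]
        simpa using congrFun (hc (Pi.single i₀ 1)) i₀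
      rw [this]; exact hc u
    have hew : hd τ e w = 0 := by
      refine hτ.hd_symm_zero ?_
      rw [he]
      show ct τ z (C (inj (w - hd τ w w • w') (Pi.single i₀ 1))) i₀ = 0
      rw [hw, zero_smul, sub_zero, hCA]; simp
    obtain ⟨c, hc⟩ := hτ.exists_trace (c := -hd τ e e) (by rw [map_neg, hτ.self_fixed])
    obtain ⟨ye, hye, eye⟩ := hM.mem_sg hw hew (c := c) (by rw [hc]; ring)
    obtain ⟨b, hb, eb⟩ := hM.mem_sg hw hzw (c := 0) (by simp [hz])
    set S : Module.End F VV := sg τ w z 0
    have hS2 : S * S = 0 := hM.sg_sq hw hz hzw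
    have hbi : ((b⁻¹ : (Module.End F VV)ˣ) : Module.End F VV) = 1 - S := by
      calc ((b⁻¹ : (Module.End F VV)ˣ) : Module.End F VV)
          = (1 - S) * (b : Module.End F VV) * ((b⁻¹ : (Module.End F VV)ˣ) : Module.End F VV) := by
            rw [eb, mul_add, mul_one, sub_mul, one_mul, hS2, sub_zero, sub_add_cancel, one_mul]
        _ = 1 - S := by rw [mul_assoc, Units.mul_inv, mul_one]
    have hSv : ∀ T, S T = inj w (-ct τ z T) + inj z (ct τ w T) := fun T => by simp [S, sg_apply]
    have hCS : ∀ T, ct τ w T = 0 → C (S T) = 0 := fun T hT => by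
      rw [hSv, hT, map_zero, add_zero, hCA]
    have hprod : (b : Module.End F VV) * C * ((b⁻¹ : (Module.End F VV)ˣ) : Module.End F VV) * -C = 0 := by
      refine LinearMap.ext fun T => ?_
      have hCC : C (C T) = 0 := LinearMap.congr_fun hC2 T
      simp [Module.End.mul_apply, hbi, hCC, hCS _ (hCw T)]
    have hneg : Mem M (-C) := Mem.neg ⟨x, hx, ex⟩ hC2
    obtain ⟨G, hG, eG⟩ := ((Mem.conj ⟨x, hx, ex⟩ hb : Mem M _).add hneg hprod)
    have hGv : ∀ T, (G : Module.End F VV) T = T + (S (C T) - C (S T) - S (C (S T))) := fun T => by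
      simp [eG, eb, hbi, Module.End.mul_apply]
      abel
    set Y := ye⁻¹ * G with hY
    have hYe : ∀ T, (ye : Module.End F VV) ((Y : Module.End F VV) T) = (G : Module.End F VV) T := fun T => by
      rw [hY, Units.val_mul, Module.End.mul_apply, apply_inv_apply]
    have hYfix : ∀ d u, hd τ d w = 0 → (Y : Module.End F VV) (inj d u) = inj d u := fun d u hdw => by
      refine map_unit_inj ye ?_
      rw [hYe, hGv, eye, LinearMap.add_apply, Module.End.one_apply]
      congr 1
      rw [hCS _ (by rw [ct_inj, hdw, zero_smul]), hSv (C _), hCw, hlam d u hdw, map_zero S, sg_apply, ct_inj, ct_inj, hdw]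
      simp
    obtain ⟨hEs, hYw'⟩ := (hM.scalar_of_fix_perp (mul_mem (inv_mem hye) hG) hw0 hw hww' hYfix).resolve_left hN
    obtain ⟨ε, hε⟩ := hEs
    refine ⟨hd τ z e - c + hd τ w' e - hd τ e w' - ε, fun u => ?_⟩
    have h1 := congrArg (ct τ w') (hYe (inj w' u))
    rw [hYw', hGv] at h1
    have hzw'' : hd τ w' z = 0 := hτ.hd_symm_zero hzw'
    have hew' : hd τ w e = 0 := hτ.hd_symm_zero hew
    have hzz := hlam z u hzw
    simp only [eye, LinearMap.add_apply, Module.End.one_apply, map_add, map_sub, map_neg, ct_inj, hSv, sg_apply, hCw, hww',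
      hw'w, hw, hzw', hzw'', one_smul, zero_smul, add_zero, neg_zero, map_zero, zero_add, sub_zero, hew', map_smul,
      hCA, hzz] at h1
    have h2 := hε u
    simp only [LinearMap.comp_apply] at h2
    rw [h2] at h1
    simp only [LinearMap.add_apply, LinearMap.comp_apply]
    linear_combination (norm := module) h1
  -- every contraction of an image is scalar
  have hphi : ∀ z : β → F, hd τ z z = 0 → hd τ z w = 0 → hd τ z w' = 0 → IsScal (ct τ w' ∘ₗ C ∘ₗ inj z) := by
    intro z hz hzw hzw'
    refine (IsScal.of_semilinear hτ (P := ct τ w' ∘ₗ C ∘ₗ inj z) (Q := ct τ z ∘ₗ C ∘ₗ inj w') fun l => ?_).1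
    convert key (l • z) (by rw [hd_smul_left, hd_smul_right, hz, mul_zero, mul_zero])
      (by rw [hd_smul_left, hzw, mul_zero]) (by rw [hd_smul_left, hzw', mul_zero]) using 1
    refine LinearMap.ext fun u => ?_
    simp [inj_smul_left, ct_smul]
  have hall : ∀ z : β → F, hd τ z z = 0 → hd τ z w = 0 → hd τ z w' = 0 → ∀ u, C (inj z u) = 0 := by
    intro z hz hzw hzw'
    have hsc : ∀ y, IsScal (ct τ y ∘ₗ C ∘ₗ inj z) := by
      intro y
      have h1 : IsScal (ct τ (y - hd τ y w • w') ∘ₗ C ∘ₗ inj z) := by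
        refine hτ.induction_perp h4 hw0 hw (P := fun d => IsScal (ct τ d ∘ₗ C ∘ₗ inj z)) (fun a b ha hb => ?_)
          (fun c a ha => ?_) (fun a ha1 ha2 => hS a ha1 ha2 z hzw)
          (by rw [hd_sub_left, hd_smul_left, hw'w, mul_one, sub_self])
        · convert ha.add hb using 1
          refine LinearMap.ext fun u => ?_; simp [ct_add]
        · convert ha.smul (τ c) using 1
          refine LinearMap.ext fun u => ?_; simp [ct_smul]
      convert h1.add ((hphi z hz hzw hzw').smul (τ (hd τ y w))) using 1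
      refine LinearMap.ext fun u => ?_
      simp only [LinearMap.add_apply, LinearMap.comp_apply, LinearMap.smul_apply, ← ct_smul, ← ct_add, sub_add_cancel]
    set r := (C (inj z (Pi.single i₀ 1)) : VV) i₀
    have hr : ∀ u, C (inj z u) = inj r u := fun u => by
      funext i
      refine hτ.eq_of_forall fun y => ?_
      obtain ⟨c, hc⟩ := hsc y
      have e1 : hd τ r y = c := by simpa [ct_apply] using congrFun (hc (Pi.single i₀ 1)) i₀
      rw [show (inj r u : VV) i = u i • r from rfl, hd_smul_left, e1, mul_comm]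
      exact congrFun (hc u) i
    intro u
    by_contra hne
    have hr0 : r ≠ 0 := fun e => hne (by rw [hr, e, inj_zero_left])
    have hle : line (α := α) r ≤ (line (α := α) v).map (g : Module.End F VV) := by
      rintro _ ⟨a, rfl⟩
      rw [← hr, hCv]
      exact Submodule.mem_map_of_mem (inj_mem_line _ _)
    have hv00 : v ≠ 0 := fun e => hne (by rw [hCv, e, inj_zero_left, map_zero])
    refine hnl r ?_ (Submodule.eq_of_le_of_finrank_eq hle (by
      rw [finrank_line hr0, finrank_map_line g hv00])).symm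
    · have h1 : th τ (inj r (Pi.single i₀ 1)) (inj r (Pi.single i₀ 1) : VV) = 0 := by
        rw [← hr, hCv, hM.iso g hg, th_inj_left hτ, ct_inj, hv, zero_smul, hd_zero_right]
      rw [th_inj_left hτ, ct_inj, hd_smul_right, hd_single_right, Pi.single_eq_same, map_one, one_mul, mul_one,
        hτ.self_fixed] at h1
      exact h1
  -- so the image would be the line
  have hperp' : ∀ d, hd τ d w = 0 → ∀ u, C (inj d u) = 0 := by
    intro d hdw u
    have h2 := hτ.induction_pair h4 hw hw' hww' (P := fun d => ∀ u, C (inj d u) = 0)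
      (fun a b ha hb u => by rw [inj_add_left, map_add, ha, hb, add_zero])
      (fun c a ha u => by rw [inj_smul_left, map_smul, ha, smul_zero]) hall
      (v := d - hd τ d w' • w) (by rw [hd_sub_left, hd_smul_left, hw, hdw, mul_zero, sub_zero])
      (by rw [hd_sub_left, hd_smul_left, hww', mul_one, sub_self]) u
    rw [← sub_add_cancel d (hd τ d w' • w), inj_add_left, map_add, h2, inj_smul_left, map_smul, hCA, smul_zero, add_zero]
  refine hnl w hw (Submodule.eq_of_le_of_finrank_eq ?_ ?_)
  · rintro _ ⟨_, ⟨a, rfl⟩, rfl⟩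
    have hv0 : ∀ d, hd τ d w = 0 → ct τ d ((g : Module.End F VV) (inj v a)) = 0 := fun d hdw => by
      refine hτ.eq_zero_of_forall fun u => ?_
      have h1 := hperp' d hdw u
      rw [hCv, ← map_zero (g : Module.End F VV)] at h1
      rcases eq_or_ne v 0 with rfl | hv0
      · rw [inj_zero_left, map_zero, map_zero, hd_zero_left]
      · have h2 := inj_injective hv0 ((map_unit_inj g h1).trans (map_zero _).symm)
        rw [smul_eq_zero] at h2
        rw [← th_inj_right hτ, hM.adj hg, th_inj_left hτ, h2.resolve_left hκ0, hd_zero_right]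
    rw [eq_inj_of_ct hτ hw hww' hv0]
    exact inj_mem_line _ _
  · rw [finrank_line hw0, finrank_map_line g]
    rintro rfl
    refine hnl 0 (hd_zero_left _) ?_
    have : line (α := α) (0 : β → F) = (⊥ : Submodule F VV) := by
      rw [eq_bot_iff]; rintro _ ⟨a, rfl⟩; simp [inj_zero_left]
    rw [this, Submodule.map_bot]

/-- An element stabilising a singular line non-trivially. -/
theorem nonRoot_of_stab {C : Module.End F VV} {x : (Module.End F VV)ˣ} (hx : x ∈ M) (ex : (x : Module.End F VV) = 1 + C)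
    (hC2 : C * C = 0) (hrank : Module.finrank F (LinearMap.range C) ≤ Fintype.card α) {w : β → F} (hw0 : w ≠ 0)
    (hw : hd τ w w = 0) (hCw : ∀ u, C (inj w u) ∈ line (α := α) w) {u₀ : α → F} (hu₀ : C (inj w u₀) ≠ 0) :
    NonRootU τ M := by
  by_contra hN
  have hτ := hM.conj
  have h4 := hM.four_le
  obtain ⟨w', hw', hww'⟩ := hτ.exists_partner hw0 hw
  have hw'w : hd τ w' w = 1 := by rw [← hτ.hd_conj, hww', map_one]
  choose Γ hΓ using hCw
  let Γl : (α → F) →ₗ[F] (α → F) :=
    { toFun := Γ
      map_add' := fun u v => inj_injective hw0 (by rw [map_add (inj w), hΓ, hΓ, hΓ, map_add (inj w), map_add C])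
      map_smul' := fun c u => inj_injective hw0 (by
        rw [RingHom.id_apply, map_smul (inj w), hΓ, hΓ, map_smul (inj w), map_smul C]) }
  have hΓΓ : ∀ u, Γ (Γ u) = 0 := fun u => inj_injective hw0 (by
    rw [hΓ, map_zero, hΓ, ← Module.End.mul_apply, hC2]; rfl)
  set N : Matrix α α F := LinearMap.toMatrix' Γl with hNd
  have hNv : ∀ u, N *ᵥ u = Γ u := fun u => LinearMap.toMatrix'_mulVec Γl u
  have hN2 : N * N = 0 := Matrix.ext_of_mulVec_single fun i => by
    rw [← Matrix.mulVec_mulVec, hNv, hNv, hΓΓ, Matrix.zero_mulVec]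
  have hxw : ∀ u, (x : Module.End F VV) (inj w u) = inj w (u + Γ u) := fun u => by
    simp [ex, hΓ]
  -- the action on the line is an isometry
  have hsurj : ∀ b, ∃ a, a + Γ a = b := fun b => ⟨b - Γ b, by
    have e : Γ (b - Γ b) = Γ b := by
      show Γl (b - Γ b) = Γl b
      rw [map_sub, show Γl (Γ b) = 0 from hΓΓ b, sub_zero]
    rw [e, sub_add_cancel]⟩
  obtain ⟨κ, hκ0, hκ⟩ := hτ.exists_skew
  set xi := ((x⁻¹ : (Module.End F VV)ˣ) : Module.End F VV) with hxi
  have hkey : ∀ T a, hd τ (ct τ w (xi T)) a = hd τ (ct τ w T) (a + Γ a) := fun T a => by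
    rw [← th_inj_right hτ, ← th_inj_right hτ, ← hxw, hxi]
    exact (hM.adj' hx _ _).symm
  obtain ⟨ε, hε⟩ : ∃ ε : F, ∀ u, κ • (ct τ w (xi (inj w' u)) + Γ (ct τ w (xi (inj w' u)))) = ε • u := by
    obtain ⟨y, hy, ey⟩ := (hM.mem_rt hw hκ).conj hx
    have hyv : ∀ T, ((y : Module.End F VV) - 1) T = inj w (κ • (ct τ w (xi T) + Γ (ct τ w (xi T)))) := fun T => by
      rw [ey, add_sub_cancel_left]
      show (x : Module.End F VV) (inj w (κ • ct τ w (xi T))) = _
      rw [map_smul (inj w), map_smul, hxw, ← map_smul (inj w)]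
    obtain ⟨⟨ε, hε⟩, -⟩ := (hM.scalar_of_fix_perp hy hw0 hw hww' fun d u hdw => by
      have h0 : ct τ w (xi (inj d u)) = 0 := hτ.eq_zero_of_forall fun a => by
        rw [hkey, ct_inj, hdw, zero_smul, hd_zero_left]
      have h00 : Γ (0 : α → F) = 0 := map_zero Γl
      have h1 := hyv (inj d u)
      rw [h0, h00, add_zero, smul_zero, map_zero, LinearMap.sub_apply, Module.End.one_apply, sub_eq_zero] at h1
      exact h1).resolve_left hN
    refine ⟨ε, fun u => ?_⟩
    have h2 := hε u
    simp only [LinearMap.comp_apply, hyv, ct_inj, hww', one_smul] at h2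
    exact h2
  let Sl : (α → F) →ₗ[F] (α → F) := ct τ w ∘ₗ xi ∘ₗ inj w'
  have hSkey : ∀ u a, hd τ (Sl u) a = hd τ u (a + Γ a) := fun u a => by
    show hd τ (ct τ w (xi (inj w' u))) a = _
    rw [hkey, ct_inj, hw'w, one_smul]
  have hSsurj : Function.Surjective Sl := LinearMap.injective_iff_surjective.1 ((injective_iff_map_eq_zero Sl).2 fun u hu => by
    refine hτ.eq_zero_of_forall fun b => ?_
    obtain ⟨a, rfl⟩ := hsurj b
    rw [← hSkey, hu, hd_zero_left])
  have hsim : ∀ s a, κ * hd τ (s + Γ s) (a + Γ a) = ε * hd τ s a := fun s a => by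
    obtain ⟨u, rfl⟩ := hSsurj s
    rw [← hd_smul_left, show κ • (Sl u + Γ (Sl u)) = ε • u from hε u, hd_smul_left, hSkey]
  obtain ⟨hu0', hΓu⟩ : u₀ ≠ 0 ∧ Γ u₀ ≠ 0 :=
    ⟨fun e => hu₀ (by rw [e, map_zero, map_zero]), fun e => hu₀ (by rw [← hΓ, e, map_zero])⟩
  have hεκ : ε = κ := by
    by_contra hne
    refine hΓu (hτ.eq_zero_of_forall fun v => ?_)
    have h1 : ∀ b, κ * hd τ (Γ u₀) (Γ b) = (ε - κ) * hd τ (Γ u₀) b := fun b => by
      have := hsim (Γ u₀) b
      rw [hΓΓ, add_zero, hd_add_right] at this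
      linear_combination this
    have h2 := h1 (Γ v)
    rw [hΓΓ, hd_zero_right, mul_zero, zero_eq_mul] at h2
    have h3 := h2.resolve_left (sub_ne_zero.2 hne)
    have h4' := h1 v
    rw [h3, mul_zero, zero_eq_mul] at h4'
    exact h4'.resolve_left (sub_ne_zero.2 hne)
  have hiso : ∀ s a, hd τ (s + Γ s) (a + Γ a) = hd τ s a := fun s a =>
    mul_left_cancel₀ hκ0 (by rw [hsim, hεκ])
  obtain ⟨am, ham, eam⟩ := hM.left (1 - N) (fun u v => by
    have h1 := hiso (u - Γ u) (v - Γ v)
    have e : ∀ u, u - Γ u + Γ (u - Γ u) = u := fun u => by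
      have e' : Γ (u - Γ u) = Γ u := by
        show Γl (u - Γ u) = Γl u
        rw [map_sub, show Γl (Γ u) = 0 from hΓΓ u, sub_zero]
      rw [e', sub_add_cancel]
    rw [e, e] at h1
    simp only [Matrix.sub_mulVec, Matrix.one_mulVec, hNv]
    exact h1.symm) (by rw [sub_eq_add_neg]; exact det_one_add (by rw [neg_mul_neg, hN2]))
  have hinjA : ∀ v u, (am : Module.End F VV) (inj v u) = inj v (u - Γ u) := fun v u => by
    rw [eam, mulL_apply, inj_apply, Matrix.mul_vecMulVec, Matrix.sub_mulVec, Matrix.one_mulVec, hNv, inj_apply]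
  have hfix : ∀ u, ((am * x : (Module.End F VV)ˣ) : Module.End F VV) (inj w u) = inj w u := fun u => by
    rw [Units.val_mul, Module.End.mul_apply, hxw, hinjA]
    congr 1
    show u + Γl u - Γl (u + Γl u) = u
    rw [map_add, show Γl (Γl u) = 0 from hΓΓ u, add_zero, add_sub_cancel_right]
  have hS0 := (hM.scalar_of_fix (mul_mem ham hx) hw0 hw hfix).resolve_left hN
  have hctw : ∀ T, ct τ w ((x : Module.End F VV) T) = ct τ w T + Γ (ct τ w T) := fun T => by
    refine hτ.eq_of_forall fun b => ?_
    obtain ⟨a, rfl⟩ := hsurj b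
    rw [hiso, ← th_inj_right hτ, ← th_inj_right hτ, ← hxw, hM.iso x hx]
  -- too many independent vectors in the image
  let f : (β → F) →ₗ[F] LinearMap.range C :=
    { toFun := fun v => ⟨C (inj v u₀), LinearMap.mem_range_self C _⟩
      map_add' := fun v v' => Subtype.ext (by
        show C _ = C _ + C _
        rw [inj_add_left, map_add])
      map_smul' := fun c v => Subtype.ext (by
        show C _ = c • C _
        rw [inj_smul_left, map_smul]) }
  have hf : Function.Injective f := (injective_iff_map_eq_zero f).2 fun v hv => by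
    have hv : C (inj v u₀) = 0 := congrArg Subtype.val hv
    have hxv : (x : Module.End F VV) (inj v u₀) = inj v u₀ := by simp [ex, hv]
    have hvw : hd τ v w = 0 := by
      have h1 := hctw (inj v u₀)
      rw [hxv, ct_inj, left_eq_add, show Γ (hd τ v w • u₀) = hd τ v w • Γ u₀ from map_smul Γl _ _, smul_eq_zero] at h1
      exact h1.resolve_right hΓu
    have hsc : ∀ d', hd τ d' d' = 0 → hd τ d' w = 0 → hd τ v d' = 0 := by
      intro d' hd1 hd2
      obtain ⟨c, hc⟩ : IsScal (ct τ d' ∘ₗ ((am * x : (Module.End F VV)ˣ) : Module.End F VV) ∘ₗ inj v) := by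
        refine hτ.induction_perp h4 hw0 hw (P := fun d => IsScal (ct τ d' ∘ₗ ((am * x : (Module.End F VV)ˣ) : Module.End F VV) ∘ₗ inj d))
          (fun a b ha hb => ?_) (fun c a ha => ?_) (fun a ha1 ha2 => hS0 a d' ha1 ha2 hd1 hd2) hvw
        · convert ha.add hb using 1
          refine LinearMap.ext fun u => ?_; simp [inj_add_left]
        · convert ha.smul c using 1
          refine LinearMap.ext fun u => ?_; simp [inj_smul_left]
      have h1 := hc u₀
      rw [LinearMap.comp_apply, LinearMap.comp_apply, Units.val_mul, Module.End.mul_apply, hxv, hinjA, ct_inj] at h1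
      by_contra hne
      have h2 : Γ u₀ = (1 - c / hd τ v d') • u₀ := by
        rw [sub_smul, one_smul, div_eq_inv_mul, mul_smul, ← h1, inv_smul_smul₀ hne, sub_sub_cancel]
      have h3 : Γ (Γ u₀) = (1 - c / hd τ v d') • Γ u₀ := by
        conv_lhs => rw [h2]
        exact map_smul Γl _ _
      rw [hΓΓ, eq_comm, smul_eq_zero] at h3
      exact hΓu (by rw [h2, h3.resolve_right hΓu, zero_smul])
    have hperp : ∀ d, hd τ d w = 0 → hd τ v d = 0 := fun d hdw =>
      hτ.induction_perp h4 hw0 hw (P := fun d => hd τ v d = 0)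
        (fun a b ha hb => by rw [hd_add_right, ha, hb, add_zero]) (fun c a ha => by rw [hd_smul_right, ha, mul_zero])
        hsc hdw
    have hvv : v = hd τ v w' • w := hτ.eq_of_forall fun y => by
      have h1 := hperp (y - hd τ y w • w') (by rw [hd_sub_left, hd_smul_left, hw'w, mul_one, sub_self])
      rw [hd_sub_right, hd_smul_right, hτ.hd_conj, sub_eq_zero] at h1
      rw [hd_smul_left, h1, mul_comm]
    rw [hvv, inj_smul_left, map_smul, smul_eq_zero] at hv
    rw [hvv, hv.resolve_right hu₀, zero_smul]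
  have := LinearMap.finrank_le_finrank_of_injective hf
  rw [Module.finrank_fintype_fun_eq_card] at this
  have := hM.lt
  omega

end UExt

end CfsgLib.TensorMax.Unitary
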