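import Cfsg.Agent.Lib.TensorMax.Unitary.Family
import Cfsg.Agent.Lib.TensorMax.Unitary.Perp

/-!
The family of the first factor attached to a totally isotropic family, and rows of tensors.
-/

set_option autoImplicit false

namespace CfsgLib.TensorMax.Unitary

open scoped Matrix
open CfsgLib.FieldMax (Mem map_unit_inj inv_apply_apply apply_inv_apply)

variable {F : Type*} [Field F] {α β : Type} [Fintype α] [Fintype β] {k : ℕ}

local notation "VV" => Matrix α β F

/-- The row of a tensor along a vector of the first factor. -/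
def row (τ : F ≃+* F) (e : α → F) (T : Matrix α β F) : β → F := (⇑τ ∘ e) ᵥ* T

/-- The matrix of a coefficient matrix on a family of vectors of the first factor. -/
def eg (τ : F ≃+* F) (e : Fin k → α → F) (G : Matrix (Fin k) (Fin k) F) : Matrix α α F :=
  ∑ i, ∑ j, G i j • Matrix.vecMulVec (e i) (⇑τ ∘ e j)

variable {τ : F ≃+* F}

theorem hd_row (e : α → F) (T : VV) (v : β → F) : hd τ (row τ e T) v = hd τ (ct τ v T) e := by
  show ((⇑τ ∘ e) ᵥ* T) ⬝ᵥ (⇑τ ∘ v) = (T *ᵥ (⇑τ ∘ v)) ⬝ᵥ (⇑τ ∘ e)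
  rw [← Matrix.dotProduct_mulVec, dotProduct_comm]

theorem eg_mulVec (e : Fin k → α → F) (G : Matrix (Fin k) (Fin k) F) (u : α → F) :
    eg τ e G *ᵥ u = ∑ i, (∑ j, G i j * hd τ u (e j)) • e i := by
  simp only [eg, Matrix.sum_mulVec, Matrix.smul_mulVec, Matrix.vecMulVec_mulVec, op_smul_eq_smul, smul_smul,
    Finset.sum_smul]
  exact Finset.sum_congr rfl fun i _ => Finset.sum_congr rfl fun j _ => by rw [dotProduct_comm (⇑τ ∘ e j) u]; rfl

theorem eg_smul_single [DecidableEq α] (e : Fin k → α → F) (G : Matrix (Fin k) (Fin k) F) (c : F) :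
    eg τ e (c • G) = c • eg τ e G := by
  simp [eg, Finset.smul_sum, smul_smul]

theorem eg_add (e : Fin k → α → F) (G G' : Matrix (Fin k) (Fin k) F) : eg τ e (G + G') = eg τ e G + eg τ e G' := by
  simp [eg, add_smul, Finset.sum_add_distrib]

theorem eg_zero (e : Fin k → α → F) : eg τ e (0 : Matrix (Fin k) (Fin k) F) = 0 := by simp [eg]

theorem eg_gx [DecidableEq α] (e : Fin k → α → F) (κ ω : F) (x : Fin k × Fin k → F) :
    eg τ e (gx τ κ ω x) = ∑ p, x p • eg τ e (gb τ κ ω p) := by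
  rw [gx]
  induction (Finset.univ : Finset (Fin k × Fin k)) using Finset.induction with
  | empty => simp [eg_zero]
  | @insert a s ha ih => rw [Finset.sum_insert ha, Finset.sum_insert ha, eg_add, eg_smul_single, ih]

theorem hd_eg {e : Fin k → α → F} (hτ : Conj τ) {G : Matrix (Fin k) (Fin k) F} (hG : ∀ i j, τ (G i j) = -G j i)
    (u v : α → F) : hd τ (eg τ e G *ᵥ u) v = -hd τ u (eg τ e G *ᵥ v) := by
  rw [eg_mulVec, eg_mulVec, hd_sum_left, ← hτ.hd_conj (∑ i, (∑ j, G i j * hd τ v (e j)) • e i) u, hd_sum_left, map_sum,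
    ← Finset.sum_neg_distrib]
  simp only [hd_smul_left, Finset.sum_mul, map_mul, map_sum, hτ.hd_conj, hG, ← Finset.sum_neg_distrib]
  rw [Finset.sum_comm]
  exact Finset.sum_congr rfl fun i _ => Finset.sum_congr rfl fun j _ => by ring

theorem eg_mul {e : Fin k → α → F} (hts : ∀ i j, hd τ (e i) (e j) = 0) (G G' : Matrix (Fin k) (Fin k) F) :
    eg τ e G * eg τ e G' = 0 := by
  classical
  refine Matrix.ext_of_mulVec_single fun a => ?_
  rw [← Matrix.mulVec_mulVec, eg_mulVec, Matrix.zero_mulVec]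
  refine Finset.sum_eq_zero fun i _ => ?_
  rw [Finset.sum_eq_zero, zero_smul]
  intro j _
  rw [eg_mulVec, hd_sum_left, Finset.sum_eq_zero, mul_zero]
  intro l _
  rw [hd_smul_left, hts, mul_zero]

namespace UExt

variable [Fintype F] [DecidableEq α] [DecidableEq β] {M : Subgroup (Module.End F (Matrix α β F))ˣ} (hM : UExt τ M)

include hM

theorem mem_eg {e : Fin k → α → F} (hts : ∀ i j, hd τ (e i) (e j) = 0) {G : Matrix (Fin k) (Fin k) F}
    (hG : ∀ i j, τ (G i j) = -G j i) : Mem M (mulL (eg τ e G) : Module.End F VV) := by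
  have h2 := eg_mul hts G G
  obtain ⟨u, hu, eu⟩ := hM.left (1 + eg τ e G) (fun u v => by
    have h3 : hd τ (eg τ e G *ᵥ u) (eg τ e G *ᵥ v) = 0 := by
      rw [hd_eg hM.conj hG, Matrix.mulVec_mulVec, h2, Matrix.zero_mulVec, hd_zero_right, neg_zero]
    simp only [Matrix.add_mulVec, Matrix.one_mulVec, hd_add_left, hd_add_right, h3, hd_eg hM.conj hG u v]
    ring) (det_one_add h2)
  refine ⟨u, hu, LinearMap.ext fun T => ?_⟩
  rw [eu]
  simp [mulL_apply, Matrix.add_mul]

end UExt

end CfsgLib.TensorMax.Unitary
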