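import Cfsg.Agent.Lib.TensorMax.Unitary.Lines
import Cfsg.Agent.Lib.TensorMax.Unitary.Left

/-!
Auxiliary facts for a four-dimensional first factor, and the case of odd characteristic.
-/

set_option autoImplicit false

namespace CfsgLib.TensorMax.Unitary

open scoped Matrix
open CfsgLib.FieldMax (Mem map_unit_inj inv_apply_apply apply_inv_apply)

variable {F : Type*} [Field F] [Fintype F] {α β : Type} [Fintype α] [Fintype β]

local notation "VV" => Matrix α β F

variable {τ : F ≃+* F}

omit [Fintype F] in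
theorem Conj.finrank_perp {κ : Type} [Fintype κ] (hτ : Conj τ) {k : ℕ} {v : Fin k → κ → F}
    (hv : LinearIndependent F v) : Module.finrank F (perp τ v) + k = Fintype.card κ := by
  classical
  have hli : LinearIndependent F (fun i => ⇑τ ∘ v i) := by
    refine Fintype.linearIndependent_iff.2 fun c hc i => ?_
    have h1 : ∑ i, τ (c i) • v i = 0 := funext fun j => by
      have h2 := congrArg τ (congrFun hc j)
      simpa [map_sum, hτ.invol, Finset.sum_apply] using h2
    exact τ.injective ((Fintype.linearIndependent_iff.1 hv _ h1 i).trans (map_zero τ).symm)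
  have h : (Matrix.of fun i => ⇑τ ∘ v i).rank = Fintype.card (Fin k) := LinearIndependent.rank_matrix hli
  have h2 := LinearMap.finrank_range_add_finrank_ker (Matrix.mulVecLin (Matrix.of fun i => ⇑τ ∘ v i))
  have h3 : Module.finrank F (perp τ v) =
      Module.finrank F (LinearMap.ker (Matrix.mulVecLin (Matrix.of fun i => ⇑τ ∘ v i))) := rfl
  rw [Matrix.rank, Fintype.card_fin] at h
  rw [Module.finrank_fintype_fun_eq_card] at h2
  omega

omit [Fintype F] in
theorem Conj.exists_dual {κ : Type} [Fintype κ] (hτ : Conj τ) {k : ℕ} {v : Fin k → κ → F}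
    (hv : LinearIndependent F v) (p : Fin k → F) : ∃ z, ∀ i, hd τ z (v i) = p i := by
  let φ : (κ → F) →ₗ[F] (Fin k → F) := Matrix.mulVecLin (Matrix.of fun i => ⇑τ ∘ v i)
  have h : LinearMap.range φ = ⊤ := by
    refine Submodule.eq_top_of_finrank_eq ?_
    have h1 := LinearMap.finrank_range_add_finrank_ker φ
    have h2 := hτ.finrank_perp hv
    have h3 : Module.finrank F (LinearMap.ker φ) = Module.finrank F (perp τ v) := rfl
    rw [Module.finrank_fintype_fun_eq_card] at h1 ⊢
    rw [Fintype.card_fin]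
    omega
  obtain ⟨z, hz⟩ := LinearMap.range_eq_top.1 h p
  exact ⟨z, fun i => (dotProduct_comm _ _).trans (congrFun hz i)⟩

namespace UExt

variable [DecidableEq α] [DecidableEq β] {M : Subgroup (Module.End F (Matrix α β F))ˣ} (hM : UExt τ M)
  (hN : ¬ NonRootU τ M)

include hM hN

/-- Vectors of images of singular lines have rows of full rank. -/
theorem row_ne_zero {g : (Module.End F VV)ˣ} (hg : g ∈ M)
    (hnl : ∀ w : β → F, w ≠ 0 → hd τ w w = 0 → NL τ (g : Module.End F VV) w) {w : β → F} (hw0 : w ≠ 0)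
    (hw : hd τ w w = 0) {a : α → F} (ha : a ≠ 0) {e : α → F} (he : e ≠ 0) :
    row τ e ((g : Module.End F VV) (inj w a)) ≠ 0 := by
  intro hrow
  set l := (g : Module.End F VV) (inj w a)
  obtain ⟨i₁, hi₁⟩ := Function.ne_iff.1 he
  have hc : Fintype.card {i // i ≠ i₁} + 2 ≤ Fintype.card β := by
    rw [Fintype.card_subtype_compl, Fintype.card_subtype_eq]
    have := hM.lt
    have := hM.two_le
    omega
  obtain ⟨z, hz0, hz, hzl⟩ := hM.conj.exists_isotropic_perp
    (fun i : Fin (Fintype.card {i // i ≠ i₁}) => l ((Fintype.equivFin {i // i ≠ i₁}).symm i : α)) hc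
  have hother : ∀ i, i ≠ i₁ → ct τ z l i = 0 := fun i hi => by
    have := hM.conj.hd_symm_zero (hzl (Fintype.equivFin {i // i ≠ i₁} ⟨i, hi⟩))
    simpa [ct_apply] using this
  refine ha (hM.opp hN hg hw0 hw hz0 hz (hnl w hw0 hw) (funext fun i => ?_))
  rcases eq_or_ne i i₁ with rfl | hi
  · have h := hd_row (τ := τ) e l z
    rw [hrow, hd_zero_left, hd_apply, Finset.sum_eq_single i (fun j _ hj => by rw [hother j hj, zero_mul])
      (fun h => absurd (Finset.mem_univ _) h)] at h
    exact (mul_eq_zero.1 h.symm).resolve_right (fun e' => hi₁ (τ.injective (e'.trans (map_zero τ).symm)))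
  · exact hother i hi

/-- A conjugate with a kernel in its pairing respects the factorisation. -/
theorem factor_of_kernel {g x : (Module.End F VV)ˣ} (hg : g ∈ M) (hx : x ∈ M) {w : β → F} (hw0 : w ≠ 0)
    (hw : hd τ w w = 0) {a : α → F} (ha : a ≠ 0)
    (h : ∀ a', th τ ((x : Module.End F VV) ((g : Module.End F VV) (inj w a))) ((g : Module.End F VV) (inj w a')) = 0) :
    Factor ((g⁻¹ * x * g : (Module.End F VV)ˣ) : Module.End F VV) := by
  have hτ := hM.conj
  set X := g⁻¹ * x * g with hX
  have hXm : X ∈ M := mul_mem (mul_mem (inv_mem hg) hx) hg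
  have hline : ¬ NL τ (X : Module.End F VV) w := fun hnl => ha (hM.opp hN hXm hw0 hw hw0 hw hnl (by
    refine hτ.eq_zero_of_forall fun u => ?_
    rw [← th_inj_right hτ, hX, Units.val_mul, Units.val_mul, Module.End.mul_apply, Module.End.mul_apply,
      ← hM.adj' hg]
    exact h u))
  refine factor_of_singular hτ hM.four_le (by have := hM.two_le; omega) X fun v hv0 hv => ?_
  have h := hM.lines_of_line hN hXm hw0 hw hline v hv0 hv
  simp only [NL, not_forall, not_not] at h
  obtain ⟨r, -, he⟩ := h
  refine ⟨r, fun e => ?_, he.le⟩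
  have h1 := finrank_map_line X hv0 (α := α)
  rw [he, e, line_zero, finrank_bot] at h1
  have := hM.two_le
  omega

/-- Odd characteristic and an even first factor. -/
theorem nonRoot_odd {g : (Module.End F VV)ˣ} (hg : g ∈ M)
    (hnl : ∀ w : β → F, w ≠ 0 → hd τ w w = 0 → NL τ (g : Module.End F VV) w) (hev : Even (Fintype.card α))
    (h20 : (2 : F) ≠ 0) : False := by
  have hτ := hM.conj
  obtain ⟨i₀⟩ : Nonempty α := Fintype.card_pos_iff.1 (by have := hM.two_le; omega)
  -- every image is orthogonal to a non-singular line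
  have hex : ∀ w, w ≠ 0 → hd τ w w = 0 → ∃ k : β → F, hd τ k k ≠ 0 ∧
      ∀ a, ct τ k ((g : Module.End F VV) (inj w a)) = 0 := by
    intro w hw0 hw
    let l : α → β → F := fun a => row τ (Pi.single i₀ 1) ((g : Module.End F VV) (inj w (Pi.single a 1)))
    obtain ⟨k, hk, hk0⟩ := (perp τ fun i : Fin (Fintype.card α) => l ((Fintype.equivFin α).symm i)).exists_mem_ne_zero_of_ne_bot fun e => by
      have h := le_finrank_perp (τ := τ) fun i : Fin (Fintype.card α) => l ((Fintype.equivFin α).symm i)
      rw [e, finrank_bot] at h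
      have := hM.lt
      omega
    let π : (α → F) →ₗ[F] (α → F) := ct τ k ∘ₗ (g : Module.End F VV) ∘ₗ inj w
    have hrange : ∀ a, π a i₀ = 0 := by
      intro a
      have e : a = ∑ b, a b • Pi.single b 1 := by ext b; simp [Pi.single_apply]
      rw [e, map_sum, Finset.sum_apply]
      refine Finset.sum_eq_zero fun b _ => ?_
      rw [map_smul, Pi.smul_apply]
      have h := hτ.hd_symm_zero (mem_perp.1 hk (Fintype.equivFin α b))
      simp only [Equiv.symm_apply_apply, l, hd_row, hd_single_right, map_one, mul_one] at h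
      rw [show π (Pi.single b 1) i₀ = 0 from h, smul_zero]
    obtain ⟨a₁, ha₁, ha₁0⟩ := (LinearMap.ker π).exists_mem_ne_zero_of_ne_bot fun e => by
      obtain ⟨b, hb⟩ := LinearMap.injective_iff_surjective.1 (LinearMap.ker_eq_bot.1 e) (Pi.single i₀ 1)
      simpa [hrange b] using congrFun hb i₀
    have hkk : hd τ k k ≠ 0 := fun hkk => ha₁0 (hM.opp hN hg hw0 hw hk0 hkk (hnl w hw0 hw) (LinearMap.mem_ker.1 ha₁))
    refine ⟨k, hkk, fun a => ?_⟩
    -- the reflection stabilises the image
    set c := -2 / hd τ k k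
    have hc : τ c = c := by rw [map_div₀, map_neg, map_ofNat, hτ.self_fixed]
    obtain ⟨x, hx, ex⟩ := hM.right (1 + Matrix.vecMulVec (c • (⇑τ ∘ k)) k) (fun u v => by
      have hrow : ∀ u : β → F, u ᵥ* (1 + Matrix.vecMulVec (c • (⇑τ ∘ k)) k) = u + (c * hd τ u k) • k := by
        intro u
        rw [Matrix.vecMul_add, Matrix.vecMul_one, Matrix.vecMul_vecMulVec, dotProduct_smul]
        rfl
      rw [hrow, hrow]
      simp only [hd_add_left, hd_add_right, hd_smul_left, hd_smul_right, map_mul, hc, hτ.hd_conj]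
      have e : c * hd τ k k = -2 := div_mul_cancel₀ _ hkk
      linear_combination (c * hd τ u k * hd τ k v) * e) (by
      rw [Matrix.vecMulVec_eq Unit, Matrix.det_one_add_replicateCol_mul_replicateRow, dotProduct_smul, smul_eq_mul,
        show k ⬝ᵥ (⇑τ ∘ k) = hd τ k k from rfl, div_mul_cancel₀ _ hkk]
      rw [show (1 : F) + -2 = -1 by ring]
      exact hev.neg_one_pow)
    set X := g⁻¹ * x * g with hX
    have hxv : ∀ T, (x : Module.End F VV) T = T + c • inj k (ct τ k T) := fun T => by
      rw [ex, mulR_apply, Matrix.mul_add, Matrix.mul_one, Matrix.mul_vecMulVec, Matrix.mulVec_smul,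
        Matrix.smul_vecMulVec]
      rfl
    have hXm : X ∈ M := mul_mem (mul_mem (inv_mem hg) hx) hg
    have hfix : (X : Module.End F VV) (inj w a₁) = inj w a₁ := by
      have h0 : ct τ k ((g : Module.End F VV) (inj w a₁)) = 0 := LinearMap.mem_ker.1 ha₁
      simp [hX, Module.End.mul_apply, hxv, h0, inv_apply_apply]
    have hstab : (line (α := α) w).map (X : Module.End F VV) = line w := by
      by_contra hne
      have hnl' : NL τ (X : Module.End F VV) w := nl_of_meet X hw0 hne fun e => by
        have hm : (inj w a₁ : VV) ∈ line (α := α) w ⊓ (line (α := α) w).map (X : Module.End F VV) :=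
          ⟨inj_mem_line _ _, inj w a₁, inj_mem_line _ _, hfix⟩
        rw [e, Submodule.mem_bot] at hm
        exact ha₁0 (inj_injective hw0 (hm.trans (map_zero _).symm))
      exact ha₁0 (hM.opp hN hXm hw0 hw hw0 hw hnl' (by rw [hfix, ct_inj, hw, zero_smul]))
    obtain ⟨a', ha'⟩ : (X : Module.End F VV) (inj w a) ∈ line (α := α) w := by
      rw [← hstab]; exact Submodule.mem_map_of_mem (inj_mem_line w a)
    have h1 : (g : Module.End F VV) (inj w (a' - a)) = c • inj k (ct τ k ((g : Module.End F VV) (inj w a))) := by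
      have h2 := congrArg (g : Module.End F VV) ha'
      rw [hX, Units.val_mul, Units.val_mul, Module.End.mul_apply, Module.End.mul_apply, apply_inv_apply, hxv] at h2
      rw [map_sub, map_sub, h2, add_sub_cancel_left]
    obtain ⟨v, hv0, hv, hvk⟩ := hτ.exists_isotropic_perp ![k] (by have := hM.four; have := hM.lt; omega)
    have h2 := hM.opp hN hg hw0 hw hv0 hv (hnl w hw0 hw) (a := a' - a) (by
      rw [h1, map_smul, ct_inj, show hd τ k v = 0 from hτ.hd_symm_zero (hvk 0), zero_smul, smul_zero])
    rw [h2, map_zero, map_zero, eq_comm, smul_eq_zero] at h1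
    exact inj_injective hk0 ((h1.resolve_left (div_ne_zero (neg_ne_zero.2 h20) hkk)).trans (map_zero _).symm)
  -- the vectors orthogonal to a non-singular line form a hyperplane
  have hbig : ∀ w, w ≠ 0 → hd τ w w = 0 → ∀ k, hd τ k k ≠ 0 → (∀ a, ct τ k ((g : Module.End F VV) (inj w a)) = 0) →
      ∃ S : Submodule F (β → F), Fintype.card β ≤ Module.finrank F S + 1 ∧
        ∀ y ∈ S, ∀ a, ct τ k ((g : Module.End F VV) (inj y a)) = 0 := by
    intro w hw0 hw k hkk hwk
    set c := -2 / hd τ k k
    have hc0 : c ≠ 0 := div_ne_zero (neg_ne_zero.2 h20) hkk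
    have hc : τ c = c := by rw [map_div₀, map_neg, map_ofNat, hτ.self_fixed]
    have hk0 : k ≠ 0 := fun e => hkk (by rw [e, hd_zero_left])
    obtain ⟨x, hx, ex⟩ := hM.right (1 + Matrix.vecMulVec (c • (⇑τ ∘ k)) k) (fun u v => by
      have hrow : ∀ u : β → F, u ᵥ* (1 + Matrix.vecMulVec (c • (⇑τ ∘ k)) k) = u + (c * hd τ u k) • k := by
        intro u
        rw [Matrix.vecMul_add, Matrix.vecMul_one, Matrix.vecMul_vecMulVec, dotProduct_smul]
        rfl
      rw [hrow, hrow]
      simp only [hd_add_left, hd_add_right, hd_smul_left, hd_smul_right, map_mul, hc, hτ.hd_conj]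
      have e : c * hd τ k k = -2 := div_mul_cancel₀ _ hkk
      linear_combination (c * hd τ u k * hd τ k v) * e) (by
      rw [Matrix.vecMulVec_eq Unit, Matrix.det_one_add_replicateCol_mul_replicateRow, dotProduct_smul, smul_eq_mul,
        show k ⬝ᵥ (⇑τ ∘ k) = hd τ k k from rfl, div_mul_cancel₀ _ hkk]
      rw [show (1 : F) + -2 = -1 by ring]
      exact hev.neg_one_pow)
    set X := g⁻¹ * x * g with hX
    have hxv : ∀ T, (x : Module.End F VV) T = T + c • inj k (ct τ k T) := fun T => by
      rw [ex, mulR_apply, Matrix.mul_add, Matrix.mul_one, Matrix.mul_vecMulVec, Matrix.mulVec_smul,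
        Matrix.smul_vecMulVec]
      rfl
    have hXv : ∀ T, (g : Module.End F VV) ((X : Module.End F VV) T) =
        (g : Module.End F VV) T + c • inj k (ct τ k ((g : Module.End F VV) T)) := fun T => by
      rw [hX, Units.val_mul, Units.val_mul, Module.End.mul_apply, Module.End.mul_apply, apply_inv_apply, hxv]
    obtain ⟨i, hi⟩ : ∃ i : α, i = i₀ := ⟨i₀, rfl⟩
    have hXfix : ∀ a, (X : Module.End F VV) (inj w a) = inj w a := fun a =>
      map_unit_inj g (by rw [hXv, hwk, map_zero, smul_zero, add_zero])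
    obtain ⟨A, B, hAB⟩ := hM.factor_of_kernel hN hg hx hw0 hw (a := Pi.single i₀ 1) (by simp) fun a' => by
      rw [hxv, hwk, map_zero, smul_zero, add_zero, hM.iso g hg, th_inj_left hτ, ct_inj, hw, zero_smul, hd_zero_right]
    have hinj : ∀ y a, (X : Module.End F VV) (inj y a) = inj (y ᵥ* B) (A *ᵥ a) := fun y a => by
      rw [hAB, inj_apply, inj_apply, Matrix.mul_vecMulVec, Matrix.vecMulVec_mul]
    obtain ⟨j₁, hj₁⟩ := Function.ne_iff.1 hw0
    have hA : ∀ a, (w ᵥ* B) j₁ • (A *ᵥ a) = w j₁ • a := fun a => funext fun m => by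
      have h1 := congrFun (congrFun ((hinj w a).symm.trans (hXfix a)) m) j₁
      simpa [inj_apply, Matrix.vecMulVec_apply, mul_comm] using h1
    set d := (w ᵥ* B) j₁
    have hd0 : d ≠ 0 := fun e => by
      have h := congrFun (hA (Pi.single i₀ 1)) i₀
      simp [e] at h
      exact hj₁ (by simp [h.symm])
    set s := w j₁ / d
    have hA' : ∀ a, A *ᵥ a = s • a := fun a => by
      show A *ᵥ a = (w j₁ / d) • a
      rw [div_eq_inv_mul, mul_smul, ← hA, inv_smul_smul₀ hd0]
    let N : (β → F) →ₗ[F] (β → F) := s • Matrix.vecMulLinear B - LinearMap.id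
    have hN' : ∀ y a, (g : Module.End F VV) (inj (N y) a) = c • inj k (ct τ k ((g : Module.End F VV) (inj y a))) := fun y a => by
      have h1 := hXv (inj y a)
      rw [hinj, hA', map_smul (inj _), map_smul] at h1
      show (g : Module.End F VV) (inj (s • (y ᵥ* B) - y) a) = _
      rw [sub_eq_add_neg, inj_add_left, inj_smul_left, show -y = (-1 : F) • y by simp, inj_smul_left, map_add, map_smul,
        map_smul, h1]
      module
    refine ⟨LinearMap.ker N, ?_, fun y hy a => ?_⟩
    · have h := LinearMap.finrank_range_add_finrank_ker N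
      rw [Module.finrank_fintype_fun_eq_card] at h
      have h1 : Module.finrank F (LinearMap.range N) ≤ 1 := by
        by_contra hlt
        obtain ⟨z, hz, hz0, hzz⟩ := hτ.exists_isotropic (LinearMap.range N) (by omega)
        obtain ⟨y, rfl⟩ := hz
        obtain ⟨v, hv0, hv, hvk⟩ := hτ.exists_isotropic_perp ![k] (by have := hM.four; have := hM.lt; omega)
        have h2 := hM.opp hN hg hz0 hzz hv0 hv (hnl _ hz0 hzz) (a := Pi.single i₀ 1) (by
          rw [hN', map_smul, ct_inj, show hd τ k v = 0 from hτ.hd_symm_zero (hvk 0), zero_smul, smul_zero])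
        simp at h2
      omega
    · have h := hN' y a
      rw [LinearMap.mem_ker.1 hy, inj_zero_left, map_zero, eq_comm, smul_eq_zero] at h
      exact inj_injective hk0 ((h.resolve_left hc0).trans (map_zero _).symm)
  obtain ⟨w₁, hw10, hw1, -⟩ := hτ.exists_isotropic_perp (fun i : Fin 0 => (0 : β → F)) (by have := hM.four; have := hM.lt; omega)
  obtain ⟨k₁, hk1, hwk1⟩ := hex w₁ hw10 hw1
  obtain ⟨w₂, hw20, hw2, a₂, hwa⟩ : ∃ w₂, w₂ ≠ 0 ∧ hd τ w₂ w₂ = 0 ∧ ∃ a, ct τ k₁ ((g : Module.End F VV) (inj w₂ a)) ≠ 0 := by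
    by_contra hcon
    push Not at hcon
    have h1 : ∀ y a, ct τ k₁ ((g : Module.End F VV) (inj y a)) = 0 := fun y =>
      hτ.induction_isotropic hM.four_le (P := fun y => ∀ a, ct τ k₁ ((g : Module.End F VV) (inj y a)) = 0)
        (fun p r hp hr a => by rw [inj_add_left, map_add, map_add, hp, hr, add_zero])
        (fun s p hp a => by rw [inj_smul_left, map_smul, map_smul, hp, smul_zero])
        (fun d hd' a => by
          rcases eq_or_ne d 0 with rfl | hd0
          · rw [inj_zero_left, map_zero, map_zero]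
          · exact hcon d hd0 hd' a) y
    have h2 : ∀ T : VV, ct τ k₁ T = 0 := fun T => by
      obtain ⟨S, rfl⟩ : ∃ S, (g : Module.End F VV) S = T := ⟨_, apply_inv_apply g T⟩
      rw [eq_sum_rows S, map_sum, map_sum]
      exact Finset.sum_eq_zero fun i _ => h1 _ _
    have h3 := congrFun (h2 (inj k₁ (Pi.single i₀ 1))) i₀
    rw [ct_inj] at h3
    exact hk1 (by simpa using h3)
  obtain ⟨k₂, hk2, hwk2⟩ := hex w₂ hw20 hw2
  have hind : LinearIndependent F ![k₁, k₂] := LinearIndependent.pair_iff.2 fun a b hab => by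
    by_cases ha : a = 0
    · refine ⟨ha, ?_⟩
      rw [ha, zero_smul, zero_add, smul_eq_zero] at hab
      exact hab.resolve_right fun e => hk2 (by rw [e, hd_zero_left])
    · exfalso
      refine hwa ?_
      have h1 : k₁ = (-(b / a)) • k₂ := by
        rw [neg_smul, div_eq_inv_mul, mul_smul, eq_neg_iff_add_eq_zero]
        have := congrArg (fun v => a⁻¹ • v) hab
        simpa [smul_add, inv_smul_smul₀ ha] using this
      rw [h1, ct_smul, hwk2, smul_zero]
  obtain ⟨S₁, hS1, hS1'⟩ := hbig w₁ hw10 hw1 k₁ hk1 hwk1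
  obtain ⟨S₂, hS2, hS2'⟩ := hbig w₂ hw20 hw2 k₂ hk2 hwk2
  obtain ⟨y, hy, hy0, hyy⟩ := hτ.exists_isotropic (S₁ ⊓ S₂) (by
    have h := Submodule.finrank_sup_add_finrank_inf_eq S₁ S₂
    have h' := (S₁ ⊔ S₂).finrank_le
    rw [Module.finrank_fintype_fun_eq_card] at h'
    have := hM.four; have := hM.lt
    omega)
  obtain ⟨v, hv, hv0, hvv⟩ := hτ.exists_isotropic (Submodule.span F (Set.range ![k₁, k₂])) (by
    rw [finrank_span_eq_card hind]; simp)
  rw [Matrix.range_cons, Matrix.range_cons, Matrix.range_empty, Set.union_empty, Set.union_singleton] at hv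
  obtain ⟨p, r, rfl⟩ := Submodule.mem_span_pair.1 (Set.pair_comm k₂ k₁ ▸ hv)
  have h := hM.opp hN hg hy0 hyy hv0 hvv (hnl y hy0 hyy) (a := Pi.single i₀ 1) (by
    rw [ct_add, ct_smul, ct_smul, hS1' y hy.1, hS2' y hy.2, smul_zero, smul_zero, add_zero])
  simp at h

end UExt

end CfsgLib.TensorMax.Unitary
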