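import Cfsg.Agent.Lib.TensorMax.Unitary.FourBase

/-!
A four-dimensional first factor in characteristic two.
-/

set_option autoImplicit false

namespace CfsgLib.TensorMax.Unitary

open scoped Matrix
open CfsgLib.FieldMax (Mem map_unit_inj inv_apply_apply apply_inv_apply)

variable {F : Type*} [Field F] {α β : Type} [Fintype α] [Fintype β]

local notation "VV" => Matrix α β F

variable {τ : F ≃+* F}

theorem th_sum_left {ι : Type} (s : Finset ι) (f : ι → VV) (S : VV) :
    th τ (∑ p ∈ s, f p) S = ∑ p ∈ s, th τ (f p) S := by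
  classical
  induction s using Finset.induction with
  | empty => simp [th_zero_left]
  | @insert a s ha ih => rw [Finset.sum_insert ha, Finset.sum_insert ha, th_add_left, ih]

theorem th_sum_right {ι : Type} (s : Finset ι) (f : ι → VV) (S : VV) :
    th τ S (∑ p ∈ s, f p) = ∑ p ∈ s, th τ S (f p) := by
  classical
  induction s using Finset.induction with
  | empty => simp [th_zero_right]
  | @insert a s ha ih => rw [Finset.sum_insert ha, Finset.sum_insert ha, th_add_right, ih]

theorem row_inj (e : α → F) (w : β → F) (u : α → F) : row τ e (inj w u : VV) = hd τ u e • w := by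
  rw [row, inj_apply, Matrix.vecMul_vecMulVec, dotProduct_comm]; rfl

theorem row_lin {ι : Type} [Fintype ι] (e : α → F) (c : ι → F) (T : ι → VV) :
    row τ e (∑ i, c i • T i) = ∑ i, c i • row τ e (T i) := by
  simp only [row, Matrix.vecMul_sum, Matrix.vecMul_smul]

theorem row_sum {ι : Type} [Fintype ι] (e : α → F) (T : ι → VV) : row τ e (∑ i, T i) = ∑ i, row τ e (T i) := by
  simp only [row, Matrix.vecMul_sum]

theorem row_comb {ι : Type} [Fintype ι] (c : ι → F) (e : ι → α → F) (T : VV) :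
    row τ (∑ i, c i • e i) T = ∑ i, τ (c i) • row τ (e i) T := by
  rw [row, show (⇑τ ∘ ∑ i, c i • e i) = ∑ i, τ (c i) • (⇑τ ∘ e i) from funext fun a => by simp, Matrix.sum_vecMul]
  exact Finset.sum_congr rfl fun i _ => Matrix.smul_vecMul _ _ _

theorem ct_comb {ι : Type} [Fintype ι] (c : ι → F) (v : ι → β → F) (T : VV) :
    ct τ (∑ i, c i • v i) T = ∑ i, τ (c i) • ct τ (v i) T := by
  funext a
  simp only [ct_apply, Finset.sum_apply, Pi.smul_apply, smul_eq_mul]
  simp only [hd_apply, Finset.sum_apply, Pi.smul_apply, smul_eq_mul, map_sum, map_mul, Finset.mul_sum]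
  rw [Finset.sum_comm]
  exact Finset.sum_congr rfl fun _ _ => Finset.sum_congr rfl fun _ _ => by ring

theorem mulL_inj (A : Matrix α α F) (w : β → F) (u : α → F) : mulL A (inj w u : VV) = inj w (A *ᵥ u) := by
  rw [mulL_apply, inj_apply, inj_apply, Matrix.mul_vecMulVec]

theorem th_inj_row (hτ : Conj τ) (w : β → F) (u : α → F) (T : VV) : th τ (inj w u) T = hd τ w (row τ u T) := by
  rw [th_inj_left hτ, ← hτ.hd_conj, ← hd_row, hτ.hd_conj]

theorem hd_span_left {κ ι : Type} [Fintype κ] [Fintype ι] {v : ι → κ → F} {x z : κ → F}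
    (hx : x ∈ Submodule.span F (Set.range v)) (h : ∀ i, hd τ (v i) z = 0) : hd τ x z = 0 := by
  obtain ⟨c, rfl⟩ := Submodule.mem_span_range_iff_exists_fun F |>.1 hx
  rw [hd_sum_left]
  exact Finset.sum_eq_zero fun i _ => by rw [hd_smul_left, h, mul_zero]

theorem hd_span {κ ι : Type} [Fintype κ] [Fintype ι] (hτ : Conj τ) {v : ι → κ → F} {x y : κ → F}
    (hts : ∀ i j, hd τ (v i) (v j) = 0) (hx : x ∈ Submodule.span F (Set.range v))
    (hy : y ∈ Submodule.span F (Set.range v)) : hd τ x y = 0 :=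
  hd_span_left hx fun i => hτ.hd_symm_zero (hd_span_left hy fun j => hts j i)

section Family

variable {k : ℕ} {e : Fin k → α → F} {W : Fin k → β → F}

theorem mulL_eg_apply (G : Matrix (Fin k) (Fin k) F) (T : VV) :
    mulL (eg τ e G) T = ∑ i, inj (∑ j, G i j • row τ (e j) T) (e i) := by
  rw [mulL_apply, eg, Matrix.sum_mul]
  refine Finset.sum_congr rfl fun i _ => ?_
  rw [Matrix.sum_mul]
  simp only [Matrix.smul_mul, Matrix.vecMulVec_mul, inj_apply, ← Matrix.vecMulVec_smul']
  ext a b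
  simp [Matrix.sum_apply, Matrix.vecMulVec_apply, row, Finset.mul_sum]
  exact Finset.sum_congr rfl fun _ _ => mul_left_comm _ _ _

theorem mulL_eg_gx [DecidableEq α] (κ ω : F) (x : Fin k × Fin k → F) :
    (mulL (eg τ e (gx τ κ ω x)) : Module.End F VV) = ∑ p, x p • mulL (eg τ e (gb τ κ ω p)) := by
  refine LinearMap.ext fun T => ?_
  simp [mulL_apply, eg_gx, Matrix.sum_mul, LinearMap.sum_apply]

theorem mulL_jg_comm (G G' : Matrix (Fin k) (Fin k) F) (T : VV) :
    mulL (eg τ e G) ((jg τ W G' : Module.End F VV) T) = (jg τ W G' : Module.End F VV) (mulL (eg τ e G) T) := by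
  rw [jg_apply, jg_apply, map_sum]
  refine Finset.sum_congr rfl fun i _ => ?_
  rw [mulL_inj, Matrix.mulVec_sum]
  refine congrArg _ (Finset.sum_congr rfl fun j _ => ?_)
  rw [Matrix.mulVec_smul, ct_mulL]

theorem jg_mulL_zero {T : VV} (h : ∀ l j, hd τ (row τ (e l) T) (W j) = 0) (G G' : Matrix (Fin k) (Fin k) F) :
    (jg τ W G' : Module.End F VV) (mulL (eg τ e G) T) = 0 := by
  rw [jg_apply]
  refine Finset.sum_eq_zero fun i _ => ?_
  rw [Finset.sum_eq_zero, map_zero]
  intro j _
  rw [ct_mulL, eg_mulVec, Finset.sum_eq_zero, smul_zero]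
  intro l _
  rw [Finset.sum_eq_zero, zero_smul]
  intro m _
  rw [← hd_row, h, mul_zero]

theorem th_mulL (hτ : Conj τ) [DecidableEq α] {G : Matrix (Fin k) (Fin k) F} (hG : ∀ i j, τ (G i j) = -G j i) (S T : VV) :
    th τ (mulL (eg τ e G) S) T = -th τ S (mulL (eg τ e G) T) := by
  rw [eq_sum_rows S, map_sum, th_sum_left, th_sum_left, ← Finset.sum_neg_distrib]
  refine Finset.sum_congr rfl fun i _ => ?_
  rw [mulL_inj, th_inj_left hτ, th_inj_left hτ, ct_mulL, hd_eg hτ hG]

/-- The product of the two families. -/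
def dg (τ : F ≃+* F) (e : Fin k → α → F) (W : Fin k → β → F) (G G' : Matrix (Fin k) (Fin k) F) :
    Module.End F (Matrix α β F) :=
  mulL (eg τ e G) + jg τ W G' + mulL (eg τ e G) * jg τ W G'

theorem dg_apply (G G' : Matrix (Fin k) (Fin k) F) (T : VV) :
    (dg τ e W G G' : Module.End F VV) T = mulL (eg τ e G) T + (jg τ W G' : Module.End F VV) T +
      mulL (eg τ e G) ((jg τ W G' : Module.End F VV) T) := rfl

theorem th_dg (hτ : Conj τ) [DecidableEq α] (h2 : (2 : F) = 0) {G G' : Matrix (Fin k) (Fin k) F}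
    (hG : ∀ i j, τ (G i j) = -G j i) (hG' : ∀ i j, τ (G' i j) = -G' j i) (S T : VV) :
    th τ ((dg τ e W G G' : Module.End F VV) S) T = th τ S ((dg τ e W G G' : Module.End F VV) T) := by
  simp only [dg_apply, th_add_left, th_add_right, th_mulL hτ hG, th_jg hτ hG', mulL_jg_comm]
  linear_combination (-(th τ S (mulL (eg τ e G) T) + th τ S ((jg τ W G' : Module.End F VV) T))) * h2

theorem th_dg_gx [DecidableEq α] (κ ω : F) (x : Fin k × Fin k ⊕ Fin k × Fin k → F) (S T : VV) :
    th τ ((dg τ e W (gx τ κ ω (x ∘ Sum.inl)) (gx τ κ ω (x ∘ Sum.inr)) : Module.End F VV) S) T =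
      (∑ p, x (.inl p) * th τ (mulL (eg τ e (gb τ κ ω p)) S) T) +
      (∑ q, x (.inr q) * th τ ((jg τ W (gb τ κ ω q) : Module.End F VV) S) T) +
      ∑ p, x (.inl p) * ∑ q, x (.inr q) *
        th τ (mulL (eg τ e (gb τ κ ω p)) ((jg τ W (gb τ κ ω q) : Module.End F VV) S)) T := by
  simp only [dg_apply, mulL_eg_gx, jg_gx, Function.comp_apply, LinearMap.sum_apply, LinearMap.smul_apply, th_add_left,
    th_sum_left, th_smul_left, map_sum, map_smul, Finset.mul_sum]
  congr 1
  rw [Finset.sum_comm]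
  exact Finset.sum_congr rfl fun _ _ => Finset.sum_congr rfl fun _ _ => mul_left_comm _ _ _

end Family

namespace UExt

variable [Fintype F] [DecidableEq α] [DecidableEq β] {M : Subgroup (Module.End F (Matrix α β F))ˣ} (hM : UExt τ M)
  (hN : ¬ NonRootU τ M)

include hM hN

omit hN in
theorem mem_dg {k : ℕ} {e : Fin k → α → F} {W : Fin k → β → F} (hte : ∀ i j, hd τ (e i) (e j) = 0)
    {G G' : Matrix (Fin k) (Fin k) F} (hG : ∀ i j, τ (G i j) = -G j i) (hJ : Mem M (jg τ W G' : Module.End F VV)) :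
    Mem M (dg τ e W G G' : Module.End F VV) := by
  obtain ⟨u, hu, eu⟩ := hM.mem_eg hte hG
  obtain ⟨u', hu', eu'⟩ := hJ
  refine ⟨u * u', mul_mem hu hu', ?_⟩
  rw [Units.val_mul, eu, eu', dg]
  noncomm_ring

/-- A kernel in the pairing gives a plane of vectors on which the two families agree. -/
theorem pair_of_kernel {g : (Module.End F VV)ˣ} (hg : g ∈ M)
    (hnl : ∀ w : β → F, w ≠ 0 → hd τ w w = 0 → NL τ (g : Module.End F VV) w) (hα : Fintype.card α = 4) (h2 : (2 : F) = 0)
    {e : Fin 2 → α → F} {W : Fin 2 → β → F} (hte : ∀ i j, hd τ (e i) (e j) = 0) (heli : LinearIndependent F e)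
    (htW : ∀ i j, hd τ (W i) (W j) = 0) (hWli : LinearIndependent F W) {G G' : Matrix (Fin 2) (Fin 2) F}
    (hG : ∀ i j, τ (G i j) = -G j i) (hJ : Mem M (jg τ W G' : Module.End F VV)) (hne : G ≠ 0 ∨ G' ≠ 0)
    {w : β → F} (hw0 : w ≠ 0) (hw : hd τ w w = 0) {a : α → F} (ha : a ≠ 0)
    (hker : ∀ a', th τ ((dg τ e W G G' : Module.End F VV) ((g : Module.End F VV) (inj w a))) ((g : Module.End F VV) (inj w a')) = 0) :
    ∃ (w : β → F) (u : Fin 2 → α → F), w ≠ 0 ∧ hd τ w w = 0 ∧ LinearIndependent F u ∧ G.det ≠ 0 ∧ G'.det ≠ 0 ∧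
      ∀ i, (∀ l j, hd τ (row τ (e l) ((g : Module.End F VV) (inj w (u i)))) (W j) = 0) ∧
        ∀ i', (∀ l m, hd τ (row τ (e l) ((g : Module.End F VV) (inj w (u i))))
            (row τ (e m) ((g : Module.End F VV) (inj w (u i')))) = 0) ∧
          ∀ j m, hd τ (ct τ (W j) ((g : Module.End F VV) (inj w (u i)))) (ct τ (W m) ((g : Module.End F VV) (inj w (u i')))) = 0 := by
  classical
  have hτ := hM.conj
  have hv2 : ∀ T : VV, T + T = 0 := fun T => by rw [← two_smul F T, h2, zero_smul]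
  obtain ⟨x, hx, ex⟩ := hM.mem_dg hte hG hJ
  set D : Module.End F VV := dg τ e W G G' with hD
  have hDD : D * D = 0 := by
    refine LinearMap.ext fun T => ?_
    have hEE : ∀ S : VV, mulL (eg τ e G) (mulL (eg τ e G) S) = 0 := fun S => by
      rw [mulL_apply, mulL_apply, ← Matrix.mul_assoc, eg_mul hte, Matrix.zero_mul]
    have hJJ : ∀ S : VV, (jg τ W G' : Module.End F VV) ((jg τ W G' : Module.End F VV) S) = 0 := fun S =>
      LinearMap.congr_fun (jg_mul htW G' G') S
    simp only [hD, Module.End.mul_apply, dg_apply, map_add, hEE, hJJ, map_zero, ← mulL_jg_comm, LinearMap.zero_apply,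
      add_zero, zero_add]
    exact hv2 _
  have hxT : ∀ T, (x : Module.End F VV) T = T + D T := fun T => by rw [ex]; rfl
  have hfac := hM.factor_of_kernel hN hg hx hw0 hw ha (fun a' => by
    rw [hxT, th_add_left, hker, add_zero, hM.iso g hg, th_inj_left hτ, ct_inj, hw, zero_smul, hd_zero_right])
  set X := g⁻¹ * x * g with hX
  have hXm : X ∈ M := mul_mem (mul_mem (inv_mem hg) hx) hg
  have hXv : ∀ T, ((X : Module.End F VV) - 1) T = ((g⁻¹ : (Module.End F VV)ˣ) : Module.End F VV) (D ((g : Module.End F VV) T)) := by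
    intro T
    simp [hX, Module.End.mul_apply, hxT, inv_apply_apply]
  have hX2 : ((X : Module.End F VV) - 1) * ((X : Module.End F VV) - 1) = 0 := LinearMap.ext fun T => by
    rw [Module.End.mul_apply, hXv, hXv, apply_inv_apply, ← Module.End.mul_apply D D, hDD, LinearMap.zero_apply,
      map_zero, LinearMap.zero_apply]
  obtain ⟨w', A, -, hw0', hw', -, -, hXw⟩ := hM.exists_fixed hXm hfac hX2
  have hAA : ∀ b, (A - 1) *ᵥ ((A - 1) *ᵥ b) = 0 := fun b => by
    have h1 : ∀ c, ((X : Module.End F VV) - 1) (inj w' c) = inj w' ((A - 1) *ᵥ c) := fun c => by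
      rw [LinearMap.sub_apply, Module.End.one_apply, hXw, Matrix.sub_mulVec, Matrix.one_mulVec, map_sub]
    refine inj_injective hw0' ?_
    rw [← h1, ← h1, ← Module.End.mul_apply, hX2, LinearMap.zero_apply, map_zero]
  set φ := Matrix.mulVecLin (A - 1)
  have hle : LinearMap.range φ ≤ LinearMap.ker φ := by
    rintro _ ⟨b, rfl⟩; exact LinearMap.mem_ker.2 (hAA b)
  have hK : 2 ≤ Module.finrank F (LinearMap.ker φ) := by
    have h1 := LinearMap.finrank_range_add_finrank_ker φ
    have h3 := Submodule.finrank_mono hle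
    rw [Module.finrank_fintype_fun_eq_card, hα] at h1
    omega
  let bK := Module.finBasis F (LinearMap.ker φ)
  let u : Fin 2 → α → F := fun i => (bK (Fin.castLE hK i) : α → F)
  have huli : LinearIndependent F u :=
    (bK.linearIndependent.map' (LinearMap.ker φ).subtype (Submodule.ker_subtype _)).comp _ (Fin.castLE_injective hK)
  let δ : Fin 2 → VV := fun i => (g : Module.End F VV) (inj w' (u i))
  have hcomb : ∀ c : Fin 2 → F, ∑ i, c i • δ i = (g : Module.End F VV) (inj w' (∑ i, c i • u i)) := fun c => by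
    simp [δ, map_sum, map_smul]
  have hu0 : ∀ c : Fin 2 → F, c ≠ 0 → ∑ i, c i • u i ≠ 0 := fun c hc h =>
    hc (funext fun i => Fintype.linearIndependent_iff.1 huli c h i)
  have hEJ : ∀ i, mulL (eg τ e G) (δ i) = (jg τ W G' : Module.End F VV) (δ i) := by
    intro i
    have hfix : (A - 1) *ᵥ u i = 0 := LinearMap.mem_ker.1 (bK (Fin.castLE hK i)).2
    have h0 : D (δ i) = 0 := by
      have h1 := hXv (inj w' (u i))
      rw [LinearMap.sub_apply, Module.End.one_apply, hXw, ← map_sub,
        show A *ᵥ u i - u i = 0 by rw [← hfix, Matrix.sub_mulVec, Matrix.one_mulVec], map_zero,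
        eq_comm, ← map_zero ((g⁻¹ : (Module.End F VV)ˣ) : Module.End F VV)] at h1
      exact map_unit_inj g⁻¹ h1
    have h1 : mulL (eg τ e G) ((jg τ W G' : Module.End F VV) (δ i)) = 0 := by
      have h := congrArg (mulL (eg τ e G)) h0
      rw [hD, dg_apply, map_add, map_add, mulL_apply _ (mulL (eg τ e G) (δ i)), mulL_apply _ (δ i), ← Matrix.mul_assoc,
        eg_mul hte, Matrix.zero_mul, zero_add, mulL_apply _ (mulL (eg τ e G) ((jg τ W G' : Module.End F VV) (δ i))),
        mulL_apply _ ((jg τ W G' : Module.End F VV) (δ i)), ← Matrix.mul_assoc, eg_mul hte, Matrix.zero_mul, add_zero,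
        map_zero] at h
      rw [mulL_apply]; exact h
    rw [hD, dg_apply, h1, add_zero, add_eq_zero_iff_eq_neg] at h0
    rw [h0, neg_eq_of_add_eq_zero_left (hv2 _)]
  -- contractions with dual vectors
  obtain ⟨z₀, hz₀⟩ : ∃ z : Fin 2 → α → F, ∀ k i, hd τ (e i) (z k) = if i = k then 1 else 0 := by
    have h := fun k : Fin 2 => hτ.exists_dual heli fun i => if i = k then 1 else 0
    choose z hz using h
    exact ⟨z, fun k i => by rw [← hτ.hd_conj, hz]; split_ifs <;> simp⟩
  obtain ⟨z₁, hz₁⟩ : ∃ z : Fin 2 → β → F, ∀ k i, hd τ (W i) (z k) = if i = k then 1 else 0 := by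
    have h := fun k : Fin 2 => hτ.exists_dual hWli fun i => if i = k then 1 else 0
    choose z hz using h
    exact ⟨z, fun k i => by rw [← hτ.hd_conj, hz]; split_ifs <;> simp⟩
  let R : Fin 2 → Fin 2 → β → F := fun i l => ∑ j, G l j • row τ (e j) (δ i)
  let C : Fin 2 → Fin 2 → α → F := fun i l => ∑ j, G' l j • ct τ (W j) (δ i)
  have hR : ∀ i l, R i l = ∑ m, hd τ (C i m) (z₀ l) • W m := by
    intro i l
    have h := congrArg (row τ (z₀ l)) (hEJ i)
    rw [mulL_eg_apply, jg_apply] at h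
    simp only [row_sum, row_inj, hz₀, ite_smul, one_smul, zero_smul, Finset.sum_ite_eq', Finset.mem_univ, if_true] at h
    exact h
  have hC : ∀ i l, C i l = ∑ m, hd τ (R i m) (z₁ l) • e m := by
    intro i l
    have h := congrArg (ct τ (z₁ l)) (hEJ i)
    rw [mulL_eg_apply, jg_apply, map_sum, map_sum] at h
    simp only [ct_inj, hz₁, ite_smul, one_smul, zero_smul, Finset.sum_ite_eq', Finset.mem_univ, if_true] at h
    exact h.symm
  -- neither coefficient matrix is singular
  have hsing : ∀ {k : Type} [Fintype k] (v : k → β → F), (∀ i j, hd τ (v i) (v j) = 0) → LinearIndependent F v →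
      ∀ c : k → F, c ≠ 0 → (∑ i, c i • v i) ≠ 0 ∧ hd τ (∑ i, c i • v i) (∑ i, c i • v i) = 0 := by
    intro k _ v hv hvli c hc
    refine ⟨fun h => hc (funext fun i => Fintype.linearIndependent_iff.1 hvli c h i), hd_span hτ hv ?_ ?_⟩ <;>
      exact Submodule.sum_mem _ fun i _ => Submodule.smul_mem _ _ (Submodule.subset_span ⟨i, rfl⟩)
  have hct : ∀ c : Fin 2 → F, c ≠ 0 → ∀ v : β → F, v ≠ 0 → hd τ v v = 0 → ct τ v (∑ i, c i • δ i) ≠ 0 := by
    intro c hc v hv0 hv h
    exact hu0 c hc (hM.opp hN hg hw0' hw' hv0 hv (hnl w' hw0' hw') (hcomb c ▸ h))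
  have hrow : ∀ c : Fin 2 → F, c ≠ 0 → ∀ e' : α → F, e' ≠ 0 → row τ e' (∑ i, c i • δ i) ≠ 0 := by
    intro c hc e' he' h
    exact hM.row_ne_zero hN hg hnl hw0' hw' (hu0 c hc) he' (hcomb c ▸ h)
  have htau : ∀ {k : Type} (c : k → F), c ≠ 0 → (⇑τ ∘ c) ≠ 0 := fun c hc h => hc (funext fun i => τ.injective (by
    simpa using congrFun h i))
  have hrG : ∀ l, G l ≠ 0 → (∑ j, τ (G l j) • e j) ≠ 0 := fun l hl h =>
    htau (G l) hl (funext fun j => Fintype.linearIndependent_iff.1 heli _ h j)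
  have hrG' : ∀ l, G' l ≠ 0 → (∑ j, τ (G' l j) • W j) ≠ 0 ∧ hd τ (∑ j, τ (G' l j) • W j) (∑ j, τ (G' l j) • W j) = 0 :=
    fun l hl => hsing W htW hWli _ (htau _ hl)
  have hR' : ∀ i l, row τ (∑ j, τ (G l j) • e j) (δ i) = R i l := fun i l => by
    rw [row_comb]; exact Finset.sum_congr rfl fun j _ => by rw [hτ.invol]
  have hC' : ∀ i l, ct τ (∑ j, τ (G' l j) • W j) (δ i) = C i l := fun i l => by
    rw [ct_comb]; exact Finset.sum_congr rfl fun j _ => by rw [hτ.invol]
  have hG0 : G ≠ 0 := by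
    intro hG0
    obtain ⟨l, hl⟩ := Function.ne_iff.1 (hne.resolve_left (fun h => h hG0))
    have hc : (Pi.single 0 1 : Fin 2 → F) ≠ 0 := by simp
    refine hct _ hc _ (hrG' l hl).1 (hrG' l hl).2 ?_
    rw [show (∑ i, (Pi.single 0 1 : Fin 2 → F) i • δ i) = δ 0 by simp [Pi.single_apply], hC', hC]
    simp [R, hG0, hd_zero_left]
  have hG'0 : G' ≠ 0 := by
    intro hG'0
    obtain ⟨l, hl⟩ := Function.ne_iff.1 hG0
    have hc : (Pi.single 0 1 : Fin 2 → F) ≠ 0 := by simp
    refine hrow _ hc _ (hrG l hl) ?_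
    rw [show (∑ i, (Pi.single 0 1 : Fin 2 → F) i • δ i) = δ 0 by simp [Pi.single_apply], hR', hR]
    simp [C, hG'0, hd_zero_left]
  have hrank : ∀ H : Matrix (Fin 2) (Fin 2) F, H.det = 0 → ∃ a b : Fin 2 → F, H = Matrix.vecMulVec a b := by
    intro H hH
    obtain ⟨c, hc, hcH⟩ := Matrix.exists_vecMul_eq_zero_iff.2 hH
    have h : ∀ j, c 0 * H 0 j + c 1 * H 1 j = 0 := fun j => by
      simpa [Matrix.vecMul, dotProduct, Fin.sum_univ_two] using congrFun hcH j
    rcases eq_or_ne (c 0) 0 with h0 | h0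
    · have h1 : c 1 ≠ 0 := fun h1 => hc (by funext i; fin_cases i <;> simp [h0, h1])
      refine ⟨![1, 0], H 0, ?_⟩
      ext i j; fin_cases i <;> simp [Matrix.vecMulVec_apply]
      exact (mul_eq_zero.1 (by simpa [h0] using h j)).resolve_left h1
    · refine ⟨![-(c 1 / c 0), 1], H 1, ?_⟩
      ext i j; fin_cases i <;> simp [Matrix.vecMulVec_apply]
      field_simp
      linear_combination h j
  have hdep : ∀ s : Fin 2 → F, ∃ c : Fin 2 → F, c ≠ 0 ∧ ∑ i, c i * s i = 0 := by
    intro s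
    by_cases hs : s 0 = 0
    · exact ⟨Pi.single 0 1, by simp, by simp [Fin.sum_univ_two, hs]⟩
    · exact ⟨![s 1, -s 0], fun h => hs (by simpa using congrFun h 1), by simp [Fin.sum_univ_two]; ring⟩
  have hGd : G.det ≠ 0 := by
    intro hd0
    obtain ⟨p, b, hGp⟩ := hrank G hd0
    let f : α → F := ∑ m, p m • e m
    obtain ⟨l, hl⟩ := Function.ne_iff.1 hG'0
    let s : Fin 2 → F := fun i => hd τ (∑ j, b j • row τ (e j) (δ i)) (z₁ l)
    have h : ∀ i, C i l = s i • f := by
      intro i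
      rw [hC, Finset.smul_sum]
      refine Finset.sum_congr rfl fun m _ => ?_
      rw [show R i m = p m • ∑ j, b j • row τ (e j) (δ i) by
        simp only [R, hGp, Matrix.vecMulVec_apply, Finset.smul_sum, smul_smul], hd_smul_left, smul_smul, mul_comm]
    obtain ⟨c, hc, hcs⟩ := hdep s
    refine hct c hc _ (hrG' l hl).1 (hrG' l hl).2 ?_
    simp only [map_sum, map_smul, hC', h, smul_smul, ← Finset.sum_smul, hcs, zero_smul]
  have hG'd : G'.det ≠ 0 := by
    intro hd0
    obtain ⟨p, b, hGp⟩ := hrank G' hd0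
    let f : β → F := ∑ m, p m • W m
    obtain ⟨l, hl⟩ := Function.ne_iff.1 hG0
    let s : Fin 2 → F := fun i => hd τ (∑ j, b j • ct τ (W j) (δ i)) (z₀ l)
    have h : ∀ i, R i l = s i • f := by
      intro i
      rw [hR, Finset.smul_sum]
      refine Finset.sum_congr rfl fun m _ => ?_
      rw [show C i m = p m • ∑ j, b j • ct τ (W j) (δ i) by
        simp only [C, hGp, Matrix.vecMulVec_apply, Finset.smul_sum, smul_smul], hd_smul_left, smul_smul, mul_comm]
    obtain ⟨c, hc, hcs⟩ := hdep s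
    refine hrow c hc _ (hrG l hl) ?_
    simp only [row_lin, hR', h, smul_smul, ← Finset.sum_smul, hcs, zero_smul]
  have hmemW : ∀ i l, row τ (e l) (δ i) ∈ Submodule.span F (Set.range W) := by
    intro i l
    have h : row τ (e l) (δ i) = ∑ m, G⁻¹ l m • R i m := by
      simp only [R, Finset.smul_sum, smul_smul]
      rw [Finset.sum_comm]
      simp only [← Finset.sum_smul, ← Matrix.mul_apply, Matrix.nonsing_inv_mul G (Ne.isUnit hGd), Matrix.one_apply,
        ite_smul, one_smul, zero_smul, Finset.sum_ite_eq, Finset.mem_univ, if_true]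
    rw [h]
    refine Submodule.sum_mem _ fun m _ => Submodule.smul_mem _ _ ?_
    rw [hR]
    exact Submodule.sum_mem _ fun j _ => Submodule.smul_mem _ _ (Submodule.subset_span ⟨j, rfl⟩)
  have hmemE : ∀ i l, ct τ (W l) (δ i) ∈ Submodule.span F (Set.range e) := by
    intro i l
    have h : ct τ (W l) (δ i) = ∑ m, G'⁻¹ l m • C i m := by
      simp only [C, Finset.smul_sum, smul_smul]
      rw [Finset.sum_comm]
      simp only [← Finset.sum_smul, ← Matrix.mul_apply, Matrix.nonsing_inv_mul G' (Ne.isUnit hG'd), Matrix.one_apply,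
        ite_smul, one_smul, zero_smul, Finset.sum_ite_eq, Finset.mem_univ, if_true]
    rw [h]
    refine Submodule.sum_mem _ fun m _ => Submodule.smul_mem _ _ ?_
    rw [hC]
    exact Submodule.sum_mem _ fun j _ => Submodule.smul_mem _ _ (Submodule.subset_span ⟨j, rfl⟩)
  exact ⟨w', u, hw0', hw', huli, hGd, hG'd, fun i =>
    ⟨fun l j => hd_span hτ htW (hmemW i l) (Submodule.subset_span ⟨j, rfl⟩), fun i' =>
      ⟨fun l m => hd_span hτ htW (hmemW i l) (hmemW i' m), fun j m => hd_span hτ hte (hmemE i j) (hmemE i' m)⟩⟩⟩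

/-- Characteristic two and a first factor of rank four. -/
theorem nonRoot_four {g : (Module.End F VV)ˣ} (hg : g ∈ M)
    (hnl : ∀ w : β → F, w ≠ 0 → hd τ w w = 0 → NL τ (g : Module.End F VV) w) (hα : Fintype.card α = 4)
    (hβ : Fintype.card β = 5) (h2 : (2 : F) = 0) : False := by
  classical
  have hτ := hM.conj
  obtain ⟨ω, hω⟩ : ∃ ω : F, τ ω ≠ ω := by
    by_contra hcon
    push Not at hcon
    exact hτ.ne (RingEquiv.ext hcon)
  have hk1 : τ (1 : F) = -1 := by rw [map_one]; linear_combination h2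
  obtain ⟨w₀, hw00, hw0, -⟩ := hτ.exists_isotropic_perp (fun i : Fin 0 => (0 : β → F)) (by omega)
  obtain ⟨e', he'0, he', -⟩ := hτ.exists_isotropic_perp (fun i : Fin 0 => (0 : α → F)) (by omega)
  obtain ⟨e, -, heli, hte⟩ := hτ.exists_ts he'0 he' 1 (by omega)
  -- a vector with degenerate rows
  let v : α × Fin 2 → Fin 2 → β → F := fun p l =>
    row τ (e l) ((g : Module.End F VV) (inj w₀ (Pi.single p.1 (if p.2 = 0 then 1 else ω))))
  let a : (α × Fin 2 → F) → α → F := fun x i => x (i, 0) + ω * x (i, 1)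
  have hRx : ∀ x l, row τ (e l) ((g : Module.End F VV) (inj w₀ (a x))) = ∑ p, x p • v p l := by
    intro x l
    rw [show a x = ∑ p : α × Fin 2, x p • (Pi.single p.1 (if p.2 = 0 then (1 : F) else ω) : α → F) from funext fun i => by
      rw [Fintype.sum_prod_type]
      simp [a, Fin.sum_univ_two, Finset.sum_apply, Finset.sum_add_distrib, Pi.single_apply, mul_comm]]
    simp only [map_sum, map_smul, row_lin, v]
  let Q : Matrix (Fin 2) (Fin 2) (MvPolynomial (α × Fin 2) F) :=
    Matrix.of fun l m => ∑ p, MvPolynomial.X p * linPoly fun q => hd τ (v p l) (v q m)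
  let Φ₀ : (α × Fin 2 → F) → Matrix (Fin 2) (Fin 2) F := fun x =>
    Matrix.of fun l m => hd τ (row τ (e l) ((g : Module.End F VV) (inj w₀ (a x)))) (row τ (e m) ((g : Module.End F VV) (inj w₀ (a x))))
  have hev : ∀ x, (∀ p, τ (x p) = x p) → MvPolynomial.eval x Q.det = (Φ₀ x).det := by
    intro x hx
    rw [RingHom.map_det]
    congr 1
    ext l m
    simp only [Q, Φ₀, RingHom.mapMatrix_apply, Matrix.map_apply, Matrix.of_apply, map_sum, map_mul, MvPolynomial.eval_X,
      eval_linPoly, hRx, hd_sum_left, hd_smul_left, Finset.mul_sum]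
    refine Finset.sum_congr rfl fun p _ => ?_
    rw [← hτ.hd_conj, hd_sum_left, map_sum, Finset.mul_sum]
    exact Finset.sum_congr rfl fun q _ => by rw [hd_smul_left, map_mul, hτ.hd_conj, hx]; ring
  obtain ⟨x, hxr, hx0, hxe⟩ := hτ.exists_zero Q.det (by
    refine lt_of_le_of_lt (totalDegree_det_le Q (fun _ => 2) fun l m => ?_) (by simp [hα])
    refine (MvPolynomial.totalDegree_finset_sum _ _).trans (Finset.sup_le fun p _ => ?_)
    refine (MvPolynomial.totalDegree_mul _ _).trans ?_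
    rw [MvPolynomial.totalDegree_X]
    have := totalDegree_linPoly fun q => hd τ (v p l) (v q m)
    omega) (by
    rw [hev 0 (fun p => map_zero τ), Matrix.det_eq_zero_of_row_eq_zero 0 fun m => ?_]
    simp [Φ₀, hRx, hd_zero_left]) (fun x hx => by
    rw [hev x hx, RingEquiv.map_det, ← Matrix.det_transpose (Φ₀ x)]
    congr 1
    ext l m
    simp [Φ₀, hτ.hd_conj])
  have ha0 : a x ≠ 0 := by
    intro h
    apply hx0
    funext ⟨i, j⟩
    have h1 : x (i, 0) + ω * x (i, 1) = 0 := congrFun h i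
    have h3 := congrArg τ h1
    rw [map_add, map_mul, hxr, hxr, map_zero] at h3
    have h4 : x (i, 1) = 0 := (mul_eq_zero.1 (show (τ ω - ω) * x (i, 1) = 0 by linear_combination h3 - h1)).resolve_left
      (sub_ne_zero.2 hω)
    fin_cases j
    · simpa [h4] using h1
    · exact h4
  set l₀ := (g : Module.End F VV) (inj w₀ (a x)) with hl₀
  obtain ⟨c, hc0, hc⟩ := Matrix.exists_vecMul_eq_zero_iff.2 ((hev x hxr).symm.trans hxe)
  let r : Fin 2 → β → F := fun l => row τ (e l) l₀
  have hrli : LinearIndependent F r := Fintype.linearIndependent_iff.2 fun d hd i => by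
    by_contra hdi
    refine hM.row_ne_zero hN hg hnl hw00 hw0 ha0 (e := ∑ l, τ (d l) • e l) (fun h => hdi ?_) ?_
    · simpa using Fintype.linearIndependent_iff.1 heli _ h i
    · rw [row_comb]; simpa only [hτ.invol] using hd
  set s := ∑ l, c l • r l with hs
  have hs0 : s ≠ 0 := fun h => hc0 (funext fun i => Fintype.linearIndependent_iff.1 hrli c h i)
  have hsr : ∀ m, hd τ s (r m) = 0 := fun m => by
    rw [hs, hd_sum_left]
    simpa [hd_smul_left, Matrix.vecMul, dotProduct, Φ₀, r] using congrFun hc m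
  have hss : hd τ s s = 0 := hd_span_left (v := r) (Submodule.sum_mem _ fun l _ =>
    Submodule.smul_mem _ _ (Submodule.subset_span ⟨l, rfl⟩)) fun l => hτ.hd_symm_zero (hsr l)
  obtain ⟨Cs, hCs⟩ := Submodule.exists_isCompl (F ∙ s)
  obtain ⟨t, ⟨ht, htC⟩, ht0, htt⟩ := hτ.exists_isotropic (perp τ r ⊓ Cs) (by
    have h1 := Submodule.finrank_sup_add_finrank_inf_eq (perp τ r) Cs
    have h1' := (perp τ r ⊔ Cs).finrank_le
    have h3 := hτ.finrank_perp hrli
    have h4 := Submodule.finrank_add_eq_of_isCompl hCs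
    rw [finrank_span_singleton hs0, Module.finrank_fintype_fun_eq_card, hβ] at h4
    rw [Module.finrank_fintype_fun_eq_card] at h1'
    omega)
  have htr : ∀ m, hd τ t (r m) = 0 := mem_perp.1 ht
  have hst : hd τ s t = 0 := hd_span_left (v := r) (Submodule.sum_mem _ fun l _ =>
    Submodule.smul_mem _ _ (Submodule.subset_span ⟨l, rfl⟩)) fun l => hτ.hd_symm_zero (htr l)
  let W : Fin 2 → β → F := ![s, t]
  have hWli : LinearIndependent F W := LinearIndependent.pair_iff.2 fun p q hpq => by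
    have hq : q • t = 0 := Submodule.disjoint_def.1 hCs.disjoint (q • t)
      (Submodule.mem_span_singleton.2 ⟨-p, by rw [neg_smul]; exact (eq_neg_of_add_eq_zero_right hpq).symm⟩)
      (Submodule.smul_mem _ q htC)
    rw [hq, add_zero] at hpq
    exact ⟨(smul_eq_zero.1 hpq).resolve_right hs0, (smul_eq_zero.1 hq).resolve_right ht0⟩
  have htW : ∀ i j, hd τ (W i) (W j) = 0 := by
    intro i j; fin_cases i <;> fin_cases j <;> simp [W, hss, htt, hst, hτ.hd_symm_zero hst]
  have hrW : ∀ l j, hd τ (row τ (e l) l₀) (W j) = 0 := by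
    intro l j; fin_cases j
    · exact hτ.hd_symm_zero (hsr l)
    · exact hτ.hd_symm_zero (htr l)
  -- a kernel for the eight-parameter family
  obtain ⟨i₀, hi₀⟩ := Function.ne_iff.1 ha0
  let b : α → α → F := fun i => if i = i₀ then a x else Pi.single i 1
  have hbspan : ∀ a', ∃ d : α → F, ∑ i, d i • b i = a' ∧ (a' = 0 → d = 0) := by
    intro a'
    refine ⟨fun i => if i = i₀ then a' i₀ / a x i₀ else a' i - a' i₀ / a x i₀ * a x i, funext fun m => ?_, fun h => ?_⟩
    · rw [Finset.sum_apply, ← Finset.add_sum_erase _ _ (Finset.mem_univ i₀)]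
      rw [Finset.sum_congr rfl (g := fun i => (a' i - a' i₀ / a x i₀ * a x i) * (Pi.single i 1 : α → F) m) (fun i hi => by
        simp [b, Finset.ne_of_mem_erase hi])]
      rcases eq_or_ne m i₀ with rfl | hm
      · rw [Finset.sum_eq_zero fun i hi => by simp [Pi.single_apply, (Finset.ne_of_mem_erase hi).symm]]
        simp [b, div_mul_cancel₀ _ hi₀]
      · rw [Finset.sum_eq_single m (fun i _ hi => by simp [Pi.single_apply, hi.symm]) (fun h => absurd (Finset.mem_erase.2 ⟨hm, Finset.mem_univ _⟩) h)]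
        simp [b]
    · funext i; simp [h]
  have hbinj : ∀ d : α → F, ∑ i, d i • b i = 0 → d = 0 := by
    let φ : (α → F) →ₗ[F] (α → F) := Fintype.linearCombination F b
    have hs : Function.Surjective φ := fun a' => by
      obtain ⟨d, hd, -⟩ := hbspan a'
      exact ⟨d, by simpa [φ, Fintype.linearCombination_apply] using hd⟩
    intro d hd
    exact (LinearMap.injective_iff_surjective.2 hs) (by simpa [φ, Fintype.linearCombination_apply] using hd)
  let y : α → VV := fun i => (g : Module.End F VV) (inj w₀ (b i))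
  let Φ : ((Fin 2 × Fin 2) ⊕ (Fin 2 × Fin 2) → F) → Matrix α α F := fun x => Matrix.of fun i j =>
    th τ ((dg τ e W (gx τ 1 ω (x ∘ Sum.inl)) (gx τ 1 ω (x ∘ Sum.inr)) : Module.End F VV) (y i)) (y j)
  let P : Matrix α α (MvPolynomial ((Fin 2 × Fin 2) ⊕ (Fin 2 × Fin 2)) F) := Matrix.of fun i j =>
    linPoly (Sum.elim (fun p => th τ (mulL (eg τ e (gb τ 1 ω p)) (y i)) (y j))
      (fun q => th τ ((jg τ W (gb τ 1 ω q) : Module.End F VV) (y i)) (y j))) +
    if i = i₀ then 0 else ∑ p, MvPolynomial.X (Sum.inl p) * linPoly (Sum.elim (fun _ => 0)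
      (fun q => th τ (mulL (eg τ e (gb τ 1 ω p)) ((jg τ W (gb τ 1 ω q) : Module.End F VV) (y i))) (y j)))
  have hev1 : ∀ x, MvPolynomial.eval x P.det = (Φ x).det := by
    intro x
    rw [RingHom.map_det]
    congr 1
    ext i j
    simp only [P, Φ, RingHom.mapMatrix_apply, Matrix.map_apply, Matrix.of_apply, map_add, eval_linPoly, th_dg_gx,
      Fintype.sum_sum_type, Sum.elim_inl, Sum.elim_inr]
    congr 1
    · congr 1 <;> exact Finset.sum_congr rfl fun _ _ => mul_comm _ _
    · split_ifs with hi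
      · subst hi
        rw [map_zero, eq_comm]
        refine Finset.sum_eq_zero fun p _ => ?_
        rw [Finset.sum_eq_zero, mul_zero]
        intro q _
        rw [show y i = l₀ by simp [y, b, hl₀], mulL_jg_comm, jg_mulL_zero hrW, th_zero_left, mul_zero]
      · simp only [map_sum, map_mul, MvPolynomial.eval_X, eval_linPoly, Fintype.sum_sum_type, Sum.elim_inl, Sum.elim_inr,
          zero_mul, Finset.sum_const_zero, zero_add]
        exact Finset.sum_congr rfl fun p _ => by congr 1; exact Finset.sum_congr rfl fun _ _ => mul_comm _ _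
  obtain ⟨x₁, hx1r, hx10, hx1e⟩ := hτ.exists_zero P.det (by
    refine lt_of_le_of_lt (totalDegree_det_le P (fun i => if i = i₀ then 1 else 2) fun i j => ?_) ?_
    · simp only [P, Matrix.of_apply]
      refine (MvPolynomial.totalDegree_add _ _).trans (max_le ((totalDegree_linPoly _).trans (by split_ifs <;> omega)) ?_)
      split_ifs
      · simp
      · refine (MvPolynomial.totalDegree_finset_sum _ _).trans (Finset.sup_le fun p _ => ?_)
        refine (MvPolynomial.totalDegree_mul _ _).trans ?_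
        rw [MvPolynomial.totalDegree_X]
        refine Nat.add_le_add_left (totalDegree_linPoly _) 1
    · rw [← Finset.add_sum_erase _ _ (Finset.mem_univ i₀), if_pos rfl,
        Finset.sum_congr rfl fun i hi => if_neg (Finset.ne_of_mem_erase hi), Finset.sum_const, Finset.card_erase_of_mem
          (Finset.mem_univ i₀), Finset.card_univ, hα]
      simp) (by
    rw [hev1, Matrix.det_eq_zero_of_row_eq_zero i₀ fun j => ?_]
    simp [Φ, gx, dg_apply, jg_zero, eg_zero, mulL_apply, th_zero_left]) (fun x hx => by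
    rw [hev1, RingEquiv.map_det, ← Matrix.det_transpose (Φ x)]
    congr 1
    ext i j
    simp only [RingEquiv.mapMatrix_apply, RingHom.mapMatrix_apply, Matrix.map_apply, Matrix.transpose_apply, Φ, Matrix.of_apply,
      th_conj hτ]
    exact (th_dg (e := e) (W := W) hτ h2 (skew_gx hτ hk1 ω (x := x ∘ Sum.inl) fun p => hx _)
      (skew_gx hτ hk1 ω (x := x ∘ Sum.inr) fun p => hx _) (y j) (y i)).symm)
  obtain ⟨c₁, hc10, hc1⟩ := Matrix.exists_vecMul_eq_zero_iff.2 ((hev1 x₁).symm.trans hx1e)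
  have hne : gx τ 1 ω (x₁ ∘ Sum.inl) ≠ 0 ∨ gx τ 1 ω (x₁ ∘ Sum.inr) ≠ 0 := by
    by_contra hcon
    push Not at hcon
    apply hx10
    funext p
    rcases p with p | p
    · by_contra h
      exact gx_ne_zero hτ one_ne_zero hω (fun q => hx1r _) (fun e0 => h (congrFun e0 p)) hcon.1
    · by_contra h
      exact gx_ne_zero hτ one_ne_zero hω (fun q => hx1r _) (fun e0 => h (congrFun e0 p)) hcon.2
  obtain ⟨w, u, hw10, hw1, huli, -, -, hu⟩ := hM.pair_of_kernel hN hg hnl hα h2 hte heli htW hWli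
    (skew_gx hτ hk1 ω fun p => hx1r _) (hM.mem_jg htW hk1 ω (x := x₁ ∘ Sum.inr) fun p => hx1r _) hne hw00 hw0
    (a := ∑ i, c₁ i • b i) (fun h => hc10 (hbinj c₁ h)) (fun a' => by
      obtain ⟨d, hd, -⟩ := hbspan a'
      rw [← hd]
      simp only [map_sum, map_smul, th_sum_left, th_sum_right, th_smul_left, th_smul_right]
      exact Finset.sum_eq_zero fun j _ => mul_eq_zero_of_right _ (congrFun hc1 j))
  -- a kernel for the five-parameter family
  obtain ⟨Cu, hCu⟩ := Submodule.exists_isCompl (Submodule.span F (Set.range u))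
  have hCu2 : Module.finrank F Cu = 2 := by
    have h := Submodule.finrank_add_eq_of_isCompl hCu
    rw [finrank_span_eq_card huli, Module.finrank_fintype_fun_eq_card, hα, Fintype.card_fin] at h
    omega
  let bC := Module.finBasisOfFinrankEq F Cu hCu2
  let δ : Fin 2 → VV := fun i => (g : Module.End F VV) (inj w (u i))
  let z : Fin 2 → VV := fun m => (g : Module.End F VV) (inj w (bC m : α → F))
  let GL' : (((Fin 2 × Fin 2) ⊕ Unit) → F) → Matrix (Fin 2) (Fin 2) F := fun x => gx τ 1 ω (x ∘ Sum.inl)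
  let GR' : (((Fin 2 × Fin 2) ⊕ Unit) → F) → Matrix (Fin 2) (Fin 2) F := fun x => gx τ 1 ω (Pi.single ((0 : Fin 2), (0 : Fin 2)) (x (.inr ())))
  have hlin : ∀ x i, (dg τ e W (GL' x) (GR' x) : Module.End F VV) (δ i) =
      mulL (eg τ e (GL' x)) (δ i) + (jg τ W (GR' x) : Module.End F VV) (δ i) := fun x i => by
    rw [dg_apply, mulL_jg_comm, jg_mulL_zero (hu i).1, add_zero]
  have hblock : ∀ x i i', th τ ((dg τ e W (GL' x) (GR' x) : Module.End F VV) (δ i)) (δ i') = 0 := by
    intro x i i'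
    rw [hlin, th_add_left, mulL_eg_apply, jg_apply, th_sum_left, th_sum_left, Finset.sum_eq_zero, Finset.sum_eq_zero,
      add_zero]
    · intro l _
      rw [th_inj_left hτ, hd_sum_left]
      exact Finset.sum_eq_zero fun j _ => by rw [hd_smul_left, ((hu i).2 i').2 j l, mul_zero]
    · intro l _
      rw [th_inj_row hτ, hd_sum_left]
      exact Finset.sum_eq_zero fun j _ => by rw [hd_smul_left, ((hu i).2 i').1 j l, mul_zero]
  let coef : Fin 2 → Fin 2 → ((Fin 2 × Fin 2) ⊕ Unit) → F := fun i m => Sum.elim (fun p => th τ (mulL (eg τ e (gb τ 1 ω p)) (δ i)) (z m))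
    (fun _ => th τ ((jg τ W (gb τ 1 ω ((0 : Fin 2), (0 : Fin 2))) : Module.End F VV) (δ i)) (z m))
  let B : (((Fin 2 × Fin 2) ⊕ Unit) → F) → Matrix (Fin 2) (Fin 2) F := fun x => Matrix.of fun i m =>
    th τ ((dg τ e W (GL' x) (GR' x) : Module.End F VV) (δ i)) (z m)
  let P₂ : Matrix (Fin 2) (Fin 2) (MvPolynomial ((Fin 2 × Fin 2) ⊕ Unit) F) := Matrix.of fun i m => linPoly (coef i m)
  let P₃ : Matrix (Fin 2) (Fin 2) (MvPolynomial ((Fin 2 × Fin 2) ⊕ Unit) F) := Matrix.of fun i m => linPoly (⇑τ ∘ coef i m)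
  have hBx : ∀ x i m, B x i m = ∑ p, coef i m p * x p := by
    intro x i m
    simp only [B, Matrix.of_apply, hlin, GL', GR', mulL_eg_gx, jg_gx, th_add_left, LinearMap.sum_apply,
      LinearMap.smul_apply, th_sum_left, th_smul_left, Fintype.sum_sum_type, coef, Sum.elim_inl, Sum.elim_inr,
      Function.comp_apply]
    congr 1
    · exact Finset.sum_congr rfl fun _ _ => mul_comm _ _
    · simp [Pi.single_apply, mul_comm]
  have hev2 : ∀ x, (∀ p, τ (x p) = x p) → MvPolynomial.eval x (P₂.det * P₃.det) = (B x).det * τ (B x).det := by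
    intro x hx
    rw [map_mul, RingHom.map_det, RingHom.map_det, RingEquiv.map_det]
    congr 2
    · ext i m; simp [P₂, eval_linPoly, hBx]
    · ext i m; simp [P₃, eval_linPoly, hBx, map_sum, map_mul, hx]
  obtain ⟨x₂, hx2r, hx20, hx2e⟩ := hτ.exists_zero (P₂.det * P₃.det) (by
    refine lt_of_le_of_lt ((MvPolynomial.totalDegree_mul _ _).trans (add_le_add
      (totalDegree_det_le P₂ (fun _ => 1) fun _ _ => totalDegree_linPoly _)
      (totalDegree_det_le P₃ (fun _ => 1) fun _ _ => totalDegree_linPoly _))) ?_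
    simp) (by
    rw [hev2 0 (fun _ => map_zero τ), Matrix.det_eq_zero_of_row_eq_zero 0 fun m => ?_, zero_mul]
    simp [hBx]) (fun x hx => by rw [hev2 x hx, map_mul, hτ.invol, mul_comm])
  rw [hev2 x₂ hx2r, mul_eq_zero] at hx2e
  obtain ⟨c₂, hc20, hc2⟩ := Matrix.exists_vecMul_eq_zero_iff.2
    (hx2e.elim id fun h => τ.injective (h.trans (map_zero τ).symm))
  have hsr' : ∀ p, τ ((Pi.single ((0 : Fin 2), (0 : Fin 2)) (x₂ (.inr ())) : (Fin 2 × Fin 2) → F) p) =
      (Pi.single ((0 : Fin 2), (0 : Fin 2)) (x₂ (.inr ())) : (Fin 2 × Fin 2) → F) p := fun p => by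
    rw [Pi.single_apply]; split_ifs <;> simp [hx2r]
  have hne2 : GL' x₂ ≠ 0 ∨ GR' x₂ ≠ 0 := by
    by_contra hcon
    push Not at hcon
    apply hx20
    funext p
    rcases p with p | ⟨⟩
    · by_contra h
      exact gx_ne_zero hτ one_ne_zero hω (fun q => hx2r _) (fun e0 => h (congrFun e0 p)) hcon.1
    · by_contra h
      exact gx_ne_zero hτ one_ne_zero hω hsr' (fun e0 => h (Pi.single_eq_zero_iff.1 e0)) hcon.2
  obtain ⟨-, -, -, -, -, -, hdet, -⟩ := hM.pair_of_kernel hN hg hnl hα h2 hte heli htW hWli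
    (skew_gx hτ hk1 ω fun p => hx2r _) (hM.mem_jg htW hk1 ω hsr') hne2 hw10 hw1
    (a := ∑ i, c₂ i • u i) (fun h => hc20 (funext fun i => Fintype.linearIndependent_iff.1 huli c₂ h i)) (fun a' => by
      obtain ⟨d, hd, f, hf, rfl⟩ := Submodule.mem_sup.1 (hCu.sup_eq_top ▸ Submodule.mem_top : a' ∈ _ ⊔ Cu)
      obtain ⟨d', rfl⟩ := (Submodule.mem_span_range_iff_exists_fun F).1 hd
      have hf' : f = ∑ m, bC.repr ⟨f, hf⟩ m • (bC m : α → F) := by
        have := congrArg Cu.subtype (bC.sum_repr ⟨f, hf⟩).symm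
        simp only [map_sum, map_smul] at this
        exact this
      rw [hf']
      simp only [map_sum, map_smul, map_add, th_add_right, th_sum_left, th_sum_right, th_smul_left, th_smul_right]
      rw [Finset.sum_eq_zero, zero_add]
      · exact Finset.sum_eq_zero fun m _ => mul_eq_zero_of_right _ (congrFun hc2 m)
      · intro i _
        exact mul_eq_zero_of_right _ (Finset.sum_eq_zero fun i' _ => mul_eq_zero_of_right _ (hblock x₂ i' i)))
  apply hdet
  rw [gx, Finset.sum_eq_single ((0 : Fin 2), (0 : Fin 2)) (fun p _ hp => by simp [hp]) (fun h => absurd (Finset.mem_univ _) h)]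
  simp [gb, Matrix.det_fin_two]

end UExt

end CfsgLib.TensorMax.Unitary
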