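import Cfsg.Agent.Lib.TensorMax.Unitary.FourBase

/-!
Elementary isometries of a standard Hermitian space over a finite field.
-/

set_option autoImplicit false

namespace CfsgLib.TensorMax.Unitary

open scoped Matrix

variable {F : Type*} [Field F] {κ : Type} [Fintype κ] {τ : F ≃+* F}

/-- The adjoint of a matrix. -/
def hadj (τ : F ≃+* F) (A : Matrix κ κ F) : Matrix κ κ F := (A.map τ)ᵀ

/-- A matrix preserving the form. -/
def IsIso (τ : F ≃+* F) (A : Matrix κ κ F) : Prop := ∀ u v, hd τ (A *ᵥ u) (A *ᵥ v) = hd τ u v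

/-- The quasi-reflection attached to a vector. -/
def qr [DecidableEq κ] (τ : F ≃+* F) (d : κ → F) (c : F) : Matrix κ κ F := 1 + c • Matrix.vecMulVec d (⇑τ ∘ d)

theorem IsIso.mul {A B : Matrix κ κ F} (hA : IsIso τ A) (hB : IsIso τ B) : IsIso τ (A * B) := fun u v => by
  rw [← Matrix.mulVec_mulVec, ← Matrix.mulVec_mulVec, hA, hB]

theorem hadj_apply (A : Matrix κ κ F) (i j : κ) : hadj τ A i j = τ (A j i) := rfl

theorem hadj_mul (A B : Matrix κ κ F) : hadj τ (A * B) = hadj τ B * hadj τ A := by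
  ext i j
  simp only [hadj_apply, Matrix.mul_apply, map_sum, map_mul]
  exact Finset.sum_congr rfl fun _ _ => mul_comm _ _

theorem IsIso.hadj_mul_self [DecidableEq κ] (hτ : Conj τ) {A : Matrix κ κ F} (hA : IsIso τ A) : hadj τ A * A = 1 := by
  ext i j
  have h := hA (Pi.single j 1) (Pi.single i 1)
  rw [hd_single_right, map_one, mul_one, Matrix.mulVec_single_one, Matrix.mulVec_single_one] at h
  rw [Pi.single_apply] at h
  rw [Matrix.mul_apply, Matrix.one_apply, ← h, hd_apply]
  exact Finset.sum_congr rfl fun _ _ => mul_comm _ _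

theorem qr_mulVec [DecidableEq κ] (d : κ → F) (c : F) (u : κ → F) : qr τ d c *ᵥ u = u + (c * hd τ u d) • d := by
  rw [qr, Matrix.add_mulVec, Matrix.one_mulVec, Matrix.smul_mulVec, Matrix.vecMulVec_mulVec, op_smul_eq_smul, smul_smul,
    dotProduct_comm]
  rfl

theorem isIso_qr [DecidableEq κ] (hτ : Conj τ) {d : κ → F} {c : F} (hc : c + τ c + c * τ c * hd τ d d = 0) :
    IsIso τ (qr τ d c) := by
  intro u v
  simp only [qr_mulVec, hd_add_left, hd_add_right, hd_smul_left, hd_smul_right, map_mul, hτ.hd_conj]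
  linear_combination (hd τ u d * hd τ d v) * hc

theorem det_qr [DecidableEq κ] (d : κ → F) (c : F) : (qr τ d c).det = 1 + c * hd τ d d := by
  rw [qr, show c • Matrix.vecMulVec d (⇑τ ∘ d) = Matrix.vecMulVec (c • d) (⇑τ ∘ d) from (Matrix.smul_vecMulVec _ _ _).symm,
    Matrix.vecMulVec_eq Unit, Matrix.det_one_add_replicateCol_mul_replicateRow, dotProduct_smul, dotProduct_comm]
  rfl

theorem hadj_qr [DecidableEq κ] (hτ : Conj τ) (d : κ → F) (c : F) : hadj τ (qr τ d c) = qr τ d (τ c) := by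
  ext i j
  simp [hadj_apply, qr, Matrix.one_apply, Matrix.vecMulVec_apply, hτ.invol, apply_ite τ, eq_comm (a := i),
    mul_left_comm, mul_comm]

theorem hadj_diagonal [DecidableEq κ] (φ : κ → F) : hadj τ (Matrix.diagonal φ) = Matrix.diagonal (⇑τ ∘ φ) := by
  ext i j
  rcases eq_or_ne i j with rfl | h
  · simp [hadj_apply]
  · simp [hadj_apply, h, h.symm]

theorem isIso_diagonal [DecidableEq κ] {φ : κ → F} (h : ∀ i, φ i * τ (φ i) = 1) : IsIso τ (Matrix.diagonal φ) := by
  intro u v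
  simp only [hd_apply, Matrix.mulVec_diagonal, map_mul]
  exact Finset.sum_congr rfl fun i _ => by linear_combination (u i * τ (v i)) * h i

namespace Conj

variable (hτ : Conj τ)

include hτ

/-- A space of singular vectors is totally singular. -/
theorem polar {S : Submodule F (κ → F)} (h : ∀ y ∈ S, hd τ y y = 0) {y z : κ → F} (hy : y ∈ S) (hz : z ∈ S) :
    hd τ y z = 0 := by
  by_contra hyz
  obtain ⟨c, hc⟩ : ∃ c : F, c + τ c ≠ 0 := by
    by_contra hcon
    push Not at hcon
    have h11 : (1 : F) + 1 = 0 := by have := hcon 1; rwa [map_one] at this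
    refine hτ.ne (RingEquiv.ext fun a => ?_)
    show τ a = a
    linear_combination hcon a - a * h11
  refine hc ?_
  have h' := h _ (S.add_mem hy (S.smul_mem (τ (c / hd τ y z)) hz))
  simp only [hd_add_left, hd_add_right, hd_smul_left, hd_smul_right, h y hy, h z hz, ← hτ.hd_conj y z] at h'
  rw [hτ.invol, ← map_mul, div_mul_cancel₀ _ hyz] at h'
  linear_combination h' - div_mul_cancel₀ c hyz

variable [Fintype F]

/-- Vectors with given products and norm. -/
theorem exists_prescribed {k : ℕ} {v : Fin k → κ → F} (hv : LinearIndependent F v) (hk : 2 * k ≤ Fintype.card κ)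
    (p : Fin k → F) {ν : F} (hν : τ ν = ν)
    (hts : 2 * k < Fintype.card κ ∨ (∃ i j, hd τ (v i) (v j) ≠ 0) ∨ (∃ i, p i ≠ 0) ∨ ν = 0 := by
      first
      | exact Or.inl (by omega)
      | exact Or.inr (Or.inr (Or.inr rfl))) : ∃ z, (∀ i, hd τ z (v i) = p i) ∧ hd τ z z = ν := by
  obtain ⟨z₀, hz₀⟩ := hτ.exists_dual hv p
  by_cases hcon : ∀ y ∈ perp τ v, hd τ y y = 0
  · -- the perpendicular space is the totally singular span
    by_cases hz : ∀ y ∈ perp τ v, hd τ z₀ y = 0
    · refine ⟨z₀, hz₀, ?_⟩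
      let b := Module.finBasis F (perp τ v)
      have hbli : LinearIndependent F fun i => (b i : κ → F) :=
        b.linearIndependent.map' (perp τ v).subtype (Submodule.ker_subtype _)
      have hle : perp τ v ≤ perp τ fun i => (b i : κ → F) := fun y hy => mem_perp.2 fun i => hτ.polar hcon hy (b i).2
      have h1 := Submodule.finrank_mono hle
      have h2 := hτ.finrank_perp hbli
      have h3 := hτ.finrank_perp hv
      have heq : perp τ v = perp τ fun i => (b i : κ → F) := Submodule.eq_of_le_of_finrank_eq hle (by omega)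
      have hz₀P : z₀ ∈ perp τ v := heq ▸ mem_perp.2 fun i => hz _ (b i).2
      have hvP : ∀ i, v i ∈ perp τ v := fun i => heq ▸ mem_perp.2 fun l => hτ.hd_symm_zero (mem_perp.1 (b l).2 i)
      rcases hts with h | ⟨i, j, h⟩ | ⟨i, h⟩ | h
      · omega
      · exact absurd (hτ.polar hcon (hvP i) (hvP j)) h
      · exact absurd ((hz₀ i).symm.trans (hτ.polar hcon hz₀P (hvP i))) h
      · rw [h]; exact hcon _ hz₀P
    push Not at hz
    obtain ⟨y, hy, hzy⟩ := hz
    obtain ⟨l, hl⟩ := hτ.exists_trace (c := ν - hd τ z₀ z₀) (by rw [map_sub, hν, hτ.self_fixed])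
    refine ⟨z₀ + (τ (l / hd τ z₀ y)) • y, fun i => by
      rw [hd_add_left, hd_smul_left, hz₀, mem_perp.1 hy i, mul_zero, add_zero], ?_⟩
    simp only [hd_add_left, hd_add_right, hd_smul_left, hd_smul_right, hτ.invol, hcon y hy, mul_zero, add_zero,
      div_mul_cancel₀ _ hzy, show τ (l / hd τ z₀ y) * hd τ y z₀ = τ l by
        rw [← hτ.hd_conj z₀ y, ← map_mul, div_mul_cancel₀ _ hzy]]
    linear_combination hl
  push Not at hcon
  obtain ⟨y, hy, hyy⟩ := hcon
  set N := hd τ y y with hN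
  set h := hd τ z₀ y with hh
  have hNf : τ N = N := hτ.self_fixed y
  obtain ⟨s, hs⟩ := hτ.exists_norm (c := (ν - hd τ z₀ z₀ + h * τ h / N) / N) (by
    simp only [map_div₀, map_add, map_sub, map_mul, hν, hτ.self_fixed, hNf, hτ.invol, mul_comm (τ h)])
  refine ⟨z₀ + (s - h / N) • y, fun i => by rw [hd_add_left, hd_smul_left, hz₀, mem_perp.1 hy i, mul_zero, add_zero], ?_⟩
  simp only [hd_add_left, hd_add_right, hd_smul_left, hd_smul_right, ← hτ.hd_conj z₀ y, ← hN, ← hh, map_sub, map_div₀, hNf]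
  have e : s * τ s * N = ν - hd τ z₀ z₀ + h * τ h / N := by rw [hs, div_mul_cancel₀ _ hyy]
  field_simp
  field_simp at e
  linear_combination e

omit [Fintype F] in
theorem exists_perp_nonsing [DecidableEq κ] (h2 : 2 ≤ Fintype.card κ) {v : κ → F} (hv : hd τ v v ≠ 0) :
    ∃ r, hd τ r v = 0 ∧ hd τ r r ≠ 0 := by
  by_contra hcon
  push Not at hcon
  have hmem : ∀ y, y ∈ perp τ ![v] ↔ hd τ y v = 0 := fun y => by simp [mem_perp, Fin.forall_fin_one]
  obtain ⟨r, hr, hr0⟩ := (perp τ ![v]).exists_mem_ne_zero_of_ne_bot fun e => by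
    have := le_finrank_perp (τ := τ) ![v]
    rw [e, finrank_bot] at this
    omega
  refine hr0 (hτ.eq_zero_of_forall fun x => ?_)
  have h := hτ.polar (fun y hy => hcon y ((hmem y).1 hy)) hr
    ((hmem (x - (hd τ x v / hd τ v v) • v)).2 (by rw [hd_sub_left, hd_smul_left, div_mul_cancel₀ _ hv, sub_self]))
  rwa [hd_sub_right, hd_smul_right, (hmem r).1 hr, mul_zero, sub_zero] at h

omit [Fintype F] in
/-- A unit of norm one other than the two roots of unity. -/
theorem exists_phase : ∃ ζ : F, ζ * τ ζ = 1 ∧ ζ * ζ ≠ 1 := by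
  obtain ⟨x, hx1, hx2⟩ : ∃ x : F, τ x ≠ x ∧ τ x ≠ -x := by
    by_contra hcon
    push Not at hcon
    obtain ⟨ω, hω⟩ : ∃ ω : F, τ ω ≠ ω := by
      by_contra h
      push Not at h
      exact hτ.ne (RingEquiv.ext h)
    have h1 := hcon ω hω
    have h2 := hcon (ω + 1) (by rw [map_add, map_one]; exact fun e => hω (add_right_cancel e))
    rw [map_add, map_one, h1] at h2
    exact hω (by rw [h1]; linear_combination (-ω) * h2)
  have hx0 : x ≠ 0 := fun e => hx1 (by rw [e, map_zero])
  have hτx : τ x ≠ 0 := by simpa using hx0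
  refine ⟨x / τ x, by rw [map_div₀, hτ.invol, div_mul_div_comm, mul_comm x, div_self (mul_ne_zero hτx hx0)], fun h => ?_⟩
  rw [div_mul_div_comm, div_eq_one_iff_eq (mul_ne_zero hτx hτx)] at h
  rcases mul_self_eq_mul_self_iff.1 h with e | e
  · exact hx1 e.symm
  · exact hx2 (by linear_combination e)

/-- Fixed scalars are sums of two squares of fixed scalars. -/
theorem exists_sq_add_sq {s : F} (hs : τ s = s) : ∃ a b : F, τ a = a ∧ τ b = b ∧ a * a + b * b = s := by
  classical
  let K := RingHom.eqLocusField (τ : F →+* F) (RingHom.id F)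
  haveI := Fintype.ofFinite K
  obtain ⟨p, hp⟩ := CharP.exists K
  haveI : Fact p.Prime := ⟨CharP.char_is_prime K p⟩
  haveI : ExpChar K p := ExpChar.prime Fact.out
  suffices h : ∃ a b : K, a * a + b * b = ⟨s, hs⟩ by
    obtain ⟨a, b, h⟩ := h
    exact ⟨a, b, a.2, b.2, congrArg Subtype.val h⟩
  rcases eq_or_ne p 2 with rfl | hp2
  · obtain ⟨a, ha⟩ := Finite.injective_iff_surjective.1 (frobenius_inj K 2) ⟨s, hs⟩
    exact ⟨a, 0, by rw [← ha, frobenius_def, mul_zero, add_zero, sq]⟩
  · have hodd : Fintype.card K % 2 = 1 := FiniteField.odd_card_of_char_ne_two (by rw [ringChar.eq K p]; exact hp2)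
    obtain ⟨a, b, h⟩ := @FiniteField.exists_root_sum_quadratic K _ _ _ (Polynomial.X ^ 2)
      (Polynomial.X ^ 2 - Polynomial.C ⟨s, hs⟩) (Polynomial.degree_X_pow 2)
      (Polynomial.degree_X_pow_sub_C (by decide) _) hodd
    exact ⟨a, b, by simp only [Polynomial.eval_sub, Polynomial.eval_pow, Polynomial.eval_X, Polynomial.eval_C] at h
                    linear_combination h⟩

omit [Fintype F] in
/-- Non-singular vectors are equivalent up to scalars. -/
theorem exists_transitive [Fintype F] [DecidableEq κ] (h2 : 2 ≤ Fintype.card κ) {u v : κ → F} (hu : hd τ u u ≠ 0)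
    (hv : hd τ v v ≠ 0) : ∃ (A : Matrix κ κ F) (c : F), IsIso τ A ∧ A.det = 1 ∧ c ≠ 0 ∧ A *ᵥ u = c • v := by
  obtain ⟨t, ht⟩ := hτ.exists_norm (c := hd τ u u / hd τ v v) (by rw [map_div₀, hτ.self_fixed, hτ.self_fixed])
  have ht0 : t ≠ 0 := fun e => by
    rw [e, zero_mul, eq_comm, div_eq_zero_iff] at ht
    exact ht.elim hu hv
  obtain ⟨ζ, hζ, hζ1⟩ := hτ.exists_phase
  have hζ0 : ζ ≠ 0 := fun e => by rw [e, zero_mul] at hζ; exact zero_ne_one hζ
  -- a multiple of the target of the same norm and not too close to the source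
  obtain ⟨c, hc0, hcn, hch⟩ : ∃ c : F, c ≠ 0 ∧ hd τ (c • v) (c • v) = hd τ u u ∧ hd τ u (c • v - u) ≠ 0 := by
    have hn : ∀ c : F, c * τ c = t * τ t → hd τ (c • v) (c • v) = hd τ u u := fun c hc => by
      rw [hd_smul_left, hd_smul_right, ← mul_assoc, hc, ht, div_mul_cancel₀ _ hv]
    by_cases h : hd τ u (t • v - u) = 0
    · refine ⟨ζ * t, mul_ne_zero hζ0 ht0, hn _ (by rw [map_mul]; linear_combination (t * τ t) * hζ), fun h' => ?_⟩
      simp only [hd_sub_right, hd_smul_right, map_mul] at h h'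
      have h3 : (τ ζ - 1) * hd τ u u = 0 := by linear_combination h' - τ ζ * h
      have h4 : τ ζ = 1 := sub_eq_zero.1 ((mul_eq_zero.1 h3).resolve_right hu)
      rw [h4, mul_one] at hζ
      exact hζ1 (by rw [hζ, mul_one])
    · exact ⟨t, ht0, hn t rfl, h⟩
  set d := c • v - u with hd'
  set h := hd τ u d with hh
  have hdd : hd τ d d = -(h + τ h) := by
    rw [hh, hd', hτ.hd_conj]
    simp only [hd_sub_left, hd_sub_right, hcn]
    ring
  have hiso : h⁻¹ + τ h⁻¹ + h⁻¹ * τ h⁻¹ * hd τ d d = 0 := by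
    have hτh : τ h ≠ 0 := by simpa using hch
    rw [hdd, map_inv₀]
    field_simp
    ring
  set δ := (qr τ d h⁻¹).det with hδ
  have hδn : δ * τ δ = 1 := by
    rw [hδ, det_qr, map_add, map_one, map_mul, hτ.self_fixed]
    linear_combination hd τ d d * hiso
  obtain ⟨r, hrv, hrr⟩ := hτ.exists_perp_nonsing h2 hv
  have hδ0 : δ ≠ 0 := fun e => by rw [e, zero_mul] at hδn; exact zero_ne_one hδn
  refine ⟨qr τ r ((τ δ - 1) / hd τ r r) * qr τ d h⁻¹, c, (isIso_qr hτ ?_).mul (isIso_qr hτ hiso), ?_, hc0, ?_⟩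
  · rw [map_div₀, map_sub, map_one, hτ.invol, hτ.self_fixed]
    field_simp
    linear_combination hδn
  · rw [Matrix.det_mul, ← hδ, det_qr, div_mul_cancel₀ _ hrr, add_sub_cancel, mul_comm, hδn]
  · rw [← Matrix.mulVec_mulVec, qr_mulVec d, ← hh, inv_mul_cancel₀ hch, one_smul, hd', add_sub_cancel, qr_mulVec,
      hd_smul_left, hτ.hd_symm_zero hrv, mul_zero, mul_zero, zero_smul, add_zero]

/-- Vectors of equal norm are linked by transvections. -/
theorem move_induction (h4 : 4 ≤ Fintype.card κ) {P : (κ → F) → Prop}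
    (hP : ∀ x v (k : F), hd τ v v = 0 → τ k = -k → P x → P (x + (k * hd τ x v) • v))
    {a b : κ → F} (ha : a ≠ 0) (hb : b ≠ 0) (hab : hd τ a a = hd τ b b) (h : P a) : P b := by
  classical
  obtain ⟨ε, hε0, hε⟩ := hτ.exists_skew
  have hpair : ∀ a b : κ → F, LinearIndependent F ![a, b] → hd τ a a = hd τ b b → P a → P b := by
    intro a b hli hab h
    set N := hd τ a a
    obtain ⟨z, hz, hzz⟩ := hτ.exists_prescribed hli (by omega) (fun _ => N + ε) (hτ.self_fixed a) (by
      by_cases hN : N = 0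
      · exact Or.inr (Or.inr (Or.inl ⟨0, by rwa [hN, zero_add]⟩))
      · exact Or.inr (Or.inl ⟨0, 0, hN⟩))
    have hza : hd τ z a = N + ε := hz 0
    have hzb : hd τ z b = N + ε := hz 1
    have haz : hd τ a z = N - ε := by rw [← hτ.hd_conj, hza, map_add, hτ.self_fixed, hε, sub_eq_add_neg]
    have hbz : hd τ b z = N - ε := by rw [← hτ.hd_conj, hzb, map_add, hτ.self_fixed, hε, sub_eq_add_neg]
    have h1 := hP a (z - a) (-ε⁻¹) (by simp only [hd_sub_left, hd_sub_right, hza, haz, hzz]; ring)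
      (by rw [map_neg, map_inv₀, hε, inv_neg, neg_neg]) h
    rw [hd_sub_right, haz, show -ε⁻¹ * (N - ε - hd τ a a) = 1 by field_simp; ring, one_smul, add_sub_cancel] at h1
    have h2 := hP z (b - z) ε⁻¹ (by simp only [hd_sub_left, hd_sub_right, hzb, hbz, hzz, ← hab]; ring)
      (by rw [map_inv₀, hε, inv_neg]) h1
    rwa [hd_sub_right, hzb, hzz, add_sub_cancel_left, inv_mul_cancel₀ hε0, one_smul, add_sub_cancel] at h2
  have hli2 : ∀ {x y : κ → F}, x ≠ 0 → y ∉ F ∙ x → LinearIndependent F ![x, y] := fun {x y} hx hy =>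
    (LinearIndependent.pair_iff' hx).2 fun r hr => hy (Submodule.mem_span_singleton.2 ⟨r, hr⟩)
  by_cases hba : b ∈ F ∙ a
  · obtain ⟨c, hcc, hca⟩ : ∃ c, hd τ c c = hd τ a a ∧ c ∉ F ∙ a := by
      obtain ⟨z, hz, hzz⟩ := hτ.exists_prescribed (v := ![a]) (LinearIndependent.of_subsingleton (ι := Fin 1) 0 ha)
        (by omega) (fun _ => if hd τ a a = 0 then 1 else 0) (hτ.self_fixed a)
      refine ⟨z, hzz, fun hm => ?_⟩
      obtain ⟨m, rfl⟩ := Submodule.mem_span_singleton.1 hm
      have h1 : m * hd τ a a = if hd τ a a = 0 then 1 else 0 := (hd_smul_left m a a).symm.trans (hz 0)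
      split_ifs at h1 with h0
      · rw [h0, mul_zero] at h1; exact zero_ne_one h1
      · rw [hd_smul_left, hd_smul_right, (mul_eq_zero.1 h1).resolve_right h0, zero_mul] at hzz
        exact h0 hzz.symm
    have hc0 : c ≠ 0 := fun e => hca (e ▸ zero_mem _)
    have hbc : b ∉ F ∙ c := fun hm => by
      obtain ⟨r, rfl⟩ := Submodule.mem_span_singleton.1 hm
      refine hca ?_
      have hr : r ≠ 0 := fun e => hb (by rw [e, zero_smul])
      have := (F ∙ a).smul_mem r⁻¹ hba
      rwa [inv_smul_smul₀ hr] at this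
    exact hpair c b (hli2 hc0 hbc) (hcc.trans hab) (hpair a c (hli2 ha hca) hcc.symm h)
  · exact hpair a b (hli2 ha hba) hab h

end Conj

end CfsgLib.TensorMax.Unitary
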