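import Cfsg.Agent.Lib.TensorMax.Unitary.Touch

/-!
Singular lines opposite to all images: the maps permuting them, their fixed vectors, and the general rank.
-/

set_option autoImplicit false

namespace CfsgLib.TensorMax.Unitary

open scoped Matrix
open CfsgLib.FieldMax (Mem map_unit_inj inv_apply_apply apply_inv_apply)

variable {F : Type*} [Field F] [Fintype F] {α β : Type} [Fintype α] [Fintype β] [DecidableEq α] [DecidableEq β]

local notation "VV" => Matrix α β F

variable {τ : F ≃+* F}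

/-- Three points of a projective line go to lines: so does every point. -/
theorem line_of_three (hα : 0 < Fintype.card α) (g : (Module.End F VV)ˣ) {a b ba bb bc : β → F} {k r : F}
    (hk : k ≠ 0) (hab : a ∉ F ∙ b) (hba : ba ≠ 0) (hbb : bb ≠ 0)
    (ha : (line (α := α) a).map (g : Module.End F VV) ≤ line ba) (hb : (line (α := α) b).map (g : Module.End F VV) ≤ line bb)
    (hc : (line (α := α) (a + k • b)).map (g : Module.End F VV) ≤ line bc) :
    ∃ w', w' ≠ 0 ∧ (line (α := α) (a + r • b)).map (g : Module.End F VV) ≤ line w' := by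
  have hsplit : ∀ (s : F) u, (g : Module.End F VV) (inj (a + s • b) u) = (g : Module.End F VV) (inj a u) + s • (g : Module.End F VV) (inj b u) := by
    intro s u; rw [inj_add_left, inj_smul_left, map_add, map_smul]
  by_cases hind : ba ∈ F ∙ bb
  · refine ⟨bb, hbb, ?_⟩
    rintro _ ⟨_, ⟨u, rfl⟩, rfl⟩
    rw [hsplit]
    exact add_mem (line_le_line hind (ha (Submodule.mem_map_of_mem (inj_mem_line _ _))))
      (Submodule.smul_mem _ _ (hb (Submodule.mem_map_of_mem (inj_mem_line _ _))))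
  obtain ⟨φ₁, h10, h11⟩ := exists_ann_dot hind
  have hind' : bb ∉ F ∙ ba := fun h => by
    obtain ⟨t, ht⟩ := Submodule.mem_span_singleton.1 h
    have ht0 : t ≠ 0 := fun e => hbb (by rw [← ht, e, zero_smul])
    exact hind (Submodule.mem_span_singleton.2 ⟨t⁻¹, by rw [← ht, inv_smul_smul₀ ht0]⟩)
  obtain ⟨φ₂, h20, h21⟩ := exists_ann_dot hind'
  have hA : ∀ u, ∃ v, inj ba v = (g : Module.End F VV) (inj a u) := fun u => ha (Submodule.mem_map_of_mem (inj_mem_line _ u))
  have hB : ∀ u, ∃ v, inj bb v = (g : Module.End F VV) (inj b u) := fun u => hb (Submodule.mem_map_of_mem (inj_mem_line _ u))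
  choose A hA using hA
  choose B hB using hB
  have hC : ∀ u, ∃ v, inj bc v = inj ba (A u) + k • inj bb (B u) := fun u => by
    obtain ⟨v, hv⟩ := hc (Submodule.mem_map_of_mem (inj_mem_line _ u))
    exact ⟨v, by rw [hv, hsplit, hA, hB]⟩
  have hcon : ∀ (φ : β → F) u, ∃ v, (bc ⬝ᵥ φ) • v = (ba ⬝ᵥ φ) • A u + k • (bb ⬝ᵥ φ) • B u ∧ inj bc v = inj ba (A u) + k • inj bb (B u) := by
    intro φ u
    obtain ⟨v, hv⟩ := hC u
    refine ⟨v, ?_, hv⟩
    have := congrArg (fun T : VV => T *ᵥ φ) hv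
    simpa [Matrix.add_mulVec, Matrix.smul_mulVec, contr_inj] using this
  obtain ⟨i₀⟩ : Nonempty α := Fintype.card_pos_iff.1 hα
  have h1 : bc ⬝ᵥ φ₁ ≠ 0 := by
    intro e
    obtain ⟨v, hv, -⟩ := hcon φ₁ (Pi.single i₀ 1)
    rw [e, h10, h11, zero_smul, one_smul, zero_smul, smul_zero, add_zero] at hv
    have h3 := hA (Pi.single i₀ 1)
    rw [← hv, map_zero] at h3
    have ha0 : a ≠ 0 := fun e => hab (e ▸ zero_mem _)
    have h4 := inj_injective ha0 ((map_unit_inj g (h3.symm.trans (map_zero _).symm)).trans (map_zero _).symm)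
    simpa using congrFun h4 i₀
  refine ⟨ba + (r * (bc ⬝ᵥ φ₂) / (k * (bc ⬝ᵥ φ₁))) • bb, fun e => ?_, ?_⟩
  · have := congrArg (· ⬝ᵥ φ₁) e
    simp [h10, h11] at this
  rintro _ ⟨_, ⟨u, rfl⟩, rfl⟩
  rw [hsplit, ← hA, ← hB]
  obtain ⟨v, hv1, hv⟩ := hcon φ₁ u
  obtain ⟨v', hv2, hv'⟩ := hcon φ₂ u
  rw [h10, h11, one_smul, zero_smul, smul_zero, add_zero] at hv1
  rw [h20, h21, one_smul, zero_smul, zero_add] at hv2
  have hbc : bc ≠ 0 := fun e => h1 (by rw [e, zero_dotProduct])
  rw [inj_injective hbc (hv'.trans hv.symm)] at hv2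
  refine ⟨A u, ?_⟩
  have hBu : B u = ((bc ⬝ᵥ φ₂) / (k * (bc ⬝ᵥ φ₁))) • A u := by
    rw [← hv1, smul_smul]
    calc B u = k⁻¹ • k • B u := (inv_smul_smul₀ hk _).symm
      _ = ((bc ⬝ᵥ φ₂) / k) • v := by rw [← hv2, smul_smul, div_eq_inv_mul]
      _ = _ := by congr 1; field_simp
  rw [hBu, map_smul, inj_add_left, inj_smul_left, smul_smul]
  congr 2
  ring

/-- Every vector is a combination of two isotropic ones. -/
theorem Conj.exists_sum_two {κ : Type} [Fintype κ] (hτ : Conj τ) (hn : 4 ≤ Fintype.card κ) (v : κ → F) :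
    ∃ (a b : κ → F) (r : F), hd τ a a = 0 ∧ hd τ b b = 0 ∧ v = a + r • b := by
  by_cases hv : hd τ v v = 0
  · exact ⟨v, 0, 0, hv, hd_zero_left _, by simp⟩
  obtain ⟨b, hb, hvb⟩ : ∃ b, hd τ b b = 0 ∧ hd τ v b ≠ 0 := by
    by_contra hcon
    push Not at hcon
    exact hv (hτ.induction_isotropic hn (P := fun y => hd τ v y = 0)
      (fun a b ha hb => by rw [hd_add_right, ha, hb, add_zero]) (fun c a ha => by rw [hd_smul_right, ha, mul_zero]) hcon v)
  obtain ⟨l, hl⟩ := hτ.exists_trace (c := hd τ v v) (hτ.self_fixed v)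
  refine ⟨v - τ (l / hd τ v b) • b, b, τ (l / hd τ v b), ?_, hb, (sub_add_cancel _ _).symm⟩
  simp only [hd_sub_left, hd_sub_right, hd_smul_left, hd_smul_right, hb, hτ.invol, mul_zero, sub_zero,
    ← hτ.hd_conj v b]
  rw [div_mul_cancel₀ _ hvb, ← map_mul, div_mul_cancel₀ _ hvb]
  linear_combination -hl

/-- A map sending singular lines into lines respects the factorisation. -/
theorem factor_of_singular (hτ : Conj τ) (hn : 4 ≤ Fintype.card β) (hα : 0 < Fintype.card α) (g : (Module.End F VV)ˣ)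
    (h : ∀ w : β → F, w ≠ 0 → hd τ w w = 0 → ∃ w', w' ≠ 0 ∧ (line (α := α) w).map (g : Module.End F VV) ≤ line w') :
    Factor (g : Module.End F VV) := by
  refine factor_of_lines hα g fun v hv0 => ?_
  by_cases hv : hd τ v v = 0
  · exact h v hv0 hv
  obtain ⟨a, b, r, ha, hb, rfl⟩ := hτ.exists_sum_two hn v
  have hb0 : b ≠ 0 := fun e => hv (by rw [e, smul_zero, add_zero]; exact ha)
  have ha0 : a ≠ 0 := fun e => hv (by rw [e, zero_add, hd_smul_left, hd_smul_right, hb, mul_zero, mul_zero])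
  have hab : a ∉ F ∙ b := fun hm => by
    obtain ⟨t, rfl⟩ := Submodule.mem_span_singleton.1 hm
    exact hv (by rw [← add_smul, hd_smul_left, hd_smul_right, hb, mul_zero, mul_zero])
  obtain ⟨k, hk, hc⟩ := CfsgLib.Maximal.un_iso_comb hτ.isUnitaryForm ha hb
  obtain ⟨ba, hba, hA⟩ := h a ha0 ha
  obtain ⟨bb, hbb, hB⟩ := h b hb0 hb
  obtain ⟨bc, -, hC⟩ := h (a + k • b) (fun e => hab (Submodule.mem_span_singleton.2 ⟨-k, by
    rw [neg_smul]; exact (eq_neg_of_add_eq_zero_left e).symm⟩)) hc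
  exact line_of_three hα g hk hab hba hbb hA hB hC

namespace UExt

variable {M : Subgroup (Module.End F (Matrix α β F))ˣ} (hM : UExt τ M) (hN : ¬ NonRootU τ M)

include hM hN

/-- Images of singular lines are singular lines or opposite to all of them. -/
theorem opp {x : (Module.End F VV)ˣ} (hx : x ∈ M) {v w : β → F} (hv0 : v ≠ 0) (hv : hd τ v v = 0) (hw0 : w ≠ 0)
    (hw : hd τ w w = 0) (hnl : NL τ (x : Module.End F VV) v) {a : α → F}
    (ha : ct τ w ((x : Module.End F VV) (inj v a)) = 0) : a = 0 := by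
  by_contra ha0
  refine hN ((hM.touch_or_nonRoot hx hv0 hv hw0 hw hnl (j := 1) le_rfl ?_).elim id hM.nonRoot_of_touch)
  by_contra hlt
  have h1 : LinearMap.ker (ct τ w ∘ₗ (x : Module.End F VV) ∘ₗ inj (α := α) v) = ⊥ := Submodule.finrank_eq_zero.1 (by omega)
  exact ha0 ((Submodule.mem_bot F).1 (h1 ▸ (LinearMap.mem_ker.2 ha : a ∈ LinearMap.ker _)))

/-- If one singular line goes to a singular line, all do. -/
theorem lines_of_line {x : (Module.End F VV)ˣ} (hx : x ∈ M) {w : β → F} (hw0 : w ≠ 0) (hw : hd τ w w = 0)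
    (hl : ¬ NL τ (x : Module.End F VV) w) : ∀ v : β → F, v ≠ 0 → hd τ v v = 0 → ¬ NL τ (x : Module.End F VV) v := by
  have key : ∀ w v : β → F, w ≠ 0 → hd τ w w = 0 → v ≠ 0 → hd τ v v = 0 → hd τ v w = 0 →
      ¬ NL τ (x : Module.End F VV) w → ¬ NL τ (x : Module.End F VV) v := by
    intro w v hw0 hw hv0 hv hvw hl hnl
    simp only [NL, not_forall, not_not] at hl
    obtain ⟨r, hr, he⟩ := hl
    have hr0 : r ≠ 0 := fun e => by
      have h1 := finrank_map_line x hw0 (α := α)
      rw [he, e, line_zero, finrank_bot] at h1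
      have := hM.two_le
      omega
    obtain ⟨i₀⟩ : Nonempty α := Fintype.card_pos_iff.1 (by have := hM.two_le; omega)
    have h0 : ct τ r ((x : Module.End F VV) (inj v (Pi.single i₀ 1))) = 0 := by
      refine hM.conj.eq_zero_of_forall fun u => ?_
      obtain ⟨_, ⟨b, rfl⟩, hb⟩ := he ▸ inj_mem_line (α := α) r u
      rw [← th_inj_right hM.conj, ← hb, hM.iso x hx, th_inj_left hM.conj, ct_inj,
        show hd τ w v = 0 from hM.conj.hd_symm_zero hvw, zero_smul, hd_zero_right]
    simpa using congrFun (hM.opp hN hx hv0 hv hr0 hr hnl h0) i₀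
  intro v hv0 hv
  obtain ⟨z, hz0, hz, hzp⟩ := hM.conj.exists_isotropic_perp ![w, v] (by have := hM.four; omega)
  exact key z v hz0 hz hv0 hv (hM.conj.hd_symm_zero (hzp 1)) (key w z hw0 hw hz0 hz (hzp 0) hl)

/-- Outside the stabiliser some element moves every singular line off the singular lines. -/
theorem exists_nl {g : (Module.End F VV)ˣ} (hg : g ∈ M) (hn : ¬ Factor (g : Module.End F VV)) :
    ∀ w : β → F, w ≠ 0 → hd τ w w = 0 → NL τ (g : Module.End F VV) w := by
  intro w hw0 hw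
  by_contra hl
  refine hn (factor_of_singular hM.conj hM.four_le (by have := hM.two_le; omega) g fun v hv0 hv => ?_)
  have h := hM.lines_of_line hN hg hw0 hw hl v hv0 hv
  simp only [NL, not_forall, not_not] at h
  obtain ⟨r, -, he⟩ := h
  refine ⟨r, fun e => ?_, he.le⟩
  have h1 := finrank_map_line g hv0 (α := α)
  rw [he, e, line_zero, finrank_bot] at h1
  have := hM.two_le
  omega

omit hN in
/-- A unipotent element respecting the factorisation fixes a vector of a singular line, which it stabilises. -/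
theorem exists_fixed {X : (Module.End F VV)ˣ} (hX : X ∈ M) (hF : Factor (X : Module.End F VV))
    (hX2 : ((X : Module.End F VV) - 1) * ((X : Module.End F VV) - 1) = 0) :
    ∃ (w : β → F) (A : Matrix α α F) (u : α → F), w ≠ 0 ∧ hd τ w w = 0 ∧ u ≠ 0 ∧ A *ᵥ u = u ∧
      ∀ a, (X : Module.End F VV) (inj w a) = inj w (A *ᵥ a) := by
  obtain ⟨A₀, B₀, hAB⟩ := hF
  obtain ⟨p, hp⟩ := CharP.exists F
  haveI : Fact p.Prime := ⟨CharP.char_is_prime F p⟩
  haveI : ExpChar F p := ExpChar.prime Fact.out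
  obtain ⟨i₀⟩ : Nonempty α := Fintype.card_pos_iff.1 (by have := hM.two_le; omega)
  obtain ⟨j₀⟩ : Nonempty β := Fintype.card_pos_iff.1 (by have := hM.four; omega)
  have hpow : ∀ k : ℕ, ∀ T : VV, ((X : Module.End F VV) ^ k) T = A₀ ^ k * T * B₀ ^ k := by
    intro k
    induction k with
    | zero => intro T; simp
    | succ k ih =>
      intro T
      rw [pow_succ, Module.End.mul_apply, ih, hAB, pow_succ, pow_succ']
      simp only [Matrix.mul_assoc]
  have hXp : (X : Module.End F VV) ^ p = 1 := by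
    conv_lhs => rw [← add_sub_cancel 1 (X : Module.End F VV)]
    exact pow_char_one_add (F := F) p hX2
  have hent : ∀ i i' j j', (A₀ ^ p) i i' * (B₀ ^ p) j j' = if i = i' ∧ j = j' then 1 else 0 := by
    intro i i' j j'
    have h1 := congrFun (congrFun (hpow p (Matrix.single i' j 1)) i) j'
    rw [hXp, Module.End.one_apply, Matrix.single_apply] at h1
    rw [Matrix.mul_apply, Finset.sum_eq_single j] at h1
    · rw [Matrix.mul_apply, Finset.sum_eq_single i'] at h1
      · simp only [Matrix.single_apply, and_self, if_true, mul_one] at h1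
        rw [← h1]
        simp only [eq_comm]
      · intro b _ hb; simp [Matrix.single_apply, Ne.symm hb]
      · simp
    · intro b _ hb
      rw [Matrix.mul_apply, Finset.sum_eq_zero, zero_mul]
      intro c _; simp [Matrix.single_apply, Ne.symm hb]
    · simp
  set c := (A₀ ^ p) i₀ i₀ with hc
  have hcd := hent i₀ i₀ j₀ j₀
  simp only [and_self, if_true] at hcd
  have hc0 : c ≠ 0 := left_ne_zero_of_mul (hcd.symm ▸ one_ne_zero)
  have hd0 : (B₀ ^ p) j₀ j₀ ≠ 0 := right_ne_zero_of_mul (hcd.symm ▸ one_ne_zero)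
  have hBp : B₀ ^ p = c⁻¹ • 1 := by
    ext j j'
    have := hent i₀ i₀ j j'
    rw [Matrix.smul_apply, Matrix.one_apply, smul_eq_mul, ← mul_right_inj' hc0, this, ← mul_assoc, mul_inv_cancel₀ hc0]
    simp
  have hAp : A₀ ^ p = c • 1 := by
    ext i i'
    have := hent i i' j₀ j₀
    rw [Matrix.smul_apply, Matrix.one_apply, smul_eq_mul, ← mul_left_inj' hd0, this, hBp, Matrix.smul_apply,
      Matrix.one_apply_eq, smul_eq_mul, mul_one]
    split_ifs with h <;> simp_all
  obtain ⟨r, hr⟩ : ∃ r : F, r ^ p = c := by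
    obtain ⟨r, hr⟩ := Finite.injective_iff_surjective.1 (frobenius_inj F p) c
    exact ⟨r, by simpa [frobenius_def] using hr⟩
  have hr0 : r ≠ 0 := fun e => hc0 (by rw [← hr, e, zero_pow (Fact.out : p.Prime).ne_zero])
  set A := r⁻¹ • A₀ with hA
  set B := r • B₀ with hB
  have hXv : ∀ T, (X : Module.End F VV) T = A * T * B := fun T => by
    rw [hAB, hA, hB, Matrix.smul_mul, Matrix.smul_mul, Matrix.mul_smul, smul_smul, inv_mul_cancel₀ hr0, one_smul]
  have hA1 : A ^ p = 1 := by rw [hA, smul_pow, hAp, smul_smul, inv_pow, hr, inv_mul_cancel₀ hc0, one_smul]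
  have hB1 : B ^ p = 1 := by rw [hB, smul_pow, hBp, smul_smul, hr, mul_inv_cancel₀ hc0, one_smul]
  have hinj : ∀ w u, (X : Module.End F VV) (inj w u) = inj (w ᵥ* B) (A *ᵥ u) := fun w u => by
    rw [hXv, inj_apply, inj_apply, Matrix.mul_vecMulVec, Matrix.vecMulVec_mul]
  -- the second factor is an isometry
  have hprod : ∀ w w' u u', hd τ (w ᵥ* B) (w' ᵥ* B) * hd τ (A *ᵥ u) (A *ᵥ u') = hd τ w w' * hd τ u u' := by
    intro w w' u u'
    have h := hM.iso X hX (inj w u) (inj w' u' : VV)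
    rw [hinj, hinj, th_inj_left hM.conj, th_inj_left hM.conj, ct_inj, ct_inj, hd_smul_right, hd_smul_right,
      hM.conj.hd_conj, hM.conj.hd_conj] at h
    linear_combination h
  obtain ⟨μ, hμ⟩ : ∃ μ : F, ∀ w w', hd τ (w ᵥ* B) (w' ᵥ* B) = μ * hd τ w w' := by
    refine ⟨(hd τ (A *ᵥ Pi.single i₀ 1) (A *ᵥ Pi.single i₀ 1))⁻¹, fun w w' => ?_⟩
    have h := hprod w w' (Pi.single i₀ 1) (Pi.single i₀ 1)
    have h1 := hprod (Pi.single j₀ 1) (Pi.single j₀ 1) (Pi.single i₀ 1) (Pi.single i₀ 1)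
    simp only [hd_single_right, Pi.single_eq_same, map_one, mul_one] at h h1
    rw [← h, mul_comm (hd τ (w ᵥ* B) _), inv_mul_cancel_left₀ (right_ne_zero_of_mul (h1.symm ▸ one_ne_zero))]
  have hμ1 : μ = 1 := by
    have h : ∀ k : ℕ, hd τ (Pi.single j₀ 1 ᵥ* B ^ k) (Pi.single j₀ 1 ᵥ* B ^ k) = μ ^ k := by
      intro k
      induction k with
      | zero => simp [hd_single_right]
      | succ k ih => rw [pow_succ B, ← Matrix.vecMul_vecMul, hμ, ih, pow_succ']
    have h1 := h p
    rw [hB1, Matrix.vecMul_one, hd_single_right, Pi.single_eq_same, map_one, one_mul] at h1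
    exact frobenius_inj F p (by simp [frobenius_def, ← h1])
  haveI : Nonempty β := ⟨j₀⟩
  haveI : CharP (Matrix α α F) p := haveI : Nonempty α := ⟨i₀⟩; charP_of_injective_algebraMap' F p
  haveI : CharP (Matrix β β F) p := charP_of_injective_algebraMap' F p
  have hAn : (A - 1) ^ p = 0 := by
    rw [sub_pow_char_of_commute p (Commute.one_right A), hA1, one_pow, sub_self]
  haveI : Nonempty α := ⟨i₀⟩
  obtain ⟨u, hu0, hu⟩ : ∃ u : α → F, u ≠ 0 ∧ (A - 1) *ᵥ u = 0 := Matrix.exists_mulVec_eq_zero_iff.2 (by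
    have := congrArg Matrix.det hAn
    rw [Matrix.det_pow, Matrix.det_zero] at this
    exact pow_eq_zero_iff'.1 this |>.1)
  rw [Matrix.sub_mulVec, Matrix.one_mulVec, sub_eq_zero] at hu
  obtain ⟨w, hw0, hw, hwB⟩ : ∃ w, w ≠ 0 ∧ hd τ w w = 0 ∧ w ᵥ* B = w := by
    by_cases hB0 : B = 1
    · obtain ⟨w, hw0, hw, -⟩ := hM.conj.exists_isotropic_perp (fun i : Fin 0 => (0 : β → F)) (by have := hM.four; omega)
      exact ⟨w, hw0, hw, by rw [hB0, Matrix.vecMul_one]⟩
    set N := B - 1
    have hN0 : N ≠ 0 := sub_ne_zero.2 hB0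
    have hNn : N ^ p = 0 := by
      rw [show N = B - 1 from rfl, sub_pow_char_of_commute p (Commute.one_right B), hB1, one_pow, sub_self]
    obtain ⟨j, hj, hj'⟩ : ∃ j, N ^ (j + 1) ≠ 0 ∧ N ^ (j + 2) = 0 := by
      by_contra hcon
      push Not at hcon
      have : ∀ j, N ^ (j + 1) ≠ 0 := by
        intro j
        induction j with
        | zero => rwa [zero_add, pow_one]
        | succ j ih => exact hcon j ih
      exact this (p - 1) (by rw [Nat.sub_add_cancel (Fact.out : p.Prime).one_le]; exact hNn)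
    obtain ⟨y, hy⟩ : ∃ y, y ᵥ* N ^ (j + 1) ≠ 0 := by
      by_contra hcon
      push Not at hcon
      exact hj (Matrix.ext_of_single_vecMul fun i => by rw [hcon, Matrix.vecMul_zero])
    set z := y ᵥ* N ^ (j + 1)
    have hzB : z ᵥ* B = z := by
      have : z ᵥ* N = 0 := by rw [Matrix.vecMul_vecMul, ← pow_succ, hj', Matrix.vecMul_zero]
      rwa [show N = B - 1 from rfl, Matrix.vecMul_sub, Matrix.vecMul_one, sub_eq_zero] at this
    refine ⟨z, hy, ?_, hzB⟩
    set y' := y ᵥ* N ^ j
    have hz : z = y' ᵥ* B - y' := by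
      rw [show z = y ᵥ* (N ^ j * N) by rw [← pow_succ], ← Matrix.vecMul_vecMul, show N = B - 1 from rfl,
        Matrix.vecMul_sub, Matrix.vecMul_one]
    have h1 : hd τ (y' ᵥ* B) (z ᵥ* B) = hd τ y' z := by rw [hμ, hμ1, one_mul]
    rw [hzB] at h1
    conv_lhs => arg 2; rw [hz]
    rw [hd_sub_left, h1, sub_self]
  exact ⟨w, A, u, hw0, hw, hu0, hu, fun a => by rw [hinj, hwB]⟩

/-- The family of a totally singular subspace has no zero pairing. -/
theorem nonRoot_large {g : (Module.End F VV)ˣ} (hg : g ∈ M) (hnl : ∀ w : β → F, w ≠ 0 → hd τ w w = 0 → NL τ (g : Module.End F VV) w)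
    (h5 : 5 ≤ Fintype.card α ∨ Fintype.card α = 3) (heq : Fintype.card β = Fintype.card α + 1) : False := by
  have hτ := hM.conj
  obtain ⟨w₀, hw00, hw0, -⟩ := hτ.exists_isotropic_perp (fun i : Fin 0 => (0 : β → F)) (by omega)
  obtain ⟨r, hr⟩ : ∃ r, r + 1 = Fintype.card β / 2 := ⟨Fintype.card β / 2 - 1, by omega⟩
  obtain ⟨W, -, hWli, hts⟩ := hτ.exists_ts hw00 hw0 r (by omega)
  obtain ⟨κ, hκ0, hκ⟩ := hτ.exists_skew
  obtain ⟨ω, hω⟩ : ∃ ω : F, τ ω ≠ ω := by
    by_contra hcon
    push Not at hcon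
    exact hτ.ne (RingEquiv.ext hcon)
  set m := Fintype.card α
  let e := Fintype.equivFin α
  let y : Fin m → VV := fun i => (g : Module.End F VV) (inj w₀ (Pi.single (e.symm i) 1))
  let Φ : (Fin (r + 1) × Fin (r + 1) → F) → Matrix (Fin m) (Fin m) F := fun x =>
    Matrix.of fun i j => th τ ((jg τ W (gx τ κ ω x) : Module.End F VV) (y i)) (y j)
  let P : Matrix (Fin m) (Fin m) (MvPolynomial (Fin (r + 1) × Fin (r + 1)) F) :=
    Matrix.of fun i j => linPoly fun p => th τ ((jg τ W (gb τ κ ω p) : Module.End F VV) (y i)) (y j)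
  have esum : ∀ {ι : Type} (s : Finset ι) (F' : ι → VV) (S : VV), th τ (∑ p ∈ s, F' p) S = ∑ p ∈ s, th τ (F' p) S := by
    intro ι s F' S
    classical
    induction s using Finset.induction with
    | empty => simp [th_zero_left]
    | @insert a s ha ih => rw [Finset.sum_insert ha, Finset.sum_insert ha, th_add_left, ih]
  set f : MvPolynomial (Fin (r + 1) × Fin (r + 1)) F := MvPolynomial.C (κ ^ m)⁻¹ * P.det with hf
  have hev : ∀ x, MvPolynomial.eval x f = (κ ^ m)⁻¹ * (Φ x).det := by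
    intro x
    rw [hf, map_mul, MvPolynomial.eval_C, RingHom.map_det]
    congr 2
    ext i j
    simp only [P, Φ, RingHom.mapMatrix_apply, Matrix.map_apply, Matrix.of_apply, eval_linPoly, jg_gx]
    rw [LinearMap.sum_apply, esum]
    exact Finset.sum_congr rfl fun p _ => by rw [LinearMap.smul_apply, th_smul_left, mul_comm]
  have hdeg : f.totalDegree < Fintype.card (Fin (r + 1) × Fin (r + 1)) := by
    have h1 : f.totalDegree ≤ ∑ _i : Fin m, 1 := by
      rw [hf]
      refine (MvPolynomial.totalDegree_mul _ _).trans ?_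
      rw [MvPolynomial.totalDegree_C, zero_add]
      exact totalDegree_det_le _ _ fun i j => totalDegree_linPoly _
    simp only [Finset.sum_const, Finset.card_univ, Fintype.card_fin, smul_eq_mul, mul_one] at h1
    rw [Fintype.card_prod, Fintype.card_fin]
    have h2 : 2 * (r + 1) + 1 ≥ Fintype.card β := by omega
    rcases h5 with h5 | h5
    · have h3 : 3 ≤ r + 1 := by omega
      nlinarith
    · have h3 : r = 1 := by omega
      subst h3
      omega
  haveI : Nonempty (Fin m) := ⟨⟨0, by omega⟩⟩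
  obtain ⟨x, hxr, hx0, hxe⟩ := hτ.exists_zero f hdeg (by
    rw [hev, show Φ 0 = 0 from ?_, Matrix.det_zero, mul_zero]
    ext i j; simp [Φ, gx, jg_zero, th_zero_left]) (fun x hx => by
    rw [hev, map_mul, map_inv₀, map_pow, hκ, RingEquiv.map_det]
    have : (τ : F ≃+* F).toRingHom.mapMatrix (Φ x) = -(Φ x)ᵀ := by
      ext i j
      simp [Φ, th_conj hτ]
      rw [th_jg hτ (skew_gx hτ hκ ω hx), neg_neg]
    show _ * ((τ : F ≃+* F).toRingHom.mapMatrix (Φ x)).det = _
    rw [this, Matrix.det_neg, Matrix.det_transpose, Fintype.card_fin, neg_pow κ m, mul_inv, ← inv_pow, inv_neg, inv_one]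
    have h1 : ((-1 : F) ^ m) * (-1) ^ m = 1 := by rw [← mul_pow]; simp
    linear_combination ((κ ^ m)⁻¹ * (Φ x).det) * h1)
  obtain ⟨c, hc0, hc⟩ : ∃ c : Fin m → F, c ≠ 0 ∧ c ᵥ* Φ x = 0 := by
    refine Matrix.exists_vecMul_eq_zero_iff.2 ?_
    rw [hev] at hxe
    exact (mul_eq_zero.1 hxe).resolve_left (inv_ne_zero (pow_ne_zero _ hκ0))
  set a₀ : α → F := fun a => c (e a)
  set J : Module.End F VV := jg τ W (gx τ κ ω x) with hJ
  obtain ⟨x₁, hx₁, ex₁⟩ := hM.mem_jg hts hκ ω hxr
  set X := g⁻¹ * x₁ * g with hX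
  have hXm : X ∈ M := mul_mem (mul_mem (inv_mem hg) hx₁) hg
  have hXv : ∀ T, (X : Module.End F VV) T = T + ((g⁻¹ : (Module.End F VV)ˣ) : Module.End F VV) (J ((g : Module.End F VV) T)) := by
    intro T
    simp [hX, Module.End.mul_apply, ex₁, hJ, inv_apply_apply]
  have hk : ct τ w₀ ((X : Module.End F VV) (inj w₀ a₀)) = 0 := by
    refine hτ.eq_zero_of_forall fun u => ?_
    have hexp : ∀ u : α → F, (inj w₀ u : VV) = ∑ i, u (e.symm i) • inj w₀ (Pi.single (e.symm i) 1) := by
      intro u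
      rw [e.symm.sum_comp (fun a => u a • inj w₀ (Pi.single a 1))]
      simp only [← map_smul, ← map_sum]
      congr 1
      ext a; simp [Pi.single_apply]
    rw [hXv, map_add, ct_inj, hw0, zero_smul, zero_add, ← th_inj_right hτ, ← hM.adj' hg, hexp u, hexp a₀]
    simp only [map_sum, map_smul]
    rw [esum]
    have esum' : ∀ {ι : Type} (s : Finset ι) (F' : ι → VV) (S : VV), th τ S (∑ p ∈ s, F' p) = ∑ p ∈ s, th τ S (F' p) := by
      intro ι s F' S
      classical
      induction s using Finset.induction with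
      | empty => simp [th_zero_right]
      | @insert a s ha ih => rw [Finset.sum_insert ha, Finset.sum_insert ha, th_add_right, ih]
    simp only [esum', th_smul_left, th_smul_right, Finset.mul_sum]
    rw [Finset.sum_comm]
    refine Finset.sum_eq_zero fun j _ => ?_
    have h := congrFun hc j
    simp only [Matrix.vecMul, dotProduct, Pi.zero_apply] at h
    rw [← mul_zero (τ (u (e.symm j))), ← h, Finset.mul_sum]
    exact Finset.sum_congr rfl fun i _ => by simp [a₀, Φ, y, hJ, mul_comm, mul_left_comm]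
  have hline : ¬ NL τ (X : Module.End F VV) w₀ := fun hnl' => hc0 (by
    have h := hM.opp hN hXm hw00 hw0 hw00 hw0 hnl' hk
    funext i
    simpa [a₀] using congrFun h (e.symm i))
  have hfac : Factor (X : Module.End F VV) := factor_of_singular hτ hM.four_le (by omega) X fun v hv0 hv => by
    have h := hM.lines_of_line hN hXm hw00 hw0 hline v hv0 hv
    simp only [NL, not_forall, not_not] at h
    obtain ⟨q, -, hq⟩ := h
    refine ⟨q, fun e' => ?_, hq.le⟩
    have h1 := finrank_map_line X hv0 (α := α)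
    rw [hq, e', line_zero, finrank_bot] at h1
    omega
  obtain ⟨w, A, u, hw0', hw', hu0, hu, hXw⟩ := hM.exists_fixed hXm hfac (by
    refine LinearMap.ext fun T => ?_
    have hJJ : ∀ S, J (J S) = 0 := fun S => LinearMap.congr_fun (jg_mul hts (gx τ κ ω x) (gx τ κ ω x)) S
    simp [Module.End.mul_apply, hXv, apply_inv_apply, hJJ])
  -- the fixed vector is orthogonal to a singular line
  set l := (g : Module.End F VV) (inj w u)
  have hl : J l = 0 := by
    have h := hXw u
    rw [hu, hXv, add_eq_left, ← map_zero ((g⁻¹ : (Module.End F VV)ˣ) : Module.End F VV)] at h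
    exact map_unit_inj g⁻¹ h
  obtain ⟨i, j, hij⟩ : ∃ i j, gx τ κ ω x i j ≠ 0 := by
    by_contra hcon
    push Not at hcon
    exact gx_ne_zero hτ hκ0 hω hxr hx0 (by ext i j; exact hcon i j)
  have hrow : ∑ j, gx τ κ ω x i j • ct τ (W j) l = 0 := by
    funext a
    rw [hJ, jg_apply] at hl
    have h1 : ∑ i', (∑ j, gx τ κ ω x i' j • ct τ (W j) l) a • W i' = 0 := by
      funext z
      have h := congrFun (congrFun hl a) z
      rw [Matrix.sum_apply] at h
      rw [Finset.sum_apply]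
      exact h
    exact Fintype.linearIndependent_iff.1 hWli _ h1 i
  set v := ∑ j, τ (gx τ κ ω x i j) • W j with hv
  have hvl : ct τ v l = 0 := by
    have e' : ∀ s : Finset (Fin (r + 1)), ct τ (∑ j ∈ s, τ (gx τ κ ω x i j) • W j) l =
        ∑ j ∈ s, gx τ κ ω x i j • ct τ (W j) l := by
      intro s
      induction s using Finset.induction with
      | empty => funext z; simp [ct_apply, hd_zero_right]
      | @insert a s ha ih => rw [Finset.sum_insert ha, Finset.sum_insert ha, ct_add, ct_smul, hτ.invol, ih]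
    rw [hv, e', hrow]
  have hvv : hd τ v v = 0 := by
    rw [hv, hd_sum_left]
    refine Finset.sum_eq_zero fun l' _ => ?_
    rw [hd_smul_left, show hd τ (W l') (∑ j, τ (gx τ κ ω x i j) • W j) = 0 from ?_, mul_zero]
    refine hτ.hd_symm_zero ?_
    rw [hd_sum_left]
    exact Finset.sum_eq_zero fun j _ => by rw [hd_smul_left, hts, mul_zero]
  have hv0 : v ≠ 0 := fun e' => hij (by simpa using Fintype.linearIndependent_iff.1 hWli _ e' j)
  exact hu0 (hM.opp hN hg hw0' hw' hv0 hvv (hnl w hw0' hw') hvl)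

/-- A second factor of larger dimension. -/
theorem eq_succ {g : (Module.End F VV)ˣ} (hg : g ∈ M) (hnl : ∀ w : β → F, w ≠ 0 → hd τ w w = 0 → NL τ (g : Module.End F VV) w) :
    Fintype.card β = Fintype.card α + 1 := by
  by_contra hne
  have := hM.lt
  have := hM.four
  obtain ⟨w₀, hw00, hw0, -⟩ := hM.conj.exists_isotropic_perp (fun i : Fin 0 => (0 : β → F)) (by omega)
  obtain ⟨i₀⟩ : Nonempty α := Fintype.card_pos_iff.1 (by have := hM.two_le; omega)
  set l := (g : Module.End F VV) (inj w₀ (Pi.single i₀ 1))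
  obtain ⟨z, hz0, hz, hzl⟩ := hM.conj.exists_isotropic_perp (fun i : Fin (Fintype.card α) => l ((Fintype.equivFin α).symm i))
    (by omega)
  have h := hM.opp hN hg hw00 hw0 hz0 hz (hnl w₀ hw00 hw0) (a := Pi.single i₀ 1) (funext fun a => by
    have := hM.conj.hd_symm_zero (hzl (Fintype.equivFin α a))
    simpa [ct_apply] using this)
  simpa using congrFun h i₀

end UExt

end CfsgLib.TensorMax.Unitary
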