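import Cfsg.Agent.Lib.TensorMax.Unitary.Pool
import Cfsg.Agent.Lib.TensorMax.Main
import Cfsg.Agent.Lib.Aschbacher.Forms

/-!
The stabiliser of a tensor decomposition into Hermitian spaces is maximal in the special unitary group.
-/

set_option autoImplicit false

namespace CfsgLib.TensorMax.Unitary

open scoped Matrix Kronecker
open CfsgLib.FieldMax (Mem map_unit_inj inv_apply_apply apply_inv_apply)
open CfsgLib.Maximal (tv tv_val tv_mulVec mem_specialLinear_iff fvec suGL UFull)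

variable {F : Type*} [Field F]

section forms

variable {α β : Type} [Fintype α] [Fintype β]

local notation "VV" => Matrix α β F

variable {τ : F ≃+* F}

theorem th_mulR {B : Matrix β β F} (hB : ∀ u v, hd τ (u ᵥ* B) (v ᵥ* B) = hd τ u v) (S T : VV) :
    th τ (S * B) (T * B) = th τ S T :=
  Finset.sum_congr rfl fun i _ => hB (S i) (T i)

theorem th_mulL_iso [DecidableEq α] (hτ : Conj τ) {A : Matrix α α F} (hA : IsIso τ A) (S T : VV) :
    th τ (A * S) (A * T) = th τ S T := by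
  rw [← mulL_apply, ← mulL_apply, eq_sum_rows S, map_sum, th_sum_left, th_sum_left]
  refine Finset.sum_congr rfl fun i _ => ?_
  rw [mulL_inj, th_inj_left hτ, th_inj_left hτ, ct_mulL, hA]

/-- An orthonormal basis of a unitary form. -/
theorem exists_basis [Fintype F] {k : ℕ} (hτ : Conj τ) {f : (Fin k → F) → (Fin k → F) → F}
    (hf : Cfsg.Geo.IsUnitaryForm τ f) :
    ∃ Q : GL (Fin k) F, (Q : Matrix (Fin k) (Fin k) F)ᵀ * Cfsg.Geo.gramMatrix f * (Q : Matrix (Fin k) (Fin k) F).map τ = 1 := by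
  let B : (Fin k → F) →ₛₗ[(τ : F →+* F)] (Fin k → F) →ₗ[F] F := LinearMap.mk₂'ₛₗ (τ : F →+* F) (RingHom.id F) (fun x y => f y x)
    (fun x x' y => by rw [hf.herm y, hf.add_left, map_add, ← hf.herm, ← hf.herm])
    (fun c x y => by rw [hf.herm y, hf.smul_left, map_mul, ← hf.herm]; rfl)
    (fun x y y' => hf.add_left y y' x)
    (fun c x y => hf.smul_left c y x)
  have hS : B.IsSymm := ⟨fun x y => (hf.herm x y).symm⟩
  have hnd : B.Nondegenerate := by
    have h1 : B.SeparatingLeft := fun x hx => by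
      by_contra hx0
      obtain ⟨⟨w, hw⟩, -⟩ := hf.nondegenerate x hx0
      exact hw (hx w)
    exact ⟨h1, fun y hy => by
      refine h1 y fun x => ?_
      rw [← hS.eq x y, hy x, map_zero]⟩
  obtain ⟨b, hb⟩ := CfsgLib.Geometry.exists_orthonormal (B := B) hτ.fun_ne hτ.invol hS hnd
  have hk : Module.finrank F (Fin k → F) = k := by simp
  let bb : Module.Basis (Fin k) F (Fin k → F) := b.reindex (finCongr hk)
  set N : Matrix (Fin k) (Fin k) F := Matrix.of fun i j => bb j i with hN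
  have hdet : N.det ≠ 0 := ((Matrix.isUnit_iff_isUnit_det _).1
    (Matrix.linearIndependent_cols_iff_isUnit.1 bb.linearIndependent)).ne_zero
  refine ⟨Matrix.GeneralLinearGroup.mkOfDetNeZero N hdet, ?_⟩
  ext i j
  refine (CfsgLib.Aschbacher.formOfGram_single τ _ i j).symm.trans ?_
  rw [← CfsgLib.Aschbacher.formOfGram_mulVec, ← CfsgLib.Aschbacher.unitary_eq_gram hf]
  show f (N *ᵥ Pi.single i 1) (N *ᵥ Pi.single j 1) = _
  rw [Matrix.mulVec_single_one, Matrix.mulVec_single_one]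
  have h := hb ((finCongr hk).symm j) ((finCongr hk).symm i)
  simp only [Equiv.apply_eq_iff_eq] at h
  rw [Matrix.one_apply]
  simp only [eq_comm (a := i)]
  rw [← h]
  simp [bb, hN, B]
  rfl

end forms

variable [Fintype F] {n q n₁ n₂ : ℕ}

local notation "hh" => Cfsg.hermForm n F q
local notation "MM" => Matrix (Fin n) (Fin n) F
local notation "WW" => Matrix (Fin n₁) (Fin n₂) F

/-- Coordinates in which the form is standard. -/
theorem exists_frame {τ : F ≃+* F} (hpow : ∀ x, τ x = x ^ q) (hf : Cfsg.Geo.IsUnitaryForm τ hh)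
    (e : Fin n ≃ Fin n₁ × Fin n₂) (P : GL (Fin n) F) (h1 : 0 < n₁) (h2 : 0 < n₂)
    {f₁ : (Fin n₁ → F) → (Fin n₁ → F) → F} {f₂ : (Fin n₂ → F) → (Fin n₂ → F) → F}
    (hf₁ : Cfsg.Geo.IsUnitaryFormPow q f₁) (hf₂ : Cfsg.Geo.IsUnitaryFormPow q f₂)
    (hT : Cfsg.Geo.IsTensorFormStructure (fun x : F => x ^ q) hh f₁ f₂ e P) :
    ∃ P' : GL (Fin n) F, Cfsg.Geo.tensorProductSubgroup n₁ n₂ e P' = Cfsg.Geo.tensorProductSubgroup n₁ n₂ e P ∧
      ∀ u v, hh u v = th τ (coord e P' u) (coord e P' v) := by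
  have hτ : Conj τ := ⟨hf.ne_refl, hf.involutive⟩
  have toU : ∀ {d : ℕ} {g : (Fin d → F) → (Fin d → F) → F}, Cfsg.Geo.IsUnitaryFormPow q g → Cfsg.Geo.IsUnitaryForm τ g :=
    fun {d g} h => ⟨hf.ne_refl, hf.involutive, h.add_left, h.smul_left, fun v w => by rw [hpow]; exact h.herm v w,
      h.nondegenerate⟩
  obtain ⟨c, hc0, hT⟩ := hT
  rw [show (fun x : F => x ^ q) = τ from funext fun x => (hpow x).symm] at hT
  obtain ⟨Q₁, hQ₁⟩ := exists_basis hτ (toU hf₁)
  obtain ⟨Q₂, hQ₂⟩ := exists_basis hτ (toU hf₂)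
  -- the scalar is fixed
  have hG : ∀ x y : Fin n₁ × Fin n₂ → F,
      Cfsg.Geo.formOfGram τ (Cfsg.Geo.gramMatrix f₁ ⊗ₖ Cfsg.Geo.gramMatrix f₂)
        (((Q₁ : Matrix (Fin n₁) (Fin n₁) F) ⊗ₖ (Q₂ : Matrix (Fin n₂) (Fin n₂) F)) *ᵥ x)
        (((Q₁ : Matrix (Fin n₁) (Fin n₁) F) ⊗ₖ (Q₂ : Matrix (Fin n₂) (Fin n₂) F)) *ᵥ y) = ∑ p, x p * τ (y p) := by
    intro x y
    rw [CfsgLib.Aschbacher.formOfGram_mulVec, ← Matrix.kroneckerMap_transpose,
      Matrix.kroneckerMap_map _ τ _ _, ← Matrix.mul_kronecker_mul]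
    rw [show Matrix.kroneckerMap (fun a b => τ (a * b)) (Q₁ : Matrix (Fin n₁) (Fin n₁) F) (Q₂ : Matrix (Fin n₂) (Fin n₂) F) =
        (Q₁ : Matrix (Fin n₁) (Fin n₁) F).map τ ⊗ₖ (Q₂ : Matrix (Fin n₂) (Fin n₂) F).map τ from Matrix.ext fun i j => by
        simp [Matrix.kroneckerMap_apply, map_mul]]
    rw [← Matrix.mul_kronecker_mul, hQ₁, hQ₂, Matrix.one_kronecker_one, CfsgLib.Aschbacher.formOfGram_eq,
      Matrix.one_mulVec]
    rfl
  have hcf : τ c = c := by
    let x : Fin n₁ × Fin n₂ → F := Pi.single (⟨0, h1⟩, ⟨0, h2⟩) 1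
    have h := hT (((Q₁ : Matrix (Fin n₁) (Fin n₁) F) ⊗ₖ (Q₂ : Matrix (Fin n₂) (Fin n₂) F)) *ᵥ x)
      (((Q₁ : Matrix (Fin n₁) (Fin n₁) F) ⊗ₖ (Q₂ : Matrix (Fin n₂) (Fin n₂) F)) *ᵥ x)
    rw [hG, show ∑ p, x p * τ (x p) = 1 by simp [x, Pi.single_apply, apply_ite τ], mul_one] at h
    rw [← h, ← hf.herm]
  obtain ⟨s, hs⟩ := hτ.exists_norm (c := c⁻¹) (by rw [map_inv₀, hcf])
  have hs0 : s ≠ 0 := fun h => by rw [h, zero_mul, eq_comm, inv_eq_zero] at hs; exact hc0 hs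
  set K : Matrix (Fin n₁ × Fin n₂) (Fin n₁ × Fin n₂) F :=
    (s • (Q₁ : Matrix (Fin n₁) (Fin n₁) F)) ⊗ₖ (Q₂ : Matrix (Fin n₂) (Fin n₂) F) with hK
  let Q₁' : GL (Fin n₁) F := Matrix.GeneralLinearGroup.mkOfDetNeZero (s • (Q₁ : Matrix (Fin n₁) (Fin n₁) F))
    (by rw [Matrix.det_smul]; exact mul_ne_zero (pow_ne_zero _ hs0) Q₁.det_ne_zero)
  let kk : GL (Fin n₁ × Fin n₂) F := Matrix.GeneralLinearGroup.mkOfDetNeZero K (by
    rw [hK, Matrix.det_kronecker]; exact mul_ne_zero (pow_ne_zero _ Q₁'.det_ne_zero) (pow_ne_zero _ Q₂.det_ne_zero))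
  have hkk : kk ∈ Cfsg.Geo.kroneckerSubgroup n₁ n₂ F := ⟨Q₁', Q₂, rfl⟩
  let P' : GL (Fin n) F := P * Cfsg.Geo.glReindex e.symm kk
  refine ⟨P', ?_, fun u v => ?_⟩
  · have hmem : Cfsg.Geo.glReindex e.symm kk ∈ (Cfsg.Geo.kroneckerSubgroup n₁ n₂ F).map (Cfsg.Geo.glReindex e.symm).toMonoidHom :=
      ⟨kk, hkk, rfl⟩
    refine le_antisymm ?_ ?_ <;> rintro _ ⟨g, hg, rfl⟩
    · refine ⟨Cfsg.Geo.glReindex e.symm kk * g * (Cfsg.Geo.glReindex e.symm kk)⁻¹, mul_mem (mul_mem hmem hg) (inv_mem hmem), ?_⟩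
      simp [P', mul_assoc]
    · refine ⟨(Cfsg.Geo.glReindex e.symm kk)⁻¹ * g * Cfsg.Geo.glReindex e.symm kk, mul_mem (mul_mem (inv_mem hmem) hg) hmem, ?_⟩
      simp [P', mul_assoc]
  · let x : Fin n₁ × Fin n₂ → F := fun p => coord e P' u p.1 p.2
    let y : Fin n₁ × Fin n₂ → F := fun p => coord e P' v p.1 p.2
    have hP' : ∀ w : Fin n → F, w = (P : MM) *ᵥ ((K *ᵥ fun p => coord e P' w p.1 p.2) ∘ e) := by
      intro w
      have h1 : (fun p : Fin n₁ × Fin n₂ => coord e P' w p.1 p.2) = (((P'⁻¹ : GL (Fin n) F) : MM) *ᵥ w) ∘ e.symm :=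
        funext fun p => by rw [coord_apply]; rfl
      have h2 : ∀ z : Fin n → F, (K *ᵥ (z ∘ e.symm)) ∘ e = (K.submatrix e e) *ᵥ z := fun z => by
        rw [Matrix.submatrix_mulVec_equiv]
      rw [h1, h2, Matrix.mulVec_mulVec, show K.submatrix e e = ((Cfsg.Geo.glReindex e.symm kk : GL (Fin n) F) : MM) from rfl,
        Matrix.mulVec_mulVec, ← Units.val_mul, show P * Cfsg.Geo.glReindex e.symm kk = P' from rfl,
        Units.mul_inv, Matrix.one_mulVec]
    conv_lhs => rw [hP' u, hP' v]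
    rw [hT, hK, Matrix.smul_kronecker, Matrix.smul_mulVec, Matrix.smul_mulVec]
    rw [show ∀ (G : Matrix (Fin n₁ × Fin n₂) (Fin n₁ × Fin n₂) F) (a b : Fin n₁ × Fin n₂ → F),
        Cfsg.Geo.formOfGram τ G (s • a) (s • b) = (s * τ s) * Cfsg.Geo.formOfGram τ G a b from fun G a b => by
      simp only [Cfsg.Geo.formOfGram, Pi.smul_apply, smul_eq_mul, map_mul, Finset.mul_sum]
      exact Finset.sum_congr rfl fun _ _ => Finset.sum_congr rfl fun _ _ => by ring]
    rw [hG, hs, ← mul_assoc, mul_inv_cancel₀ hc0, one_mul, Fintype.sum_prod_type]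
    rfl

/-- A group containing the special part of the stabiliser and one more element contains the special unitary group. -/
theorem suGL_le_of_tensor {τ : F ≃+* F} (hf : Cfsg.Geo.IsUnitaryForm τ hh) (hF : Fintype.card F = q ^ 2) (hn : 10 ≤ n)
    (e : Fin n ≃ Fin n₁ × Fin n₂) (P : GL (Fin n) F) (hform : ∀ u v, hh u v = th τ (coord e P u) (coord e P v))
    (h1 : 2 ≤ n₁) (h12 : n₁ < n₂) (hbig : (∃ s : F, τ s = s ∧ s ≠ 0 ∧ s ≠ 1) ∨ 3 ≤ n₁)
    {M : Subgroup (GL (Fin n) F)} (hM : Cfsg.Geo.tensorProductSubgroup n₁ n₂ e P ⊓ suGL n F q ≤ M)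
    (hMS : M ≤ suGL n F q) {g : GL (Fin n) F} (hg : g ∈ M) (hgn : g ∉ Cfsg.Geo.tensorProductSubgroup n₁ n₂ e P) :
    suGL n F q ≤ M := by
  have hτ : Conj τ := ⟨hf.ne_refl, hf.involutive⟩
  have hcard : n = n₁ * n₂ := by simpa using Fintype.card_congr e
  have h5 : 4 ≤ n₂ := by
    by_contra h
    have : n₁ * n₂ ≤ 2 * 3 := Nat.mul_le_mul (by omega) (by omega)
    omega
  have hkron : ∀ (u : GL (Fin n) F) (a : GL (Fin n₁) F) (b : GL (Fin n₂) F),
      (u : MM) = (P : MM) * ((a : Matrix (Fin n₁) (Fin n₁) F) ⊗ₖ (b : Matrix (Fin n₂) (Fin n₂) F)).submatrix e e *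
        ((P⁻¹ : GL (Fin n) F) : MM) → u ∈ Cfsg.Geo.tensorProductSubgroup n₁ n₂ e P := by
    intro u a b hu
    refine ⟨Cfsg.Geo.glReindex e.symm (Matrix.GeneralLinearGroup.mkOfDetNeZero ((a : Matrix (Fin n₁) (Fin n₁) F) ⊗ₖ (b : Matrix (Fin n₂) (Fin n₂) F)) ?_),
      ⟨_, ⟨a, b, rfl⟩, rfl⟩, Units.ext ?_⟩
    · rw [Matrix.det_kronecker]
      exact mul_ne_zero (pow_ne_zero _ a.det_ne_zero) (pow_ne_zero _ b.det_ne_zero)
    · rw [hu]; rfl
  have hfac : ∀ (A : Matrix (Fin n₁) (Fin n₁) F) (B : Matrix (Fin n₂) (Fin n₂) F), A.det ^ n₂ * B.det ^ n₁ = 1 →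
      (∀ S T : WW, th τ (A * S * B) (A * T * B) = th τ S T) →
      ∃ u ∈ M.map (coordHom e P), ∀ T : WW, (u : Module.End F WW) T = A * T * B := by
    intro A B hd hiso
    have hA : A.det ≠ 0 := fun h => by rw [h, zero_pow (by omega), zero_mul] at hd; exact zero_ne_one hd
    have hB : B.det ≠ 0 := fun h => by rw [h, zero_pow (by omega), mul_zero] at hd; exact zero_ne_one hd
    set K := (P : MM) * (A ⊗ₖ Bᵀ).submatrix e e * ((P⁻¹ : GL (Fin n) F) : MM) with hK
    have hdet : K.det = 1 := by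
      rw [hK, Matrix.det_mul, Matrix.det_mul, Matrix.det_submatrix_equiv_self, Matrix.det_kronecker,
        Matrix.det_transpose, Fintype.card_fin, Fintype.card_fin, hd, mul_one, ← Matrix.det_mul, Units.mul_inv,
        Matrix.det_one]
    let u : GL (Fin n) F := Matrix.GeneralLinearGroup.mkOfDetNeZero K (by rw [hdet]; exact one_ne_zero)
    refine ⟨coordHom e P u, Subgroup.mem_map_of_mem _ (hM ⟨?_, ⟨(CfsgLib.Maximal.mem_GU_iff u).2 fun x y => ?_,
      (mem_specialLinear_iff _).2 hdet⟩⟩), fun T => ?_⟩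
    · exact hkron u (Matrix.GeneralLinearGroup.mkOfDetNeZero A hA)
        (Matrix.GeneralLinearGroup.mkOfDetNeZero Bᵀ (by rw [Matrix.det_transpose]; exact hB)) rfl
    · rw [hform, hform, show (u : MM) = K from rfl, hK, coord_kron, coord_kron, hiso]
    · obtain ⟨v, rfl⟩ := (coord e P).surjective T
      rw [coordHom_coord]
      exact coord_kron e P A B v
  have hU : UExt τ (M.map (coordHom e P)) := by
    refine ⟨⟨hτ, ?_, fun A hA hA1 => ?_, fun B hB hB1 => ?_, by simpa using h1⟩, by simpa using h12, by simpa using h5⟩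
    · rintro _ ⟨x, hx, rfl⟩ S T
      obtain ⟨u, rfl⟩ := (coord e P).surjective S
      obtain ⟨v, rfl⟩ := (coord e P).surjective T
      rw [coordHom_coord, coordHom_coord, ← hform, ← hform]
      exact (CfsgLib.Maximal.mem_GU_iff x).1 (hMS hx).1 u v
    · obtain ⟨u, hu, e'⟩ := hfac A 1 (by rw [hA1, Matrix.det_one, one_pow, one_pow, one_mul])
        (fun S T => by rw [Matrix.mul_one, Matrix.mul_one, th_mulL_iso hτ hA])
      exact ⟨u, hu, LinearMap.ext fun T => by rw [e', Matrix.mul_one, mulL_apply]⟩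
    · obtain ⟨u, hu, e'⟩ := hfac 1 B (by rw [Matrix.det_one, one_pow, one_mul]; simpa using hB1)
        (fun S T => by rw [Matrix.one_mul, Matrix.one_mul, th_mulR hB])
      exact ⟨u, hu, LinearMap.ext fun T => by rw [e', Matrix.one_mul, mulR_apply]⟩
  have hnf : ¬ Factor (coordHom e P g : Module.End F WW) := by
    rintro ⟨A, B, hAB⟩
    have he : (g : MM) = (P : MM) * (A ⊗ₖ Bᵀ).submatrix e e * ((P⁻¹ : GL (Fin n) F) : MM) :=
      eq_of_coord e P fun v => by rw [← coordHom_coord, hAB, coord_kron]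
    have hd := g.det_ne_zero
    rw [he, Matrix.det_mul, Matrix.det_mul, Matrix.det_submatrix_equiv_self, Matrix.det_kronecker,
      Matrix.det_transpose] at hd
    have hd' := right_ne_zero_of_mul (left_ne_zero_of_mul hd)
    refine hgn (hkron g (Matrix.GeneralLinearGroup.mkOfDetNeZero A fun h0 => hd' ?_)
      (Matrix.GeneralLinearGroup.mkOfDetNeZero Bᵀ fun h0 => hd' ?_) he)
    · rw [h0, zero_pow (by simp; omega), zero_mul]
    · rw [Matrix.det_transpose] at h0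
      rw [h0, zero_pow (by simp; omega), mul_zero]
  have hN : NonRootU τ (M.map (coordHom e P)) := by
    by_contra hN
    have hg' := Subgroup.mem_map_of_mem (coordHom e P) hg
    have hnl := hU.exists_nl hN hg' hnf
    have hs := hU.eq_succ hN hg' hnl
    simp only [Fintype.card_fin] at hs
    by_cases h : 5 ≤ n₁ ∨ n₁ = 3
    · exact hU.nonRoot_large hN hg' hnl (by simpa using h) (by simpa using hs)
    have h4 : n₁ = 4 := by
      by_contra h4
      have : n₁ * n₂ ≤ 2 * 3 := Nat.mul_le_mul (by omega) (by omega)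
      omega
    by_cases h20 : (2 : F) = 0
    · exact hU.nonRoot_four hN hg' hnl (by simpa using h4) (by rw [Fintype.card_fin]; omega) h20
    · exact hU.nonRoot_odd hN hg' hnl (by rw [Fintype.card_fin, h4]; decide) h20
  refine CfsgLib.Maximal.suGL_le_of_full hf hF (by omega) fun v hv k hk => ?_
  have h0 : fvec hh v ⬝ᵥ (k • v) = 0 := CfsgLib.Maximal.un_tv_dot hf hv k
  refine ⟨h0, ?_⟩
  obtain ⟨_, ⟨x, hx, rfl⟩, ex⟩ := hU.full_all (by simpa using hbig) hN (T := coord e P v) (by rw [← hform, hv]) k hk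
  suffices heq : tv (k • v) (fvec hh v) h0 = x by rw [heq]; exact hx
  refine Units.ext (CfsgLib.Geometry.matrix_eq_of_mulVec fun m => ?_)
  refine (coord e P).injective ?_
  rw [← coordHom_coord e P x, ex, tv_mulVec, CfsgLib.Maximal.un_dot hf, map_add, map_smul, map_smul, smul_smul,
    LinearMap.add_apply, Module.End.one_apply, trv_apply, hform, mul_comm]

/-- The stabiliser of a tensor decomposition into Hermitian spaces is maximal. -/
theorem tensor_unitary_maximal (hF : Fintype.card F = q ^ 2) (hn : 10 ≤ n) (h1 : 2 ≤ n₁) (h12 : n₁ < n₂)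
    (hex : ¬ (n₁ = 2 ∧ q = 2)) (e : Fin n ≃ Fin n₁ × Fin n₂) (P : GL (Fin n) F)
    {f₁ : (Fin n₁ → F) → (Fin n₁ → F) → F} {f₂ : (Fin n₂ → F) → (Fin n₂ → F) → F}
    (hf₁ : Cfsg.Geo.IsUnitaryFormPow q f₁) (hf₂ : Cfsg.Geo.IsUnitaryFormPow q f₂)
    (hT : Cfsg.Geo.IsTensorFormStructure (fun x : F => x ^ q) hh f₁ f₂ e P) :
    Cfsg.Geo.IsMaximalIn (suGL n F q) (Cfsg.Geo.tensorProductSubgroup n₁ n₂ e P ⊓ suGL n F q) := by
  obtain ⟨τ, hpow, hf⟩ := CfsgLib.Maximal.exists_hermSigma hF n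
  have hτ : Conj τ := ⟨hf.ne_refl, hf.involutive⟩
  obtain ⟨P', hP', hform⟩ := exists_frame hpow hf e P (by omega) (by omega) hf₁ hf₂ hT
  rw [← hP']
  have hbig : (∃ s : F, τ s = s ∧ s ≠ 0 ∧ s ≠ 1) ∨ 3 ≤ n₁ := by
    by_contra hcon
    push Not at hcon
    obtain ⟨hfix, h3⟩ := hcon
    refine hex ⟨by omega, ?_⟩
    have hq2 : 2 ≤ q := by
      have := Fintype.one_lt_card (α := F)
      rw [hF] at this
      by_contra h
      interval_cases q <;> simp at this
    have hone : ∀ x : Fˣ, x ^ (q + 1) = 1 := fun x => Units.ext (by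
      have h := hfix ((x : F) * τ x) (by rw [map_mul, hf.involutive, mul_comm]) (mul_ne_zero x.ne_zero (by simp))
      rw [hpow, ← pow_succ'] at h
      simpa using h)
    have hdvd := (FiniteField.forall_pow_eq_one_iff F (q + 1)).1 hone
    rw [hF] at hdvd
    have hle := Nat.le_of_dvd (by omega) hdvd
    by_contra hne
    have : 3 * q ≤ q ^ 2 := by rw [pow_two]; exact Nat.mul_le_mul_right q (by omega)
    omega
  constructor
  · refine lt_of_le_of_ne inf_le_right fun he => ?_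
    obtain ⟨w, hw0, hw, -⟩ := hτ.exists_isotropic_perp (fun i : Fin 0 => (0 : Fin n₂ → F)) (by simp; omega)
    set v := (coord e P').symm (inj w (Pi.single ⟨0, by omega⟩ (1 : F)) : WW) with hvd
    have hv0 : v ≠ 0 := fun h => by
      rw [hvd, LinearEquiv.map_eq_zero_iff] at h
      simpa using congrFun (inj_injective hw0 (h.trans (map_zero _).symm)) ⟨0, by omega⟩
    have hv : hh v v = 0 := by
      rw [hform, hvd, LinearEquiv.apply_symm_apply, th_inj_left hτ, ct_inj, hw, zero_smul, hd_zero_right]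
    obtain ⟨k, hk0, hk⟩ := hτ.exists_skew
    refine NotMax.tv_not_tensor h1 (by omega) e P' (g := tv (k • v) (fvec hh v) (CfsgLib.Maximal.un_tv_dot hf hv k))
      (smul_ne_zero hk0 hv0) (fun h => hv0 ?_) (fun x => tv_mulVec _ _ _ x) ?_
    · exact CfsgLib.Maximal.un_fvec_injective hf (by rw [h, CfsgLib.Maximal.un_fvec_zero hf])
    · exact (he.ge (CfsgLib.Maximal.utv_mem_su hf hv hk)).1
  intro M hM hMS
  refine or_iff_not_imp_left.2 fun hne => le_antisymm hMS ?_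
  obtain ⟨g, hg, hgn⟩ : ∃ g ∈ M, g ∉ Cfsg.Geo.tensorProductSubgroup n₁ n₂ e P' := by
    by_contra hcon
    push Not at hcon
    exact hne (le_antisymm (fun g hg => ⟨hcon g hg, hMS hg⟩) hM)
  exact suGL_le_of_tensor hf hF hn e P' hform h1 h12 hbig hM hMS hg hgn

end CfsgLib.TensorMax.Unitary
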