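import Cfsg.Agent.Lib.TensorMax.Unitary.RadicalTwo

/-!
From one full pure point to all isotropic points.
-/

set_option autoImplicit false

namespace CfsgLib.TensorMax.Unitary

open scoped Matrix
open CfsgLib.FieldMax (Mem map_unit_inj inv_apply_apply apply_inv_apply)

variable {F : Type*} [Field F] {α β : Type} [Fintype α] [Fintype β]

local notation "VV" => Matrix α β F

variable {τ : F ≃+* F}

theorem pair_li {κ : Type} {a b : κ → F} (ha : a ≠ 0) (hb : b ∉ F ∙ a) : LinearIndependent F ![a, b] :=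
  (LinearIndependent.pair_iff' ha).2 fun r hr => hb (Submodule.mem_span_singleton.2 ⟨r, hr⟩)

namespace UExt

variable [Fintype F] [DecidableEq α] [DecidableEq β] {M : Subgroup (Module.End F (Matrix α β F))ˣ} (hM : UExt τ M)

include hM

/-- A full pure point gives those with any singular second part. -/
theorem full_line {w : β → F} (hw0 : w ≠ 0) (hw : hd τ w w = 0) {e : α → F} (h : Full τ M (inj w e)) {w' : β → F}
    (hw0' : w' ≠ 0) (hw' : hd τ w' w' = 0) : Full τ M (inj w' e) := by
  refine hM.conj.move_induction hM.four (P := fun x => Full τ M (inj x e)) (fun x v k hv hk hx => ?_) hw0 hw0'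
    (hw.trans hw'.symm) h
  obtain ⟨g, hg, eg⟩ := hM.mem_rt hv hk
  convert hM.full_map hx hg using 1
  simp [eg, ct_inj, inj_add_left, inj_smul_left, smul_smul, map_smul]

/-- Some full pure points have non-singular first part. -/
theorem exists_full_nonsing (hbig : (∃ s : F, τ s = s ∧ s ≠ 0 ∧ s ≠ 1) ∨ 3 ≤ Fintype.card α) (hN : NonRootU τ M) :
    ∃ u : α → F, hd τ u u ≠ 0 ∧ ∀ w : β → F, w ≠ 0 → hd τ w w = 0 → Full τ M (inj w u) := by
  classical
  have hτ := hM.conj
  obtain ⟨w₀, e, hw0, hw, he0, hfull⟩ : ∃ (w : β → F) (e : α → F), w ≠ 0 ∧ hd τ w w = 0 ∧ e ≠ 0 ∧ Full τ M (inj w e) := by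
    by_cases h : ∃ s : F, τ s = s ∧ s ≠ 0 ∧ s ≠ 1
    · obtain ⟨s, hs, hs0, hs1⟩ := h
      exact hM.exists_full_large hs hs0 hs1 hN
    · exact hM.exists_full_two (fun x hx => by by_contra hc; push Not at hc; exact h ⟨x, hx, hc.1, hc.2⟩)
        (hbig.resolve_left h) hN
  by_cases he : hd τ e e = 0
  swap
  · exact ⟨e, he, fun w' h0 h => hM.full_line hw0 hw hfull h0 h⟩
  obtain ⟨f, hf, hef⟩ := hτ.exists_partner he0 he
  have hfe : hd τ f e = 1 := by rw [← hτ.hd_conj, hef, map_one]
  obtain ⟨κ, hκ0, hκ⟩ := hτ.exists_skew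
  have hline : ∀ x : β → F, x ≠ 0 → hd τ x x = 0 → Full τ M (inj x e) := fun x => hM.full_line hw0 hw hfull
  have hlinef : ∀ x : β → F, x ≠ 0 → hd τ x x = 0 → Full τ M (inj x f) := by
    intro x hx0 hx
    set v := κ • f - e
    have hvv : hd τ v v = 0 := by
      simp only [v, hd_sub_left, hd_sub_right, hd_smul_left, hd_smul_right, hf, he, hef, hfe, hκ]
      ring
    have hev : hd τ e v = -κ := by simp only [v, hd_sub_right, hd_smul_right, hef, he, hκ]; ring
    obtain ⟨g, hg, eg⟩ := hM.left (qr τ v (-κ⁻¹)) (isIso_qr hτ (by rw [hvv, map_neg, map_inv₀, hκ, inv_neg]; ring))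
      (by rw [det_qr, hvv, mul_zero, add_zero])
    have h := hM.full_smul (hM.full_map (hline x hx0 hx) hg) κ⁻¹
    rwa [eg, mulL_inj, qr_mulVec, hev, neg_mul_neg, inv_mul_cancel₀ hκ0, one_smul, add_sub_cancel, map_smul,
      smul_smul, inv_mul_cancel₀ hκ0, one_smul] at h
  -- one step in the plane of the two points
  have step : ∀ p q d : β → F, Full τ M (inj p e + inj q f) → τ (hd τ p q) = -hd τ p q →
      d ≠ 0 → hd τ d d = 0 → hd τ d q ≠ 0 → τ (hd τ d q) = -hd τ d q → Full τ M (inj (p + d) e + inj q f) := by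
    intro p q d h hpq hd0 hdd hdq hdq'
    have hz : ∀ p, τ (hd τ p q) = -hd τ p q → th τ (inj p e + inj q f) (inj p e + inj q f : VV) = 0 := by
      intro p hpq
      simp only [th_add_left, th_add_right, th_inj_left hτ, ct_inj, hd_smul_right, he, hf, hef, hfe, hτ.hd_conj,
        mul_zero, mul_one, zero_add, add_zero]
      rw [← hτ.hd_conj p q, hpq]
      ring
    have e1 : inj (p + d) e + inj q f = (inj p e + inj q f) + (1 : F) • (inj d e : VV) := by
      rw [inj_add_left, one_smul]; abel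
    rw [e1]
    refine hM.full_move h (hline d hd0 hdd) (hz p hpq)
      (by rw [th_inj_left hτ, ct_inj, hd_smul_right, he, mul_zero]) ?_ ?_
    · simp only [th_add_left, th_inj_left hτ, ct_inj, hd_smul_right, he, hfe, mul_zero, mul_one, zero_add, hτ.hd_conj]
      exact fun e' => hdq (hτ.hd_symm_zero e')
    · rw [← e1]
      exact hz _ (by rw [hd_add_left, map_add, hpq, hdq', neg_add])
  obtain ⟨w₁, hw1, hw01⟩ := hτ.exists_partner hw0 hw
  set p := w₀
  set q := κ • w₁
  have hq : hd τ q q = 0 := by simp [q, hd_smul_left, hd_smul_right, hw1]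
  have hw₁0 : w₁ ≠ 0 := fun e' => zero_ne_one (by rw [← hw01, e', hd_zero_right])
  have hq0 : q ≠ 0 := smul_ne_zero hκ0 hw₁0
  have hpq : hd τ p q = -κ := by rw [hd_smul_right, hw01, mul_one, hκ]
  have hqp : hd τ q p = κ := by rw [← hτ.hd_conj, hpq, map_neg, hκ, neg_neg]
  have hpqi : p ∉ F ∙ q := fun hm => by
    obtain ⟨r, hr⟩ := Submodule.mem_span_singleton.1 hm
    rw [← hr, hd_smul_left, hq, mul_zero, eq_comm, neg_eq_zero] at hpq
    exact hκ0 hpq
  have hz0 : Full τ M (inj p e + inj q f) := by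
    rw [← one_smul F (inj q f : VV)]
    refine hM.full_move (hline p hw0 hw) (hlinef q hq0 hq) (by rw [th_inj_left hτ, ct_inj, hd_smul_right, he, mul_zero])
      (by rw [th_inj_left hτ, ct_inj, hd_smul_right, hf, mul_zero]) ?_ ?_
    · rw [th_inj_left hτ, ct_inj, hd_smul_right, hef, mul_one, hτ.hd_conj, hpq]
      exact neg_ne_zero.2 hκ0
    · simp only [one_smul, th_add_left, th_add_right, th_inj_left hτ, ct_inj, hd_smul_right, he, hf, hef, hfe,
        hτ.hd_conj, hpq, hqp, mul_zero, mul_one, zero_add, add_zero, map_neg, hκ]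
      ring
  obtain ⟨μ, hμ⟩ := hτ.exists_trace (c := (1 : F)) (map_one τ)
  have hkq : ∀ c : F, c ≠ 0 → ∀ d : β → F, hd τ d q = c → d ≠ 0 := fun c hc d hdq e' => hc (by rw [← hdq, e', hd_zero_left])
  refine ⟨μ • e + f, ?_, ?_⟩
  · simp only [hd_add_left, hd_add_right, hd_smul_left, hd_smul_right, he, hf, hef, hfe, mul_zero, mul_one, zero_add,
      add_zero]
    rw [add_comm, hμ]
    exact one_ne_zero
  refine fun w' h0 h => hM.full_line hq0 hq ?_ h0 h
  have hgoal : (inj q (μ • e + f) : VV) = inj (μ • q) e + inj q f := by simp only [map_add, map_smul, inj_smul_left, smul_smul, q]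
  rw [hgoal]
  have hμq : hd τ (μ • q) q = 0 := by rw [hd_smul_left, hq, mul_zero]
  have hμqq : hd τ (μ • q) (μ • q) = 0 := by rw [hd_smul_right, hμq, mul_zero]
  -- two or three steps
  have two : ∀ p' : β → F, Full τ M (inj p' e + inj q f) → τ (hd τ p' q) = -hd τ p' q →
      p' ∉ F ∙ q → ∀ c : F, τ c = -c → c ≠ 0 → -hd τ p' q - c ≠ 0 → Full τ M (inj (μ • q) e + inj q f) := by
    intro p' hp' hp'q hind c hc hc0 hc'
    set Y := μ • q - p'
    have hYq : hd τ Y q = -hd τ p' q := by rw [hd_sub_left, hμq, zero_sub]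
    obtain ⟨h', hh'⟩ := hτ.exists_trace (c := hd τ Y Y) (hτ.self_fixed Y)
    obtain ⟨d, hd', hdd⟩ := hτ.exists_prescribed (v := ![q, Y]) (pair_li hq0 fun hm => hind (by
      have := (F ∙ q).sub_mem ((F ∙ q).smul_mem μ (Submodule.mem_span_singleton_self q)) hm
      rwa [sub_sub_cancel] at this)) (by have := hM.four; omega) ![c, h'] (map_zero τ)
    have hdq : hd τ d q = c := hd' 0
    have hdY : hd τ d Y = h' := hd' 1
    have h1 := step p' q d hp' hp'q (hkq c hc0 d hdq) hdd (hdq ▸ hc0) (hdq ▸ hc)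
    have hp1q : hd τ (p' + d) q = hd τ p' q + c := by rw [hd_add_left, hdq]
    have hYd : hd τ (Y - d) q = -hd τ p' q - c := by rw [hd_sub_left, hYq, hdq]
    have h2 := step (p' + d) q (Y - d) h1 (by rw [hp1q, map_add, hp'q, hc, neg_add]) (hkq _ hc' _ hYd)
      (by simp only [hd_sub_left, hd_sub_right, hdd, hdY, ← hτ.hd_conj d Y]; linear_combination -hh')
      (by rw [hYd]; exact hc') (by rw [hYd, map_sub, map_neg, hp'q, hc]; ring)
    rwa [show p' + d + (Y - d) = μ • q by simp [Y]] at h2
  have hpq' : τ (hd τ p q) = -hd τ p q := by rw [hpq, map_neg, hκ]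
  by_cases h : ∃ s : F, τ s = s ∧ s ≠ 0 ∧ s ≠ 1
  · obtain ⟨s, hs, hs0, hs1⟩ := h
    refine two p hz0 hpq' hpqi (s * κ) (by rw [map_mul, hs, hκ, mul_neg]) (mul_ne_zero hs0 hκ0) ?_
    rw [hpq, neg_neg, show κ - s * κ = (1 - s) * κ by ring]
    exact mul_ne_zero (sub_ne_zero.2 (Ne.symm hs1)) hκ0
  push Not at h
  have h2 : (2 : F) = 0 := by
    by_contra h2
    exact one_ne_zero (show (1 : F) = 0 by linear_combination h 2 (map_ofNat τ 2) h2)
  obtain ⟨d, hd', hdd⟩ := hτ.exists_prescribed (pair_li hq0 hpqi) (by have := hM.four; omega) ![κ, μ] (map_zero τ)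
  have hdq : hd τ d q = κ := hd' 0
  have hdp : hd τ d p = μ := hd' 1
  have h1 := step p q d hz0 hpq' (hkq κ hκ0 d hdq) hdd (hdq ▸ hκ0) (hdq ▸ hκ)
  have hp1q : hd τ (p + d) q = 0 := by rw [hd_add_left, hpq, hdq, neg_add_cancel]
  refine two (p + d) h1 (by rw [hp1q, map_zero, neg_zero]) (fun hm => ?_) κ hκ hκ0 ?_
  · obtain ⟨r, hr⟩ := Submodule.mem_span_singleton.1 hm
    have h0 : hd τ (p + d) (p + d) = 0 := by rw [← hr, hd_smul_left, hd_smul_right, hq, mul_zero, mul_zero]
    simp only [hd_add_left, hd_add_right, hw, hdd, hdp, ← hτ.hd_conj d p, p] at h0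
    exact one_ne_zero (show (1 : F) = 0 by linear_combination h0 - hμ)
  · rw [hp1q, neg_zero, zero_sub]
    exact neg_ne_zero.2 hκ0

/-- All pure points with non-singular first and singular second part are full. -/
theorem full_pure (hbig : (∃ s : F, τ s = s ∧ s ≠ 0 ∧ s ≠ 1) ∨ 3 ≤ Fintype.card α) (hN : NonRootU τ M) {u : α → F}
    (hu : hd τ u u ≠ 0) {w : β → F} (hw0 : w ≠ 0) (hw : hd τ w w = 0) : Full τ M (inj w u) := by
  obtain ⟨u₀, hu₀, h⟩ := hM.exists_full_nonsing hbig hN
  obtain ⟨A, c, hA, hA1, hc, he⟩ := hM.conj.exists_transitive hM.two_le hu₀ hu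
  obtain ⟨g, hg, eg⟩ := hM.left A hA hA1
  have h1 := hM.full_smul (hM.full_map (h w hw0 hw) hg) c⁻¹
  rwa [eg, mulL_inj, he, map_smul, smul_smul, inv_mul_cancel₀ hc, one_smul] at h1

/-- The rows may be moved independently within their norms. -/
theorem full_rows (hbig : (∃ s : F, τ s = s ∧ s ≠ 0 ∧ s ≠ 1) ∨ 3 ≤ Fintype.card α) (hN : NonRootU τ M) {T T' : VV}
    (hz : ∀ i, T i = 0 ↔ T' i = 0) (hn : ∀ i, hd τ (T i) (T i) = hd τ (T' i) (T' i)) (h : Full τ M T) :
    Full τ M T' := by
  classical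
  have hτ := hM.conj
  have key : ∀ S : Finset α, Full τ M (Matrix.of fun i => if i ∈ S then T' i else T i : VV) := by
    intro S
    induction S using Finset.induction with
    | empty => convert h using 1; ext i j; simp
    | @insert a S ha ih =>
      set R : VV := Matrix.of fun i => if i ∈ S then T' i else T i with hR
      have e : (Matrix.of fun i => if i ∈ insert a S then T' i else T i : VV) = Matrix.updateRow R a (T' a) := by
        ext i j
        rcases eq_or_ne i a with rfl | hi
        · simp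
        · simp [hR, hi]
      rw [e]
      have hRa : R a = T a := by funext j; simp [hR, ha]
      rcases eq_or_ne (T a) 0 with h0 | h0
      · rwa [(hz a).1 h0, ← h0, ← hRa, Matrix.updateRow_eq_self]
      refine hτ.move_induction hM.four (P := fun x => Full τ M (Matrix.updateRow R a x)) (fun x v k hv hk hx => ?_)
        h0 (fun e' => h0 ((hz a).2 e')) (hn a) (by rwa [← hRa, Matrix.updateRow_eq_self])
      rcases eq_or_ne v 0 with rfl | hv0
      · simpa using hx
      obtain ⟨g, hg, eg⟩ := hM.full_pure hbig hN (u := Pi.single a 1) (by rw [hd_single_right]; simp) hv0 hv k hk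
      convert hM.full_map hx hg using 1
      rw [eg, LinearMap.add_apply, Module.End.one_apply, trv_apply, th_inj_right hτ, hd_single_right, map_one, mul_one,
        ct_apply, Matrix.updateRow_self]
      ext i j
      simp only [Matrix.add_apply, Matrix.smul_apply, inj_apply, Matrix.vecMulVec_apply, smul_eq_mul]
      rcases eq_or_ne i a with rfl | hi
      · simp
      · simp [hi]
  convert key Finset.univ using 1
  ext i j
  simp

/-- All isotropic points are full. -/
theorem full_all (hbig : (∃ s : F, τ s = s ∧ s ≠ 0 ∧ s ≠ 1) ∨ 3 ≤ Fintype.card α) (hN : NonRootU τ M) {T : VV}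
    (hT : th τ T T = 0) : Full τ M T := by
  classical
  have hτ := hM.conj
  obtain ⟨w₀, hw0, hw, -⟩ := hτ.exists_isotropic_perp (fun i : Fin 0 => (0 : β → F)) (by have := hM.four; omega)
  obtain ⟨w₁, hw1, hw01⟩ := hτ.exists_partner hw0 hw
  obtain ⟨κ, hκ0, hκ⟩ := hτ.exists_skew
  obtain ⟨θ, hθ⟩ := hτ.exists_trace (c := (1 : F)) (map_one τ)
  obtain ⟨ω, hω⟩ : ∃ ω : F, τ ω ≠ ω := by
    by_contra hcon
    push Not at hcon
    exact hτ.ne (RingEquiv.ext hcon)
  let Gd : Finset α → Prop := fun S => ∀ T : VV, (∀ i, hd τ (T i) (T i) = 0) → (∀ i, T i ≠ 0 ↔ i ∈ S) → Full τ M T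
  have hbase : ∀ u : α → F, hd τ u u ≠ 0 → Gd (Finset.univ.filter fun i => u i ≠ 0) := by
    intro u hu T hTn hTs
    refine hM.full_rows hbig hN (T := inj w₀ u) (fun i => ?_) (fun i => ?_) (hM.full_pure hbig hN hu hw0 hw)
    · rw [show (inj w₀ u : VV) i = u i • w₀ from rfl, smul_eq_zero, or_iff_left hw0]
      simpa using (not_congr (hTs i)).symm
    · rw [show (inj w₀ u : VV) i = u i • w₀ from rfl, hd_smul_left, hd_smul_right, hw, mul_zero, mul_zero, hTn]
  have hcomb : ∀ S S' U : Finset α, ∀ i₀, Gd S → Gd S' → i₀ ∈ S → i₀ ∈ S' → i₀ ∈ U →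
      (∀ i, i ∈ U → i ∈ S ∨ i ∈ S') → (∀ i, (i ∈ S ∧ i ∉ S' ∨ i ∉ S ∧ i ∈ S') → i ∈ U) → Gd U := by
    intro S S' U i₀ hS hS' hi hi' hiU hU1 hU2 T hTn hTs
    let p : VV := fun i => if i ∈ S then w₀ else 0
    let q : VV := fun i => if i ∈ S' then if i ∈ S then if i = i₀ then κ • w₁ else if i ∈ U then ω • w₀ else -w₀ else w₀ else 0
    have hw₁0 : w₁ ≠ 0 := fun e => zero_ne_one (by rw [← hw01, e, hd_zero_right])
    have hω0 : ω ≠ 0 := fun e => hω (by rw [e, map_zero])
    have hω1 : (1 : F) + ω ≠ 0 := fun e => hω (by rw [eq_neg_of_add_eq_zero_right e, map_neg, map_one])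
    have hqi : ∀ i, hd τ (q i) (q i) = 0 := fun i => by
      simp only [q]; split_ifs <;> simp [hd_smul_left, hd_smul_right, hd_neg_left, hd_neg_right, hw, hw1, hd_zero_left]
    have hpi : ∀ i, hd τ (p i) (p i) = 0 := fun i => by simp only [p]; split_ifs <;> simp [hw, hd_zero_left]
    have hpq : ∀ i, hd τ (p i) (q i) = if i = i₀ then -κ else 0 := fun i => by
      simp only [p, q]
      rcases eq_or_ne i i₀ with rfl | hne
      · simp [hi, hi', hd_smul_right, hw01, hκ]
      · simp only [hne, if_false]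
        split_ifs <;> simp [hd_smul_right, hd_neg_right, hw, hd_zero_left, hd_zero_right]
    have hqp : ∀ i, hd τ (q i) (p i) = if i = i₀ then κ else 0 := fun i => by
      rw [← hτ.hd_conj, hpq]; split_ifs <;> simp [hκ]
    have hn : ∀ i, hd τ ((p + (1 : F) • q : VV) i) ((p + (1 : F) • q : VV) i) = 0 := fun i => by
      rw [one_smul, show (p + q : VV) i = p i + q i from rfl]
      simp only [hd_add_left, hd_add_right, hpi, hqi, hpq, hqp]
      split_ifs <;> ring
    have hfull : Full τ M (p + (1 : F) • q) := by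
      refine hM.full_move (hS p hpi fun i => ?_) (hS' q hqi fun i => ?_) ?_ ?_ ?_ ?_
      · simp only [p]; split_ifs with h <;> simp [h, hw0]
      · simp only [q]; split_ifs <;> simp_all
      · exact Finset.sum_eq_zero fun i _ => hpi i
      · exact Finset.sum_eq_zero fun i _ => hqi i
      · rw [th, Finset.sum_congr rfl fun i _ => hpq i, Finset.sum_ite_eq']
        simpa using hκ0
      · exact Finset.sum_eq_zero fun i _ => hn i
    refine hM.full_rows hbig hN (fun i => ?_) (fun i => (hn i).trans (hTn i).symm) hfull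
    rw [one_smul, show (p + q : VV) i = p i + q i from rfl]
    suffices h : p i + q i ≠ 0 ↔ i ∈ U by exact not_iff_not.1 (h.trans (hTs i).symm)
    simp only [p, q]
    by_cases h1 : i ∈ S <;> by_cases h2 : i ∈ S'
    · rcases eq_or_ne i i₀ with rfl | hne
      · simp only [h1, h2, if_true, hiU, iff_true]
        intro e
        have h3 := congrArg (fun x => hd τ w₀ x) e
        simp [hd_add_right, hd_smul_right, hw, hw01, hd_zero_right, hκ, hκ0] at h3
      · by_cases h3 : i ∈ U
        · simp only [h1, h2, h3, hne, if_true, if_false, iff_true]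
          rw [← one_smul F w₀, smul_smul, mul_one, ← add_smul]
          exact smul_ne_zero hω1 hw0
        · simp [h1, h2, h3, hne]
    · have h3 := hU2 i (Or.inl ⟨h1, h2⟩)
      simp [h1, h2, h3, hw0]
    · have h3 := hU2 i (Or.inr ⟨h1, h2⟩)
      simp [h1, h2, h3, hw0]
    · have h3 : i ∉ U := fun h => (hU1 i h).elim h1 h2
      simp [h1, h2, h3]
  have hall : Gd Finset.univ := by
    obtain ⟨i₀⟩ : Nonempty α := Fintype.card_pos_iff.1 (by have := hM.two_le; omega)
    by_cases h : ((Fintype.card α : ℕ) : F) ≠ 0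
    · have := hbase (fun _ => 1) (by simpa [hd_apply] using h)
      simpa using this
    push Not at h
    rcases hbig with ⟨s, hs, hs0, hs1⟩ | h3
    · obtain ⟨t, ht⟩ := hτ.exists_norm hs
      have := hbase (Function.update (fun _ => 1) i₀ t) (by
        rw [hd_apply, ← Finset.add_sum_erase _ _ (Finset.mem_univ i₀), Function.update_self, ht,
          Finset.sum_congr rfl (g := fun _ => (1 : F)) (fun i hi => by simp [Finset.ne_of_mem_erase hi]),
          Finset.sum_const, Finset.card_erase_of_mem (Finset.mem_univ i₀), Finset.card_univ, nsmul_eq_mul, mul_one,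
          Nat.cast_sub (Fintype.card_pos_iff.2 ⟨i₀⟩), h, Nat.cast_one, zero_sub, ← sub_eq_add_neg]
        exact sub_ne_zero.2 hs1)
      convert this
      ext i
      rcases eq_or_ne i i₀ with rfl | hi
      · simpa using fun e : t = 0 => hs0 (by rw [← ht, e, zero_mul])
      · simp [hi]
    · have hdrop : ∀ j : α, Gd (Finset.univ.erase j) := fun j => by
        have := hbase (Function.update (fun _ => 1) j 0) (by
          rw [hd_apply, ← Finset.add_sum_erase _ _ (Finset.mem_univ j), Function.update_self, zero_mul, zero_add,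
            Finset.sum_congr rfl (g := fun _ => (1 : F)) (fun i hi => by simp [Finset.ne_of_mem_erase hi]),
            Finset.sum_const, Finset.card_erase_of_mem (Finset.mem_univ j), Finset.card_univ, nsmul_eq_mul, mul_one,
            Nat.cast_sub (Fintype.card_pos_iff.2 ⟨j⟩), h, Nat.cast_one, zero_sub]
          exact neg_ne_zero.2 one_ne_zero)
        convert this using 1
        ext i
        rcases eq_or_ne i j with rfl | hi <;> simp [*]
      obtain ⟨a, b, c, hab, hac, hbc⟩ := Fintype.two_lt_card_iff.1 (show 2 < Fintype.card α by omega)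
      exact hcomb _ _ _ c (hdrop a) (hdrop b) (by simp [hac.symm]) (by simp [hbc.symm]) (Finset.mem_univ _)
        (fun i _ => by rcases eq_or_ne i a with rfl | hi <;> simp [*]) (fun i _ => Finset.mem_univ i)
  have hsupp : ∀ U : Finset α, Gd U := by
    intro U
    rcases U.eq_empty_or_nonempty with rfl | ⟨i, hi⟩
    · intro T _ hTs
      rw [show T = 0 from funext fun i => not_not.1 fun h => by simpa using (hTs i).1 h]
      exact hM.full_zero
    · exact hcomb _ _ U i hall hall (Finset.mem_univ _) (Finset.mem_univ _) hi (fun j _ => Or.inl (Finset.mem_univ j))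
        (fun j hj => by simp at hj)
  have hgood : ∀ R : VV, (∀ i, hd τ (R i) (R i) = 0) → Full τ M R := fun R hR =>
    hsupp (Finset.univ.filter fun i => R i ≠ 0) R hR fun i => by simp
  rcases eq_or_ne T 0 with rfl | hT0
  · exact hM.full_zero
  obtain ⟨i₀, hi₀⟩ := Function.ne_iff.1 hT0
  have hi₀' : T i₀ ≠ 0 := hi₀
  obtain ⟨δ, hδ, hsum⟩ : ∃ δ : F, τ δ = -δ ∧ (∑ i, θ * hd τ (T i) (T i)) + δ ≠ 0 := by
    by_cases h : (∑ i, θ * hd τ (T i) (T i)) = 0
    · exact ⟨κ, hκ, by rw [h, zero_add]; exact hκ0⟩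
    · exact ⟨0, by simp, by rwa [add_zero]⟩
  let h' : α → F := fun i => θ * hd τ (T i) (T i) + if i = i₀ then δ else 0
  have hh : ∀ i, h' i + τ (h' i) = hd τ (T i) (T i) := fun i => by
    simp only [h', map_add, map_mul, hτ.self_fixed, apply_ite τ, hδ, map_zero]
    split_ifs <;> linear_combination hd τ (T i) (T i) * hθ
  have ha : ∀ i, ∃ a, hd τ a a = 0 ∧ hd τ a (T i) = h' i := fun i => by
    rcases eq_or_ne (T i) 0 with e | e
    · exact ⟨0, hd_zero_left _, by simp [h', e, hd_zero_left, hd_zero_right, show i ≠ i₀ from fun e' => hi₀' (e' ▸ e)]⟩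
    · obtain ⟨a, ha, haa⟩ := hτ.exists_prescribed (v := ![T i]) (LinearIndependent.of_subsingleton (ι := Fin 1) 0 e)
        (by have := hM.four; omega) (fun _ => h' i) (map_zero τ)
      exact ⟨a, haa, ha 0⟩
  choose a haa hah using ha
  let p : VV := fun i => a i
  let q : VV := fun i => T i - a i
  have hqi : ∀ i, hd τ (q i) (q i) = 0 := fun i => by
    simp only [q, hd_sub_left, hd_sub_right, haa, hah, ← hτ.hd_conj (a i) (T i)]
    linear_combination -hh i
  rw [show T = p + (1 : F) • q from funext fun i => by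
    rw [one_smul, show (p + q : VV) i = p i + q i from rfl]; simp [p, q]] at hT ⊢
  refine hM.full_move (hgood p haa) (hgood q hqi) (Finset.sum_eq_zero fun i _ => haa i)
    (Finset.sum_eq_zero fun i _ => hqi i) ?_ hT
  rw [th, Finset.sum_congr rfl fun i _ => show hd τ (p i) (q i) = h' i by
    simp only [p, q, hd_sub_right, haa, hah, sub_zero]]
  simpa [h', Finset.sum_add_distrib] using hsum

end UExt

end CfsgLib.TensorMax.Unitary
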