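import Cfsg.Agent.Lib.TensorMax.Unitary.Iso
import Cfsg.Agent.Lib.TensorMax.Unitary.FourEven

/-!
A radical element outside the root group gives all transvections with a fixed pure centre.
-/

set_option autoImplicit false

namespace CfsgLib.TensorMax.Unitary

open scoped Matrix
open CfsgLib.FieldMax (Mem map_unit_inj inv_apply_apply apply_inv_apply)

variable {F : Type*} [Field F] {α β : Type} [Fintype α] [Fintype β]

local notation "VV" => Matrix α β F

variable {τ : F ≃+* F}

/-- The linear functional given by the form. -/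
def thl (τ : F ≃+* F) (z : Matrix α β F) : Module.Dual F (Matrix α β F) where
  toFun T := th τ T z
  map_add' S T := th_add_left S T z
  map_smul' c T := th_smul_left c T z

/-- The unitary transvection. -/
def trv (τ : F ≃+* F) (k : F) (z : Matrix α β F) : Module.End F (Matrix α β F) := (k • thl τ z).smulRight z

/-- All transvections with the given centre are in the group. -/
def Full (τ : F ≃+* F) (M : Subgroup (Module.End F (Matrix α β F))ˣ) (z : Matrix α β F) : Prop :=
  ∀ k : F, τ k = -k → Mem M (trv τ k z)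

theorem trv_apply (k : F) (z T : VV) : (trv τ k z : Module.End F VV) T = (k * th τ T z) • z := rfl

/-- The radical element attached to a matrix. -/
def rad (τ : F ≃+* F) (w : β → F) (E : Matrix α α F) : Module.End F (Matrix α β F) :=
  inj w ∘ₗ Matrix.mulVecLin E ∘ₗ ct τ w

/-- The radical element is in the group. -/
def InR (τ : F ≃+* F) (M : Subgroup (Module.End F (Matrix α β F))ˣ) (w : β → F) (E : Matrix α α F) : Prop :=
  Mem M (rad τ w E)

theorem rad_apply (w : β → F) (E : Matrix α α F) (T : VV) : (rad τ w E : Module.End F VV) T = inj w (E *ᵥ ct τ w T) := rfl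

/-- The rank-one matrix of a vector. -/
def nm (τ : F ≃+* F) (e : α → F) : Matrix α α F := Matrix.vecMulVec e (⇑τ ∘ e)

theorem nm_mulVec (e u : α → F) : nm τ e *ᵥ u = hd τ u e • e := by
  rw [nm, Matrix.vecMulVec_mulVec, op_smul_eq_smul, dotProduct_comm]
  rfl

namespace UBase

variable [Fintype F] [DecidableEq α] [DecidableEq β] {M : Subgroup (Module.End F (Matrix α β F))ˣ} (hM : UBase τ M)

include hM

theorem full_smul {z : VV} (h : Full τ M z) (c : F) : Full τ M (c • z) := by
  intro k hk
  convert h (k * (c * τ c)) (by rw [map_mul, map_mul, hk, hM.conj.invol]; ring) using 1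
  refine LinearMap.ext fun T => ?_
  rw [trv_apply, trv_apply, th_smul_right, smul_smul]
  congr 1
  ring

theorem full_map {z : VV} (h : Full τ M z) {g : (Module.End F VV)ˣ} (hg : g ∈ M) :
    Full τ M ((g : Module.End F VV) z) := by
  intro k hk
  convert (h k hk).conj hg using 1
  refine LinearMap.ext fun T => ?_
  rw [Module.End.mul_apply, Module.End.mul_apply, trv_apply, trv_apply, map_smul, ← hM.adj' hg]

theorem full_zero : Full τ M 0 := fun k _ => by
  convert Mem.zero (M := M) using 1
  exact LinearMap.ext fun T => by simp [trv_apply]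

/-- A full point moved by the transvections of another one. -/
theorem full_move {u v : VV} (hu : Full τ M u) (hv : Full τ M v) (huu : th τ u u = 0) (hvv : th τ v v = 0)
    (huv : th τ u v ≠ 0) {s : F} (hw : th τ (u + s • v) (u + s • v) = 0) : Full τ M (u + s • v) := by
  have hk : τ (s / th τ u v) = -(s / th τ u v) := by
    simp only [th_add_left, th_add_right, th_smul_left, th_smul_right, huu, hvv, ← th_conj hM.conj u v] at hw
    rw [map_div₀, ← neg_div, div_eq_div_iff (by simpa using huv) huv]
    linear_combination hw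
  obtain ⟨g, hg, eg⟩ := hv _ hk
  have h := hM.full_map hu hg
  rwa [eg, LinearMap.add_apply, Module.End.one_apply, trv_apply, div_mul_cancel₀ _ huv] at h

theorem rad_sq {w : β → F} (hw : hd τ w w = 0) (E E' : Matrix α α F) :
    (rad τ w E : Module.End F VV) * rad τ w E' = 0 := by
  refine LinearMap.ext fun T => ?_
  simp [Module.End.mul_apply, rad_apply, ct_inj, hw]

theorem inR_add {w : β → F} (hw : hd τ w w = 0) {E E' : Matrix α α F} (h : InR τ M w E) (h' : InR τ M w E') :
    InR τ M w (E + E') := by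
  unfold InR
  convert h.add h' (hM.rad_sq hw E E') using 1
  exact LinearMap.ext fun T => by simp [rad_apply, Matrix.add_mulVec]

theorem inR_neg {w : β → F} (hw : hd τ w w = 0) {E : Matrix α α F} (h : InR τ M w E) : InR τ M w (-E) := by
  unfold InR
  convert h.neg (hM.rad_sq hw E E) using 1
  exact LinearMap.ext fun T => by simp [rad_apply, Matrix.neg_mulVec]

theorem inR_zero (w : β → F) : InR τ M w (0 : Matrix α α F) := by
  unfold InR
  convert Mem.zero (M := M) using 1
  exact LinearMap.ext fun T => by simp [rad_apply]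

theorem inR_scalar {w : β → F} (hw : hd τ w w = 0) {k : F} (hk : τ k = -k) :
    InR τ M w (k • (1 : Matrix α α F)) := by
  unfold InR
  convert hM.mem_rt hw hk using 1
  exact LinearMap.ext fun T => by simp [rad_apply, Matrix.smul_mulVec]

theorem inR_conj {w : β → F} {E : Matrix α α F} (h : InR τ M w E) {A : Matrix α α F} (hA : IsIso τ A) (hd1 : A.det = 1) :
    InR τ M w (A * E * hadj τ A) := by
  obtain ⟨g, hg, eg⟩ := hM.left A hA hd1
  unfold InR
  convert h.conj hg using 1
  refine LinearMap.ext fun T => ?_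
  obtain ⟨S, rfl⟩ : ∃ S, (g : Module.End F VV) S = T := ⟨_, apply_inv_apply g T⟩
  rw [Module.End.mul_apply, Module.End.mul_apply, inv_apply_apply, rad_apply, rad_apply, eg, mulL_inj, ct_mulL,
    Matrix.mulVec_mulVec, Matrix.mul_assoc _ (hadj τ A), hA.hadj_mul_self hM.conj, Matrix.mul_one, Matrix.mulVec_mulVec]

/-- The matrices of radical elements are skew-Hermitian. -/
theorem inR_skew {w : β → F} (hw0 : w ≠ 0) (hw : hd τ w w = 0) {E : Matrix α α F} (h : InR τ M w E) (i j : α) :
    τ (E j i) = -E i j := by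
  have hτ := hM.conj
  obtain ⟨w', -, hww'⟩ := hτ.exists_partner hw0 hw
  have hw'w : hd τ w' w = 1 := by rw [← hτ.hd_conj, hww', map_one]
  obtain ⟨x, hx, ex⟩ := h
  have h1 := hM.iso x hx (inj w' (Pi.single j 1)) (inj w' (Pi.single i 1) : VV)
  simp only [ex, LinearMap.add_apply, Module.End.one_apply, rad_apply, ct_inj, hw'w, one_smul, th_add_left,
    th_add_right, th_inj_left hτ, ct_inj, hw, zero_smul, hd_zero_right, hww', hd_single_right, map_one, mul_one,
    Matrix.mulVec_single_one, Matrix.col_apply, add_zero] at h1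
  rw [← hτ.hd_conj (E.col i) (Pi.single j 1), hd_single_right, map_one, mul_one] at h1
  simp only [Matrix.col_apply] at h1
  linear_combination h1

end UBase

namespace UExt

variable [Fintype F] [DecidableEq α] [DecidableEq β] {M : Subgroup (Module.End F (Matrix α β F))ˣ} (hM : UExt τ M)

include hM

/-- Radical elements may be scaled by fixed scalars. -/
theorem inR_fixed {w : β → F} (hw0 : w ≠ 0) (hw : hd τ w w = 0) {E : Matrix α α F} (h : InR τ M w E) {s : F}
    (hs : τ s = s) : InR τ M w (s • E) := by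
  have hτ := hM.conj
  obtain ⟨a, b, ha, hb, rfl⟩ := hτ.exists_sq_add_sq hs
  have key : ∀ r : F, τ r = r → InR τ M w ((r * r) • E) := by
    intro r hr
    rcases eq_or_ne r 0 with rfl | hr0
    · rw [mul_zero, zero_smul]; exact hM.inR_zero w
    have h2 : InR τ M (r • w) E := hτ.move_induction hM.four (P := fun x => InR τ M x E) (fun x v k hv hk hx => by
        obtain ⟨g, hg, eg⟩ := hM.mem_rt hv hk
        unfold InR
        convert hx.conj hg using 1
        have hgi : ∀ c : α → F, (g : Module.End F VV) (inj x c) = inj (x + (k * hd τ x v) • v) c := fun c => by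
          simp [eg, ct_inj, inj_add_left, inj_smul_left, smul_smul, map_smul]
        refine LinearMap.ext fun T => ?_
        rw [Module.End.mul_apply, Module.End.mul_apply, rad_apply, rad_apply, hgi]
        congr 2
        refine hτ.eq_of_forall fun c => ?_
        rw [← th_inj_right hτ, ← th_inj_right hτ, ← hgi, hM.adj' hg])
      hw0 (smul_ne_zero hr0 hw0) (by rw [hd_smul_left, hd_smul_right, hw, mul_zero, mul_zero]) h
    unfold InR at h2 ⊢
    convert h2 using 1
    refine LinearMap.ext fun T => ?_
    rw [rad_apply, rad_apply, ct_smul, hr, inj_smul_left, Matrix.mulVec_smul, Matrix.smul_mulVec, map_smul, map_smul,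
      smul_smul]
  rw [add_smul]
  exact hM.inR_add hw (key a ha) (key b hb)

/-- A rank-one radical element gives a full point. -/
theorem full_of_inR {w : β → F} (hw0 : w ≠ 0) (hw : hd τ w w = 0) {e : α → F} {k : F} (hk0 : k ≠ 0) (hk : τ k = -k)
    (h : InR τ M w (k • nm τ e)) : Full τ M (inj w e) := by
  intro l hl
  have h1 := hM.inR_fixed hw0 hw h (s := l / k) (by rw [map_div₀, hl, hk, neg_div_neg_eq])
  rw [smul_smul, div_mul_cancel₀ _ hk0] at h1
  unfold InR at h1
  convert h1 using 1
  refine LinearMap.ext fun T => ?_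
  rw [trv_apply, rad_apply, Matrix.smul_mulVec, nm_mulVec, smul_smul, map_smul, th_inj_right hM.conj]

/-- A non-scalar radical element has an isotropic vector seen by its form. -/
theorem exists_seen {w : β → F} (hw0 : w ≠ 0) (hw : hd τ w w = 0) {E : Matrix α α F} (h : InR τ M w E)
    (hE : ¬ ∃ c : F, E = c • (1 : Matrix α α F)) : ∃ e : α → F, hd τ e e = 0 ∧ hd τ (E *ᵥ e) e ≠ 0 := by
  have hτ := hM.conj
  by_contra hcon
  push Not at hcon
  obtain ⟨t, ht⟩ := hτ.exists_norm (c := (-1 : F)) (by rw [map_neg, map_one])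
  have ht0 : t ≠ 0 := fun e => by rw [e, zero_mul] at ht; exact neg_ne_zero.2 one_ne_zero ht.symm
  obtain ⟨ζ, hζ, hζ1⟩ := hτ.exists_phase
  have hζ0 : ζ ≠ 0 := fun e => by rw [e, zero_mul] at hζ; exact zero_ne_one hζ
  have hij : ∀ i j, i ≠ j → E i j = 0 ∧ E i i = E j j := by
    intro i j hij
    have hq : ∀ u, u * τ u = -1 → E i j * u ^ 2 + (E i i - E j j) * u - E j i = 0 := by
      intro u hu
      have h1 := hcon (Pi.single i 1 + u • Pi.single j 1) (by
        simp [hd_add_left, hd_add_right, hd_smul_left, hd_smul_right, hd_single_right, hij, hij.symm]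
        linear_combination hu)
      simp [Matrix.mulVec_add, Matrix.mulVec_smul, Matrix.mulVec_single_one, hd_add_left, hd_add_right, hd_smul_left,
        hd_smul_right, hd_single_right] at h1
      linear_combination u * h1 - (E j i + u * E j j) * hu
    have h1 := hq t ht
    have h2 := hq (ζ * t) (by rw [map_mul]; linear_combination (t * τ t) * hζ + ht)
    have h3 := hq (τ ζ * t) (by rw [map_mul, hτ.invol]; linear_combination (t * τ t) * hζ + ht)
    have hz1 : ζ - 1 ≠ 0 := sub_ne_zero.2 fun e => hζ1 (by rw [e, mul_one])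
    have hz2 : τ ζ - 1 ≠ 0 := sub_ne_zero.2 fun e => by rw [e, mul_one] at hζ; exact hζ1 (by rw [hζ, mul_one])
    have hz3 : ζ - τ ζ ≠ 0 := sub_ne_zero.2 fun e => hζ1 (by rw [← e] at hζ; exact hζ)
    have e1 : E i j * t * (ζ + 1) + (E i i - E j j) = 0 :=
      (mul_eq_zero.1 (show (t * (ζ - 1)) * (E i j * t * (ζ + 1) + (E i i - E j j)) = 0 by linear_combination h2 - h1)).resolve_left
        (mul_ne_zero ht0 hz1)
    have e2 : E i j * t * (τ ζ + 1) + (E i i - E j j) = 0 :=
      (mul_eq_zero.1 (show (t * (τ ζ - 1)) * (E i j * t * (τ ζ + 1) + (E i i - E j j)) = 0 by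
        linear_combination h3 - h1)).resolve_left (mul_ne_zero ht0 hz2)
    have e3 : E i j = 0 := (mul_eq_zero.1 (show (t * (ζ - τ ζ)) * E i j = 0 by linear_combination e1 - e2)).resolve_left
      (mul_ne_zero ht0 hz3)
    rw [e3, zero_mul, zero_mul, zero_add, sub_eq_zero] at e1
    exact ⟨e3, e1⟩
  obtain ⟨i₀⟩ : Nonempty α := Fintype.card_pos_iff.1 (by have := hM.two_le; omega)
  refine hE ⟨E i₀ i₀, Matrix.ext fun i j => ?_⟩
  rcases eq_or_ne i j with rfl | hne
  · rcases eq_or_ne i i₀ with rfl | h0
    · simp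
    · simpa using (hij i i₀ h0).2
  · simpa [hne] using (hij i j hne).1

/-- A radical element outside the root group, as a matrix. -/
theorem exists_inR (hN : NonRootU τ M) : ∃ (w : β → F) (E : Matrix α α F), w ≠ 0 ∧ hd τ w w = 0 ∧ InR τ M w E ∧
    ¬ ∃ c : F, E = c • (1 : Matrix α α F) := by
  obtain ⟨w, E, hw0, hw, hmem, hE⟩ := hN
  refine ⟨w, LinearMap.toMatrix' E, hw0, hw, ?_, ?_⟩
  · unfold InR rad
    rw [← Matrix.toLin'_apply', Matrix.toLin'_toMatrix']
    exact hmem
  · rintro ⟨c, hc⟩
    exact hE ⟨c, fun u => by rw [← LinearMap.toMatrix'_mulVec E u, hc, Matrix.smul_mulVec, Matrix.one_mulVec]⟩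

/-- More than two fixed scalars: a transvection conjugates to a rank-one radical element. -/
theorem exists_full_large {s : F} (hs : τ s = s) (hs0 : s ≠ 0) (hs1 : s ≠ 1) (hN : NonRootU τ M) :
    ∃ (w : β → F) (e : α → F), w ≠ 0 ∧ hd τ w w = 0 ∧ e ≠ 0 ∧ Full τ M (inj w e) := by
  have hτ := hM.conj
  obtain ⟨w, E, hw0, hw, hmem, hE⟩ := hM.exists_inR hN
  obtain ⟨e, he, hc⟩ := hM.exists_seen hw0 hw hmem hE
  set c := hd τ (E *ᵥ e) e with hcdef
  obtain ⟨ν, hν0, hν⟩ := hτ.exists_skew
  set N := nm τ e
  have hNEN : N * E * N = c • N := by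
    refine Matrix.ext_of_mulVec_single fun j => ?_
    rw [← Matrix.mulVec_mulVec, ← Matrix.mulVec_mulVec, Matrix.smul_mulVec]
    simp only [N, nm_mulVec, Matrix.mulVec_smul, hd_smul_left, smul_smul]
    rw [mul_comm]
  have hG : ∀ t : F, τ t = t → InR τ M w ((t * ν) • (N * E - E * N) - ((t * ν) * (t * ν)) • (c • N)) := by
    intro t ht
    have hiso : IsIso τ (qr τ e (t * ν)) := isIso_qr hτ (by rw [map_mul, ht, hν, he]; ring)
    have h1 := hM.inR_add hw (hM.inR_conj hmem hiso (by rw [det_qr, he, mul_zero, add_zero])) (hM.inR_neg hw hmem)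
    convert h1 using 1
    rw [hadj_qr hτ, ← hNEN, map_mul, ht, hν]
    simp only [qr, show Matrix.vecMulVec e (⇑τ ∘ e) = N from rfl, Matrix.add_mul, Matrix.mul_add, Matrix.one_mul,
      Matrix.mul_one, Matrix.smul_mul, Matrix.mul_smul, Matrix.mul_assoc]
    module
  have h2 := hM.inR_add hw (hM.inR_fixed hw0 hw (hG 1 (map_one τ)) hs) (hM.inR_neg hw (hG s hs))
  have hcs : τ c = -c := by
    rw [hcdef, hτ.hd_conj]
    simp only [hd_apply, Matrix.mulVec, dotProduct, map_sum, map_mul, Finset.mul_sum, Finset.sum_mul,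
      ← Finset.sum_neg_distrib]
    rw [Finset.sum_comm]
    refine Finset.sum_congr rfl fun i _ => Finset.sum_congr rfl fun j _ => ?_
    rw [hM.inR_skew hw0 hw hmem]
    ring
  refine ⟨w, e, hw0, hw, fun e0 => hc (by rw [hcdef, e0, hd_zero_right]),
    hM.full_of_inR hw0 hw (k := (s * s - s) * (ν * ν) * c) ?_ ?_ ?_⟩
  · refine mul_ne_zero (mul_ne_zero ?_ (mul_ne_zero hν0 hν0)) hc
    rw [show s * s - s = s * (s - 1) by ring]
    exact mul_ne_zero hs0 (sub_ne_zero.2 hs1)
  · rw [map_mul, map_mul, map_sub, map_mul, map_mul, hs, hν, hcs]; ring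
  · convert h2 using 1
    module

end UExt

end CfsgLib.TensorMax.Unitary
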