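import Cfsg.Agent.Lib.TensorMax.Unitary.Radical

/-!
Radical elements over the field with four elements.
-/

set_option autoImplicit false

namespace CfsgLib.TensorMax.Unitary

open scoped Matrix
open CfsgLib.FieldMax (Mem map_unit_inj inv_apply_apply apply_inv_apply)

variable {F : Type*} [Field F] {α β : Type} [Fintype α] [Fintype β]

local notation "VV" => Matrix α β F

variable {τ : F ≃+* F}

/-- Entries of a Hermitian matrix conjugated by a quasi-reflection. -/
theorem qr_conj_apply [DecidableEq α] {E : Matrix α α F} (hE : ∀ i j, τ (E j i) = E i j) (d : α → F) (c c' : F) (i j : α) :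
    (qr τ d c * E * qr τ d c') i j = E i j + c * (d i * τ ((E *ᵥ d) j)) + c' * ((E *ᵥ d) i * τ (d j)) +
      c * c' * hd τ d (E *ᵥ d) * (d i * τ (d j)) := by
  have h1 : (⇑τ ∘ d) ᵥ* E = ⇑τ ∘ (E *ᵥ d) := funext fun m => by
    simp only [Matrix.vecMul, Matrix.mulVec, dotProduct, Function.comp_apply, map_sum, map_mul]
    exact Finset.sum_congr rfl fun l _ => by rw [← hE l m, mul_comm]
  rw [qr, qr, Matrix.add_mul, Matrix.one_mul, Matrix.smul_mul, Matrix.vecMulVec_mul, h1, Matrix.add_mul, Matrix.mul_add,
    Matrix.mul_add, Matrix.mul_one, Matrix.mul_one, Matrix.mul_smul, Matrix.mul_vecMulVec, Matrix.smul_mul, Matrix.mul_smul,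
    Matrix.vecMulVec_mul_vecMulVec]
  simp only [Matrix.add_apply, Matrix.smul_apply, Matrix.vecMulVec_apply, smul_eq_mul, Function.comp_apply, Pi.smul_apply,
    hd, dotProduct_comm (⇑τ ∘ (E *ᵥ d)) d, op_smul_eq_smul]
  ring

namespace UExt

variable [Fintype F] [DecidableEq α] [DecidableEq β] {M : Subgroup (Module.End F (Matrix α β F))ˣ} (hM : UExt τ M)

include hM

/-- Four elements: a radical element outside the root group gives a full pure point. -/
theorem exists_full_two (hq : ∀ x : F, τ x = x → x = 0 ∨ x = 1) (h3 : 3 ≤ Fintype.card α) (hN : NonRootU τ M) :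
    ∃ (w : β → F) (e : α → F), w ≠ 0 ∧ hd τ w w = 0 ∧ e ≠ 0 ∧ Full τ M (inj w e) := by
  classical
  have hτ := hM.conj
  have h2 : (2 : F) = 0 := (hq 2 (map_ofNat τ 2)).resolve_right fun e => one_ne_zero (show (1 : F) = 0 by linear_combination e)
  have hneg : ∀ x : F, -x = x := fun x => by linear_combination (-x) * h2
  have hk1 : τ (1 : F) = -1 := by rw [map_one, hneg]
  have hnorm : ∀ x : F, x ≠ 0 → x * τ x = 1 := fun x hx =>
    (hq _ (by rw [map_mul, hτ.invol, mul_comm])).resolve_left (mul_ne_zero hx (by simpa using hx))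
  obtain ⟨θ, hθ⟩ := hτ.exists_trace (c := (1 : F)) (map_one τ)
  have hθ0 : θ ≠ 0 := fun e => by rw [e, map_zero, add_zero] at hθ; exact zero_ne_one hθ
  have hθn := hnorm θ hθ0
  have hθ2 : θ * θ = τ θ := by linear_combination θ * hθ - hθn - hθ + (θ - 1) * h2
  have hθ2' : τ θ * τ θ = θ := by rw [← map_mul, hθ2, hτ.invol]
  obtain ⟨w, E, hw0, hw, hmem, hE⟩ := hM.exists_inR hN
  have hherm : ∀ {E : Matrix α α F}, InR τ M w E → ∀ i j, τ (E j i) = E i j := fun {E} h i j => by
    rw [hM.inR_skew hw0 hw h, hneg]
  have hone : InR τ M w (1 : Matrix α α F) := by simpa using hM.inR_scalar hw hk1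
  -- conjugation by a phase and a quasi-reflection
  have hconj : ∀ {E : Matrix α α F}, InR τ M w E → ∀ (φ d : α → F) (c : F), (∀ i, φ i * τ (φ i) = 1) →
      c + τ c + c * τ c * hd τ d d = 0 → (∏ i, φ i) * (1 + c * hd τ d d) = 1 →
      InR τ M w (Matrix.of fun i j => φ i * (qr τ d c * E * qr τ d (τ c)) i j * τ (φ j)) := by
    intro E h φ d c hφ hc hdet
    convert hM.inR_conj h ((isIso_diagonal hφ).mul (isIso_qr hτ hc))
      (by rw [Matrix.det_mul, Matrix.det_diagonal, det_qr, hdet]) using 1
    rw [hadj_mul, hadj_qr hτ, hadj_diagonal]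
    ext i j
    rw [Matrix.of_apply, ← Matrix.mul_assoc, Matrix.mul_diagonal, Matrix.mul_assoc (Matrix.diagonal φ),
      Matrix.mul_assoc (Matrix.diagonal φ), Matrix.diagonal_mul, Function.comp_apply]
  -- averaging over the phases of two indices
  have havg : ∀ {E : Matrix α α F}, InR τ M w E → ∀ a b, a ≠ b →
      InR τ M w (Matrix.of fun i j => if i ≠ j ∧ (i = a ∨ i = b ∨ j = a ∨ j = b) then 0 else E i j) := by
    intro E h a b hab
    let ψ : F → α → F := fun x i => if i = a then x else if i = b then τ x else 1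
    have hψ : ∀ x, x * τ x = 1 → InR τ M w (Matrix.of fun i j => ψ x i * E i j * τ (ψ x j)) := by
      intro x hx
      have h1 := hconj h (ψ x) 0 0 (fun i => by
        simp only [ψ]; split_ifs
        · exact hx
        · rw [hτ.invol, mul_comm, hx]
        · simp) (by simp) (by
        rw [zero_mul, add_zero, mul_one, Fintype.prod_eq_mul a b hab fun i hi => by simp [ψ, hi.1, hi.2]]
        simp [ψ, hab.symm, hx])
      convert h1 using 1
      simp [qr]
    convert hM.inR_add hw (hM.inR_add hw h (hψ θ hθn)) (hψ (τ θ) (by rw [hτ.invol, mul_comm, hθn])) using 1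
    ext i j
    simp only [Matrix.of_apply, Matrix.add_apply, ψ]
    by_cases hia : i = a <;> by_cases hib : i = b <;> by_cases hja : j = a <;> by_cases hjb : j = b <;>
      simp only [hia, hib, hja, hjb, if_true, if_false, hτ.invol, map_one, or_true, true_or, or_false, and_true, ne_eq] <;>
      grind
  -- diagonal parts are radical elements
  have hdiag : ∀ {E : Matrix α α F}, InR τ M w E → InR τ M w (Matrix.diagonal fun i => E i i) := by
    intro E h
    have key : ∀ S : Finset α, ∃ E', InR τ M w E' ∧ (∀ i, E' i i = E i i) ∧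
        ∀ i j, i ≠ j → i ∈ S ∨ j ∈ S → E' i j = 0 := by
      intro S
      induction S using Finset.induction with
      | empty => exact ⟨E, h, fun _ => rfl, fun i j _ h => by simp at h⟩
      | @insert a S _ ih =>
        obtain ⟨E', h', hd', hz⟩ := ih
        obtain ⟨b, hb⟩ := Fintype.exists_ne_of_one_lt_card (show 1 < Fintype.card α by omega) a
        refine ⟨_, havg h' a b hb.symm, fun i => by simp [hd'], fun i j hij hm => ?_⟩
        rw [Matrix.of_apply]
        split_ifs with hc
        · rfl
        · refine hz i j hij ?_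
          simp only [Finset.mem_insert] at hm
          tauto
    obtain ⟨E', h', hd', hz⟩ := key Finset.univ
    convert h' using 1
    ext i j
    rcases eq_or_ne i j with rfl | hij
    · simp [hd']
    · simp [hij, hz i j hij]
  have hthird : ∀ a b : α, ∃ c, c ≠ a ∧ c ≠ b := fun a b => by
    obtain ⟨c, -, hc⟩ := Finset.exists_mem_notMem_of_card_lt_card (s := ({a, b} : Finset α)) (t := Finset.univ) (by
      have := Finset.card_le_two (a := a) (b := b); rw [Finset.card_univ]; omega)
    exact ⟨c, by simpa using hc⟩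
  -- a diagonal element distinguishing two indices
  obtain ⟨δ, a, b, hδ, hab⟩ : ∃ δ a b, InR τ M w (Matrix.diagonal δ) ∧ δ a + δ b = 1 := by
    by_cases hg : ∃ a b, E a a ≠ E b b
    · obtain ⟨a, b, hab⟩ := hg
      refine ⟨_, a, b, hdiag hmem, (hq _ (by rw [map_add, hherm hmem, hherm hmem])).resolve_left fun e => hab ?_⟩
      rw [eq_neg_of_add_eq_zero_left e, hneg]
    push Not at hg
    obtain ⟨i₀⟩ : Nonempty α := Fintype.card_pos_iff.1 (by omega)
    set E₁ := E + E i₀ i₀ • (1 : Matrix α α F) with hE₁
    have h1 : InR τ M w E₁ := hM.inR_add hw hmem (hM.inR_scalar hw (hM.inR_skew hw0 hw hmem i₀ i₀))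
    obtain ⟨a, b, hab, hx⟩ : ∃ a b, a ≠ b ∧ E a b ≠ 0 := by
      by_contra hcon
      push Not at hcon
      refine hE ⟨E i₀ i₀, Matrix.ext fun i j => ?_⟩
      rcases eq_or_ne i j with rfl | hij
      · simp [hg i i₀]
      · simp [hij, hcon i j hij]
    obtain ⟨c, hca, hcb⟩ := hthird a b
    have he : ∀ i, E₁ i i = 0 := fun i => by
      rw [hE₁, Matrix.add_apply, Matrix.smul_apply, Matrix.one_apply_eq, smul_eq_mul, mul_one, hg i i₀]
      linear_combination E i₀ i₀ * h2
    set x := E₁ a b
    have hx0 : x ≠ 0 := by simpa [x, hE₁, hab] using hx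
    set lam := θ / x
    have hlam : lam ≠ 0 := div_ne_zero hθ0 hx0
    let G : F → F := fun μ => θ * τ μ * (τ (E₁ a c) + lam * τ (E₁ b c)) + τ θ * μ * (E₁ a c + τ lam * E₁ b c)
    have hG : ∀ μ, τ (G μ) = G μ := fun μ => by simp only [G, map_add, map_mul, hτ.invol]; ring
    obtain ⟨μ, hμ0, hμ⟩ : ∃ μ, μ ≠ 0 ∧ G μ = 0 := by
      rcases hq _ (hG 1) with e | e
      · exact ⟨1, one_ne_zero, e⟩
      rcases hq _ (hG θ) with e' | e'
      · exact ⟨θ, hθ0, e'⟩
      refine ⟨τ θ, by simpa using hθ0, ?_⟩
      have hsum : G 1 + G θ + G (τ θ) = 0 := by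
        simp only [G, map_one, hτ.invol]
        linear_combination (θ * (τ (E₁ a c) + lam * τ (E₁ b c)) + τ θ * (E₁ a c + τ lam * E₁ b c)) * (hθ + h2)
      linear_combination hsum - e - e' - h2
    let φ : α → F := fun i => if i = a then θ else 1
    let d : α → F := fun i => if i = a then 1 else if i = b then lam else if i = c then μ else 0
    have hdd : hd τ d d = 1 := by
      rw [hd_apply, ← Finset.sum_subset (Finset.subset_univ {a, b, c}) (fun i _ hi => by simp_all [d])]
      rw [Finset.sum_insert (by simp [hab, hca.symm]), Finset.sum_insert (by simp [hcb.symm]), Finset.sum_singleton]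
      simp [d, hab.symm, hca, hcb, hnorm _ hlam, hnorm _ hμ0]
      linear_combination h2
    have h2' := hconj h1 φ d θ (fun i => by simp only [φ]; split_ifs <;> simp [hθn]) (by
      rw [hdd, hθ, hθn]; linear_combination h2) (by
      rw [hdd, Fintype.prod_eq_single a fun i hi => by simp [φ, hi]]
      simp only [φ, if_true]
      linear_combination hθ2 + hθ)
    refine ⟨_, a, b, hdiag h2', ?_⟩
    have hf : ∀ i, (E₁ *ᵥ d) i = E₁ i a + E₁ i b * lam + E₁ i c * μ := fun i => by
      rw [Matrix.mulVec, dotProduct, ← Finset.sum_subset (Finset.subset_univ {a, b, c}) (fun i _ hi => by simp_all [d]),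
        Finset.sum_insert (by simp [hab, hca.symm]), Finset.sum_insert (by simp [hcb.symm]), Finset.sum_singleton]
      simp [d, hab.symm, hca, hcb, add_assoc]
    simp only [Matrix.of_apply, qr_conj_apply (hherm h1), hf, he, φ, if_true, if_neg hab.symm, d, if_neg hab.symm,
      map_add, map_mul, map_one, hherm h1 a b, ← hherm h1 b a]
    have hxl : x * lam = θ := mul_div_cancel₀ _ hx0
    have hxl' : τ x * τ lam = τ θ := by rw [← map_mul, hxl]
    simp only [G] at hμ
    linear_combination (norm := (simp only [map_add, map_mul, map_one, map_zero, hτ.invol, d, x]; ring)) hμ +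
      (θ + τ θ) * hxl + (θ + τ θ) * hxl' + (θ + τ θ + 1) * hθ + hd τ d (E₁ *ᵥ d) * h2 +
      (θ * τ x * τ lam + θ * τ (E₁ a c) * τ μ + τ θ * x * lam + τ θ * E₁ a c * μ +
        hd τ d (E₁ *ᵥ d) * (θ * τ θ + 1 + lam * τ lam)) * hθn + hd τ d (E₁ *ᵥ d) * hnorm _ hlam
  have hne : a ≠ b := by
    rintro rfl
    exact zero_ne_one (show (0 : F) = 1 by linear_combination hab - δ a * h2)
  obtain ⟨c, hca, hcb⟩ := hthird a b
  -- the projection to two indices
  have hP : InR τ M w (Matrix.diagonal fun i => if i = a ∨ i = b then (1 : F) else 0) := by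
    let d : α → F := fun i => if i = a ∨ i = b then 1 else 0
    have hdd : hd τ d d = 0 := by
      rw [hd_apply, Fintype.sum_eq_add a b hne fun i hi => by simp [d, hi.1, hi.2]]
      simp [d]
      linear_combination h2
    have hf : ∀ i, (Matrix.diagonal δ *ᵥ d) i = δ i * d i := fun i => Matrix.mulVec_diagonal _ _ _
    have hδ' : ∀ i, τ (δ i) = δ i := fun i => by simpa using hherm hδ i i
    convert hM.inR_add hw (hconj hδ (fun _ => 1) d 1 (fun _ => by simp) (by simp [hdd]; linear_combination h2)
      (by simp [hdd])) hδ using 1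
    have hC : hd τ d (Matrix.diagonal δ *ᵥ d) = 1 := by
      rw [hd_apply, Fintype.sum_eq_add a b hne fun i hi => by simp [d, hi.1, hi.2]]
      simp [hf, d, hδ', hab]
    ext i j
    simp only [Matrix.of_apply, Matrix.add_apply, qr_conj_apply (hherm hδ), hC, hf, map_one, map_mul, hδ', one_mul, mul_one]
    rcases eq_or_ne i j with rfl | hij
    · by_cases hi : i = a ∨ i = b <;> simp [d, hi] <;> grind
    · rw [Matrix.diagonal_apply_ne _ hij, Matrix.diagonal_apply_ne _ hij]
      by_cases hi : i = a ∨ i = b <;> by_cases hj : j = a ∨ j = b <;> simp [d, hi, hj]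
      have : δ i + δ j = 1 := by
        rcases hi with rfl | rfl <;> rcases hj with rfl | rfl <;> first | exact absurd rfl hij | exact hab | rw [add_comm, hab]
      grind
  set P := Matrix.diagonal fun i => if i = a ∨ i = b then (1 : F) else 0 with hPd
  by_cases h4 : ∃ x, x ≠ a ∧ x ≠ b ∧ x ≠ c
  swap
  · push Not at h4
    refine ⟨w, Pi.single c 1, hw0, hw, by simp, hM.full_of_inR hw0 hw one_ne_zero hk1 ?_⟩
    convert hM.inR_add hw hP hone using 1
    ext i j
    simp only [nm, one_smul, Matrix.vecMulVec_apply, Function.comp_apply, hPd, Matrix.add_apply, Matrix.diagonal_apply,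
      Matrix.one_apply]
    rcases eq_or_ne i j with rfl | hij
    · by_cases hia : i = a
      · simp [hia, hca.symm]; linear_combination -h2
      by_cases hib : i = b
      · simp [hib, hcb.symm]; linear_combination -h2
      obtain rfl := h4 i hia hib
      simp [hia, hib]
    · by_cases hic : i = c
      · subst hic; simp [hij, hij.symm]
      · simp [hic, hij]
  obtain ⟨x, hxa, hxb, hxc⟩ := h4
  let d : α → F := fun i => if i = a ∨ i = b ∨ i = c then 1 else 0
  let φ : α → F := fun i => if i = a then θ else 1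
  have hdd : hd τ d d = 1 := by
    rw [hd_apply, ← Finset.sum_subset (Finset.subset_univ {a, b, c}) (fun i _ hi => by simp_all [d])]
    rw [Finset.sum_insert (by simp [hne, hca.symm]), Finset.sum_insert (by simp [hcb.symm]), Finset.sum_singleton]
    simp [d]
    linear_combination h2
  have hK := hconj hP φ d θ (fun i => by simp only [φ]; split_ifs <;> simp [hθn]) (by
    rw [hdd, hθ, hθn]; linear_combination h2) (by
    rw [hdd, Fintype.prod_eq_single a fun i hi => by simp [φ, hi]]
    simp only [φ, if_true]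
    linear_combination hθ2 + hθ)
  have hf : ∀ i, (P *ᵥ d) i = if i = a ∨ i = b then 1 else 0 := fun i => by
    rw [hPd, Matrix.mulVec_diagonal]
    simp only [d]
    split_ifs <;> simp_all
  have hC : hd τ d (P *ᵥ d) = 0 := by
    rw [hd_apply, Fintype.sum_eq_add a b hne fun i hi => by simp [hf, hi.1, hi.2]]
    simp [hf, d]
    linear_combination h2
  refine ⟨w, fun i => if i = a then θ else if i = b then 1 else 0, hw0, hw, fun e => hθ0 (by simpa using congrFun e a),
    hM.full_of_inR hw0 hw one_ne_zero hk1 ?_⟩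
  convert hM.inR_add hw hP (havg (hM.inR_add hw hK (hdiag hK)) c x hxc.symm) using 1
  ext i j
  simp only [nm, one_smul, Matrix.vecMulVec_apply, Function.comp_apply, Matrix.add_apply, Matrix.of_apply,
    qr_conj_apply (hherm hP), hC, hf, mul_zero, zero_mul, add_zero]
  rcases eq_or_ne i j with rfl | hij
  · simp only [Matrix.diagonal_apply_eq, ne_eq, not_true_eq_false, false_and, if_false, hPd]
    by_cases hia : i = a
    · subst hia; simp [φ, d]; grind
    by_cases hib : i = b
    · subst hib; simp [φ, d, hia]; grind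
    simp [φ, d, hia, hib]
    try grind
  · rw [Matrix.diagonal_apply_ne _ hij, add_zero, hPd, Matrix.diagonal_apply_ne _ hij, zero_add, zero_add]
    by_cases hia : i = a <;> by_cases hib : i = b <;> by_cases hja : j = a <;> by_cases hjb : j = b <;>
      by_cases hic : i = c <;> by_cases hjc : j = c <;> simp [φ, d, hia, hib, hja, hjb, hic, hjc] <;> grind

end UExt

end CfsgLib.TensorMax.Unitary
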