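import Cfsg.Agent.Lib.TensorMax.Unitary.Perp
import Cfsg.Agent.Lib.TensorMax.Unitary.Family

/-!
Singular lines touching their images give radical elements outside the root groups.
-/

set_option autoImplicit false

namespace CfsgLib.TensorMax.Unitary

open scoped Matrix
open CfsgLib.FieldMax (Mem map_unit_inj inv_apply_apply apply_inv_apply)

variable {F : Type*} [Field F] {α β : Type} [Fintype α] [Fintype β]

local notation "VV" => Matrix α β F

variable {τ : F ≃+* F}

theorem line_zero : line (α := α) (0 : β → F) = (⊥ : Submodule F VV) := by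
  rw [eq_bot_iff]; rintro _ ⟨a, rfl⟩; simp [inj_zero_left]

/-- A moved line meeting itself is no line. -/
theorem nl_of_meet [DecidableEq α] [DecidableEq β] (g : (Module.End F VV)ˣ) {w : β → F} (hw : w ≠ 0)
    (hne : (line (α := α) w).map (g : Module.End F VV) ≠ line w)
    (h : line (α := α) w ⊓ (line (α := α) w).map (g : Module.End F VV) ≠ ⊥) : NL τ (g : Module.End F VV) w := by
  intro r _ he
  obtain ⟨z, hz, hz0⟩ := Submodule.exists_mem_ne_zero_of_ne_bot h
  rw [he] at hz
  obtain ⟨⟨u, rfl⟩, a, ha⟩ := hz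
  obtain ⟨i, hi⟩ : ∃ i, a i ≠ 0 := by
    by_contra hcon
    push Not at hcon
    exact hz0 (by rw [← ha, funext hcon]; exact map_zero _)
  have hr : r ∈ F ∙ w := by
    refine Submodule.mem_span_singleton.2 ⟨u i / a i, ?_⟩
    have h1 : a i • r = u i • w := congrFun ha i
    rw [div_eq_inv_mul, mul_smul, ← h1, inv_smul_smul₀ hi]
  exact hne (Submodule.eq_of_le_of_finrank_eq (he ▸ line_le_line hr) (by rw [finrank_map_line g hw, finrank_line hw]))

namespace UExt

variable [Fintype F] [DecidableEq α] [DecidableEq β] {M : Subgroup (Module.End F (Matrix α β F))ˣ} (hM : UExt τ M)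

include hM

/-- An image with radical in its pairing with a singular line. -/
theorem touch_or_nonRoot {g : (Module.End F VV)ˣ} (hg : g ∈ M) {v w : β → F} (hv0 : v ≠ 0) (hv : hd τ v v = 0)
    (hw0 : w ≠ 0) (hw : hd τ w w = 0) (hnl : NL τ (g : Module.End F VV) v) {j : ℕ} (hj1 : 1 ≤ j)
    (hj : j ≤ Module.finrank F (LinearMap.ker (ct τ w ∘ₗ (g : Module.End F VV) ∘ₗ inj (α := α) v))) :
    NonRootU τ M ∨ TouchU τ M j := by
  by_cases hzero : ∀ a, ct τ w ((g : Module.End F VV) (inj v a)) = 0
  · exact Or.inl (hM.nonRoot_of_perp hg hv hw0 hw hnl hzero)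
  push Not at hzero
  obtain ⟨κ, hκ0, hκ⟩ := hM.conj.exists_skew
  set gi := ((g⁻¹ : (Module.End F VV)ˣ) : Module.End F VV) with hgi
  set C : Module.End F VV := gi * (inj w ∘ₗ (κ • ct τ w)) * (g : Module.End F VV) with hC
  have hCv : ∀ T, C T = gi (inj w (κ • ct τ w ((g : Module.End F VV) T))) := fun T => rfl
  obtain ⟨x, hx, ex⟩ : Mem M C := by
    have := (hM.mem_rt hw hκ).conj (inv_mem hg)
    rwa [inv_inv] at this
  have hC2 : C * C = 0 := LinearMap.ext fun T => by
    rw [Module.End.mul_apply, hCv, hCv, hgi, apply_inv_apply, ct_inj, hw, zero_smul, smul_zero, map_zero, map_zero]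
    rfl
  have hrank : Module.finrank F (LinearMap.range C) ≤ Fintype.card α := by
    rw [← finrank_map_line g⁻¹ hw0 (α := α)]
    exact Submodule.finrank_mono (by rintro _ ⟨T, rfl⟩; rw [hCv]; exact Submodule.mem_map_of_mem (inj_mem_line _ _))
  by_cases hin : ∀ a, C (inj v a) ∈ line (α := α) v
  · obtain ⟨a, ha⟩ := hzero
    refine Or.inl (hM.nonRoot_of_stab hx ex hC2 hrank hv0 hv hin (u₀ := a) fun e => ha ?_)
    rw [hCv, ← map_zero gi] at e
    have h := inj_injective hw0 ((map_unit_inj g⁻¹ e).trans (map_zero _).symm)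
    exact (smul_eq_zero.1 h).resolve_left hκ0
  push Not at hin
  obtain ⟨a, ha⟩ := hin
  refine Or.inr ⟨x, hx, v, hv0, hv, fun he => ha ?_, le_trans hj ?_⟩
  · have := Submodule.sub_mem _ (he ▸ Submodule.mem_map_of_mem (inj_mem_line v a)) (inj_mem_line (α := α) v a)
    simpa [ex] using this
  · rw [(Submodule.equivMapOfInjective _ (inj_injective hv0) _).finrank_eq]
    refine Submodule.finrank_mono ?_
    rintro _ ⟨u, hu, rfl⟩
    refine ⟨inj_mem_line _ _, inj v u, inj_mem_line _ _, ?_⟩
    have hu : ct τ w ((g : Module.End F VV) (inj v u)) = 0 := hu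
    rw [ex, LinearMap.add_apply, Module.End.one_apply, hCv, hu, smul_zero, map_zero, map_zero, add_zero]

/-- The intersection grows. -/
theorem touch_succ {k : ℕ} (hk : 1 ≤ k) (h : TouchU τ M k) : NonRootU τ M ∨ TouchU τ M (k + 1) := by
  obtain ⟨g, hg, w, hw0, hw, hne, hkz⟩ := h
  have hτ := hM.conj
  set A := line (α := α) w with hA
  set L := A.map (g : Module.End F VV) with hL
  set Z := A ⊓ L with hZ
  by_cases hbig : k + 1 ≤ Module.finrank F Z
  · exact Or.inr ⟨g, hg, w, hw0, hw, hne, hbig⟩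
  have hnl : NL τ (g : Module.End F VV) w := nl_of_meet g hw0 hne fun e => by
    rw [hZ, hL, hA, e, finrank_bot] at hkz
    omega
  set K₁ := LinearMap.ker (ct τ w ∘ₗ (g : Module.End F VV) ∘ₗ inj (α := α) w) with hK₁
  by_cases hK : k + 1 ≤ Module.finrank F K₁
  · exact hM.touch_or_nonRoot hg hw0 hw hw0 hw hnl (by omega) hK
  let Λ : (α → F) →ₗ[F] VV := (g : Module.End F VV) ∘ₗ inj w
  have hΛ : Function.Injective Λ := (map_unit_inj g).comp (inj_injective hw0)
  have hΛL : ∀ a, Λ a ∈ L := fun a => Submodule.mem_map_of_mem (inj_mem_line _ _)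
  have hZle : Z ≤ K₁.map Λ := by
    rintro z ⟨⟨u, rfl⟩, ⟨_, ⟨a, rfl⟩, ha⟩⟩
    refine ⟨a, ?_, ha⟩
    show ct τ w ((g : Module.End F VV) (inj w a)) = 0
    rw [ha, ct_inj, hw, zero_smul]
  have hKZ : K₁.map Λ = Z := (Submodule.eq_of_le_of_finrank_le hZle (by
    rw [← (Submodule.equivMapOfInjective _ hΛ _).finrank_eq]; omega)).symm
  have hA0 : ∀ a, ct τ w (Λ a) = 0 → Λ a ∈ Z := fun a ha => hKZ ▸ Submodule.mem_map_of_mem (f := Λ) ha
  -- a complement of the radical
  obtain ⟨Y, hY⟩ := Submodule.exists_isCompl K₁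
  set m := Module.finrank F Y with hm
  let b := Module.finBasis F Y
  have hYm : m + k ≤ Fintype.card α := by
    have := Submodule.finrank_add_eq_of_isCompl hY
    rw [Module.finrank_fintype_fun_eq_card] at this
    have h2 : k ≤ Module.finrank F K₁ := by
      rw [(Submodule.equivMapOfInjective Λ hΛ K₁).finrank_eq, hKZ]; exact hkz
    omega
  obtain ⟨r, hr⟩ : ∃ r, r + 1 = Fintype.card β / 2 := ⟨Fintype.card β / 2 - 1, by have := hM.four; omega⟩
  obtain ⟨W, hW0, hWli, hts⟩ := hτ.exists_ts hw0 hw r (by omega)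
  obtain ⟨κ, hκ0, hκ⟩ := hτ.exists_skew
  obtain ⟨ω, hω⟩ : ∃ ω : F, τ ω ≠ ω := by
    by_contra hcon
    push Not at hcon
    exact hτ.ne (RingEquiv.ext hcon)
  -- the determinant of the pairing as a polynomial
  let y : Fin m → VV := fun i => Λ (b i : α → F)
  let Φ : (Fin (r + 1) × Fin (r + 1) → F) → Matrix (Fin m) (Fin m) F := fun x =>
    Matrix.of fun i j => th τ ((jg τ W (gx τ κ ω x) : Module.End F VV) (y i)) (y j)
  let P : Matrix (Fin m) (Fin m) (MvPolynomial (Fin (r + 1) × Fin (r + 1)) F) :=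
    Matrix.of fun i j => linPoly fun p => th τ ((jg τ W (gb τ κ ω p) : Module.End F VV) (y i)) (y j)
  set f : MvPolynomial (Fin (r + 1) × Fin (r + 1)) F := MvPolynomial.C (κ ^ m)⁻¹ * P.det with hf
  have hev : ∀ x, MvPolynomial.eval x f = (κ ^ m)⁻¹ * (Φ x).det := by
    intro x
    rw [hf, map_mul, MvPolynomial.eval_C, RingHom.map_det]
    congr 2
    ext i j
    simp only [P, Φ, RingHom.mapMatrix_apply, Matrix.map_apply, Matrix.of_apply, eval_linPoly, jg_gx]
    rw [LinearMap.sum_apply]
    have e : ∀ (s : Finset (Fin (r + 1) × Fin (r + 1))) (F' : _ → VV), th τ (∑ p ∈ s, F' p) (y j) = ∑ p ∈ s, th τ (F' p) (y j) := by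
      intro s F'
      induction s using Finset.induction with
      | empty => simp [th_zero_left]
      | @insert a s ha ih => rw [Finset.sum_insert ha, Finset.sum_insert ha, th_add_left, ih]
    rw [e]
    exact Finset.sum_congr rfl fun p _ => by rw [LinearMap.smul_apply, th_smul_left, mul_comm]
  have hdeg : f.totalDegree < Fintype.card (Fin (r + 1) × Fin (r + 1)) := by
    have h1 : f.totalDegree ≤ ∑ _i : Fin m, 1 := by
      rw [hf]
      refine (MvPolynomial.totalDegree_mul _ _).trans ?_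
      rw [MvPolynomial.totalDegree_C, zero_add]
      exact totalDegree_det_le _ _ fun i j => totalDegree_linPoly _
    simp only [Finset.sum_const, Finset.card_univ, Fintype.card_fin, smul_eq_mul, mul_one] at h1
    rw [Fintype.card_prod, Fintype.card_fin]
    have := hM.lt
    have h2 : 2 * (r + 1) + 1 ≥ Fintype.card β := by omega
    have h3 : 2 ≤ r + 1 := by have := hM.four; omega
    nlinarith
  have hm0 : 0 < m := by
    by_contra hm0
    have := Submodule.finrank_add_eq_of_isCompl hY
    rw [Module.finrank_fintype_fun_eq_card] at this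
    have h2 : Module.finrank F K₁ ≤ Module.finrank F Z := by
      rw [(Submodule.equivMapOfInjective Λ hΛ K₁).finrank_eq, hKZ]
    refine hne (Submodule.eq_of_le_of_finrank_eq ?_ (by rw [finrank_map_line g hw0, finrank_line hw0]))
    have hAr : Module.finrank F Z = Module.finrank F L := le_antisymm (Submodule.finrank_mono inf_le_right)
      (by rw [finrank_map_line g hw0]; omega)
    exact (Submodule.eq_of_le_of_finrank_eq inf_le_right hAr).ge.trans inf_le_left
  haveI : Nonempty (Fin m) := Fin.pos_iff_nonempty.1 hm0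
  obtain ⟨x, hxr, hx0, hxe⟩ := hτ.exists_zero f hdeg (by
    rw [hev, show Φ 0 = 0 from ?_, Matrix.det_zero, mul_zero]
    ext i j; simp [Φ, gx, jg_zero, th_zero_left]) (fun x hx => by
    rw [hev, map_mul, map_inv₀, map_pow, hκ, RingEquiv.map_det]
    have : (τ : F ≃+* F).toRingHom.mapMatrix (Φ x) = -(Φ x)ᵀ := by
      ext i j
      simp [Φ, th_conj hτ]
      rw [th_jg hτ (skew_gx hτ hκ ω hx), neg_neg]
    show _ * ((τ : F ≃+* F).toRingHom.mapMatrix (Φ x)).det = _
    rw [this, Matrix.det_neg, Matrix.det_transpose, Fintype.card_fin, neg_pow κ m, mul_inv, ← inv_pow, inv_neg, inv_one]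
    have h1 : ((-1 : F) ^ m) * (-1) ^ m = 1 := by rw [← mul_pow]; simp
    linear_combination ((κ ^ m)⁻¹ * (Φ x).det) * h1)
  set J : Module.End F VV := jg τ W (gx τ κ ω x) with hJ
  have hskew := skew_gx (k := r + 1) hτ hκ ω hxr
  have hJA : ∀ z ∈ Z, J z = 0 := by
    rintro z ⟨⟨u, rfl⟩, -⟩
    rw [hJ, jg_apply]
    refine Finset.sum_eq_zero fun i _ => ?_
    rw [Finset.sum_eq_zero, map_zero]
    intro j _
    rw [ct_inj, ← hW0, hts, zero_smul, smul_zero]
  -- a new vector in the radical
  obtain ⟨c, hc0, hc⟩ : ∃ c : Fin m → F, c ≠ 0 ∧ c ᵥ* Φ x = 0 := by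
    refine Matrix.exists_vecMul_eq_zero_iff.2 ?_
    rw [hev] at hxe
    exact (mul_eq_zero.1 hxe).resolve_left (inv_ne_zero (pow_ne_zero _ hκ0))
  set a₀ : α → F := ∑ i, c i • (b i : α → F) with ha₀
  have hrad : ∀ a, th τ (J (Λ a₀)) (Λ a) = 0 := by
    intro a
    obtain ⟨a₁, ha₁, a₂, ha₂, rfl⟩ := Submodule.mem_sup.1 (hY.sup_eq_top ▸ Submodule.mem_top : a ∈ K₁ ⊔ Y)
    have hz : J (Λ a₁) = 0 := hJA _ (hKZ ▸ Submodule.mem_map_of_mem ha₁)
    have he : Λ a₂ = ∑ j, b.repr ⟨a₂, ha₂⟩ j • y j := by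
      have h1 := congrArg (fun v : α → F => Λ v) (congrArg Subtype.val (b.sum_repr ⟨a₂, ha₂⟩))
      simp only [Submodule.coe_sum, SetLike.val_smul, map_sum, map_smul] at h1
      exact h1.symm
    have h0 : th τ (J (Λ a₀)) (Λ a₁) = 0 := by rw [hJ, th_jg hτ hskew, ← hJ, hz, th_zero_right, neg_zero]
    rw [map_add Λ, th_add_right, h0, zero_add, he]
    have e : ∀ (s : Finset (Fin m)) (F' : Fin m → VV) (S : VV), th τ S (∑ p ∈ s, F' p) = ∑ p ∈ s, th τ S (F' p) := by
      intro s F' S
      induction s using Finset.induction with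
      | empty => simp [th_zero_right]
      | @insert a s ha ih => rw [Finset.sum_insert ha, Finset.sum_insert ha, th_add_right, ih]
    rw [e]
    refine Finset.sum_eq_zero fun j _ => ?_
    rw [th_smul_right]
    have h2 := congrFun hc j
    have e2 : th τ (J (Λ a₀)) (y j) = (c ᵥ* Φ x) j := by
      rw [ha₀, map_sum, map_sum]
      have e3 : ∀ (s : Finset (Fin m)) (F' : Fin m → VV) (S : VV), th τ (∑ p ∈ s, F' p) S = ∑ p ∈ s, th τ (F' p) S := by
        intro s F' S
        induction s using Finset.induction with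
        | empty => simp [th_zero_left]
        | @insert a s ha ih => rw [Finset.sum_insert ha, Finset.sum_insert ha, th_add_left, ih]
      rw [e3]
      exact Finset.sum_congr rfl fun i _ => by rw [map_smul, map_smul, th_smul_left]; rfl
    rw [e2, h2, Pi.zero_apply, mul_zero]
  have ha₀Y : a₀ ∈ Y := Y.sum_mem fun i _ => Y.smul_mem _ (b i).2
  have ha₀0 : a₀ ≠ 0 := fun e => hc0 (by
    have : (∑ i, c i • b i : Y) = 0 := Subtype.ext (by simpa [ha₀] using e)
    funext i
    exact Fintype.linearIndependent_iff.1 b.linearIndependent c this i)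
  obtain ⟨x₁, hx₁, ex₁⟩ := hM.mem_jg hts hκ ω hxr
  set g' := g⁻¹ * x₁ * g with hg'
  have hg'm : g' ∈ M := mul_mem (mul_mem (inv_mem hg) hx₁) hg
  have hg'v : ∀ T, (g' : Module.End F VV) T = T + ((g⁻¹ : (Module.End F VV)ˣ) : Module.End F VV) (J ((g : Module.End F VV) T)) := by
    intro T
    simp [hg', Module.End.mul_apply, ex₁, hJ, inv_apply_apply]
  by_cases hmove : (line (α := α) w).map (g' : Module.End F VV) = line w
  swap
  · refine hM.touch_or_nonRoot hg'm hw0 hw hw0 hw (nl_of_meet g' hw0 hmove ?_) (by omega) ?_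
    · intro e
      obtain ⟨z, hz, hz0⟩ := Z.exists_mem_ne_zero_of_ne_bot fun e' => by rw [e', finrank_bot] at hkz; omega
      obtain ⟨hzA, z', hz', rfl⟩ := hz
      have hm' : z' ∈ line (α := α) w ⊓ (line (α := α) w).map (g' : Module.End F VV) :=
        ⟨hz', z', hz', by rw [hg'v, hJA _ ⟨hzA, z', hz', rfl⟩, map_zero, add_zero]⟩
      rw [e, Submodule.mem_bot] at hm'
      exact hz0 (by rw [hm', map_zero])
    · have hsub : K₁ ⊔ F ∙ a₀ ≤ LinearMap.ker (ct τ w ∘ₗ (g' : Module.End F VV) ∘ₗ inj w) := by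
        have hin : ∀ a, (∀ a', th τ (J (Λ a)) (Λ a') = 0) → a ∈ LinearMap.ker (ct τ w ∘ₗ (g' : Module.End F VV) ∘ₗ inj w) := by
          intro a ha
          refine LinearMap.mem_ker.2 (hτ.eq_zero_of_forall fun u => ?_)
          rw [LinearMap.comp_apply, LinearMap.comp_apply, hg'v, map_add, ct_inj, hw, zero_smul, zero_add,
            ← th_inj_right hτ, ← hM.adj' hg]
          exact ha u
        refine sup_le (fun a ha => hin a fun a' => ?_) ((Submodule.span_singleton_le_iff_mem _ _).2 (hin a₀ hrad))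
        rw [hJA _ (hKZ ▸ Submodule.mem_map_of_mem (f := Λ) ha), th_zero_left]
      refine le_trans ?_ (Submodule.finrank_mono hsub)
      have h2 : k ≤ Module.finrank F K₁ := by
        rw [(Submodule.equivMapOfInjective Λ hΛ K₁).finrank_eq, hKZ]; exact hkz
      have h3 : Module.finrank F K₁ < Module.finrank F (K₁ ⊔ F ∙ a₀ : Submodule F (α → F)) :=
        Submodule.finrank_lt_finrank_of_lt (lt_of_le_of_ne le_sup_left fun e => ha₀0
          (Submodule.disjoint_def.1 hY.disjoint a₀ (e ▸ Submodule.mem_sup_right (Submodule.mem_span_singleton_self _)) ha₀Y))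
      omega
  -- the element stabilises the line
  refine Or.inl ?_
  have hJL : ∀ a, J (Λ a) ∈ Z := by
    intro a
    obtain ⟨a', ha'⟩ : (g' : Module.End F VV) (inj w a) ∈ line (α := α) w := by
      rw [← hmove]; exact Submodule.mem_map_of_mem (inj_mem_line w a)
    have h1 : J (Λ a) = Λ (a' - a) := by
      rw [hg'v] at ha'
      have h2 := congrArg (g : Module.End F VV) ha'
      rw [map_add, apply_inv_apply] at h2
      show J ((g : Module.End F VV) (inj w a)) = (g : Module.End F VV) (inj w (a' - a))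
      rw [map_sub, map_sub, h2]; abel
    rw [h1]
    refine hA0 _ ?_
    rw [← h1, hJ, ← hW0]
    exact ct_jg hts _ _ _
  have hrow : ∀ i, i ≠ 0 → ∀ a, (∑ j, gx τ κ ω x i j • ct τ (W j) (Λ a)) = 0 := by
    intro i hi a
    obtain ⟨u, hu⟩ := (hJL a).1
    funext l
    have h1 : ∑ i', (∑ j, gx τ κ ω x i' j • ct τ (W j) (Λ a)) l • W i' = u l • W 0 := by
      funext z
      have := congrFun (congrFun hu l) z
      rw [hJ, jg_apply, Matrix.sum_apply] at this
      rw [Finset.sum_apply, hW0]
      exact this.symm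
    have h2 := Fintype.linearIndependent_iff.1 hWli
      (fun i' => (∑ j, gx τ κ ω x i' j • ct τ (W j) (Λ a)) l - if i' = 0 then u l else 0) (by
        simp only [sub_smul, Finset.sum_sub_distrib, h1, ite_smul, zero_smul, Finset.sum_ite_eq', Finset.mem_univ,
          if_true, sub_self]) i
    simpa [hi] using h2
  by_cases hG : ∃ i j, i ≠ 0 ∧ gx τ κ ω x i j ≠ 0
  · obtain ⟨i, j₀, hi, hij⟩ := hG
    set v := ∑ j, τ (gx τ κ ω x i j) • W j with hv
    refine hM.nonRoot_of_perp hg hw (w := v) (fun e => hij ?_) ?_ hnl fun a => ?_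
    · have := Fintype.linearIndependent_iff.1 hWli _ e j₀
      simpa using this
    · rw [hv, hd_sum_left]
      refine Finset.sum_eq_zero fun l _ => ?_
      rw [hd_smul_left, show hd τ (W l) (∑ j, τ (gx τ κ ω x i j) • W j) = 0 from ?_, mul_zero]
      refine hτ.hd_symm_zero ?_
      rw [hd_sum_left]
      exact Finset.sum_eq_zero fun j _ => by rw [hd_smul_left, hts, mul_zero]
    · have e : ∀ s : Finset (Fin (r + 1)), ct τ (∑ j ∈ s, τ (gx τ κ ω x i j) • W j) (Λ a) =
          ∑ j ∈ s, gx τ κ ω x i j • ct τ (W j) (Λ a) := by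
        intro s
        induction s using Finset.induction with
        | empty => funext l; simp [ct_apply, hd_zero_right]
        | @insert a s ha ih =>
          rw [Finset.sum_insert ha, Finset.sum_insert ha, ct_add, ct_smul, hτ.invol, ih]
      show ct τ v (Λ a) = 0
      rw [hv, e, hrow i hi a]
  push Not at hG
  have hJr : ∀ T, J T = inj w (gx τ κ ω x 0 0 • ct τ w T) := by
    intro T
    rw [hJ, jg_apply, Finset.sum_eq_single 0 (fun i _ hi => ?_) (fun h => absurd (Finset.mem_univ _) h), hW0,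
      Finset.sum_eq_single 0 (fun j _ hj => ?_) (fun h => absurd (Finset.mem_univ _) h), hW0]
    · have h3 := hskew 0 j
      rw [hG j 0 hj, neg_zero, map_eq_zero_iff _ τ.injective] at h3
      rw [h3, zero_smul]
    · rw [Finset.sum_eq_zero, map_zero]
      exact fun j _ => by rw [hG i j hi, zero_smul]
  have hG0 : gx τ κ ω x 0 0 ≠ 0 := fun e => gx_ne_zero hτ hκ0 hω hxr hx0 (by
    ext i j
    by_cases hi : i = 0
    · subst hi
      by_cases hj : j = 0
      · subst hj; exact e
      · have h3 := hskew 0 j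
        rw [hG j 0 hj, neg_zero, map_eq_zero_iff _ τ.injective] at h3
        exact h3
    · exact hG i j hi)
  by_contra hN
  obtain ⟨a₁, ha₁⟩ : ∃ a, ct τ w (Λ a) ≠ 0 := by
    by_contra hcon
    push Not at hcon
    exact hN (hM.nonRoot_of_perp hg hw hw0 hw hnl hcon)
  refine hN (hM.nonRoot_of_stab (C := ((g⁻¹ : (Module.End F VV)ˣ) : Module.End F VV) * J * (g : Module.End F VV))
    hg'm ?_ ?_ ?_ hw0 hw ?_ (u₀ := a₁) ?_)
  · refine LinearMap.ext fun T => ?_
    rw [hg'v]; rfl
  · refine LinearMap.ext fun T => ?_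
    simp only [Module.End.mul_apply, apply_inv_apply, hJ]
    rw [← Module.End.mul_apply (f := jg τ W _) (g := jg τ W _), jg_mul hts]
    simp
  · rw [← finrank_map_line g⁻¹ hw0 (α := α)]
    refine Submodule.finrank_mono ?_
    rintro _ ⟨T, rfl⟩
    simp only [Module.End.mul_apply, hJr]
    exact Submodule.mem_map_of_mem (inj_mem_line _ _)
  · intro u
    obtain ⟨_, z, hz, hze⟩ := hJL u
    show ((g⁻¹ : (Module.End F VV)ˣ) : Module.End F VV) (J (Λ u)) ∈ _
    rw [← hze, inv_apply_apply]
    exact hz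
  · intro e
    have e' := map_unit_inj g⁻¹ ((e : ((g⁻¹ : (Module.End F VV)ˣ) : Module.End F VV) (J (Λ a₁)) = 0).trans (map_zero _).symm)
    rw [hJr] at e'
    exact ha₁ ((smul_eq_zero.1 (inj_injective hw0 (e'.trans (map_zero _).symm))).resolve_left hG0)

/-- Touching singular lines give a radical element. -/
theorem nonRoot_of_touch (h : TouchU τ M 1) : NonRootU τ M := by
  have key : ∀ m k : ℕ, 1 ≤ k → Fintype.card α ≤ k + m → TouchU τ M k → NonRootU τ M := by
    intro m
    induction m with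
    | zero =>
      intro k _ hk ⟨g, _, w, hw0, _, hne, hz⟩
      refine absurd ?_ hne
      have h1 := Submodule.eq_of_le_of_finrank_le (inf_le_left : line (α := α) w ⊓ _ ≤ _)
        (by rw [finrank_line hw0]; exact (show Fintype.card α ≤ _ by omega).trans hz)
      exact (Submodule.eq_of_le_of_finrank_eq (inf_eq_left.1 h1) (by rw [finrank_line hw0, finrank_map_line g hw0])).symm
    | succ m ih =>
      intro k hk hle h
      exact (hM.touch_succ hk h).elim id (ih (k + 1) (by omega) (by omega))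
  exact key (Fintype.card α) 1 le_rfl (by omega) h

end UExt

end CfsgLib.TensorMax.Unitary
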